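import Cfsg.Agent.Lib.J4Order.Model
import Cfsg.Agent.Lib.J4V.Invol.Model

/-!
# Janko four type: the explicit model follows the permutations

* `ap_comp`: the action on the subgroup composes as the permutations do;
* `fix8_eq`, `beq_idTab`, `tOrd_conj`: the data of a table used by the counts depend only on the permutation, up
  to conjugation;
* `tabConj_spec`: the fast check that one table is the conjugate of another.
-/

set_option autoImplicit false
set_option maxRecDepth 20000

namespace Cfsg.Agent.J4Order.Model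

open Cfsg Cfsg.Agent.Golay.Basic Cfsg.Agent.Golay.Design Cfsg.Agent.Golay.Perm Cfsg.Agent.Golay.M24
open Cfsg.Agent.Golay.Cert Cfsg.Agent.Golay.TabList
open Cfsg.Agent.M24CocodeSplit.Split (repWord repWord_add repWord_vec vec Word mw add_self₂ perm_congr)
open Cfsg.Agent.J4V.Invol (vec_xor vec_inj vec_enc enc_lt)

local notation "pG" => Equiv.Perm GolayPt

theorem im_length (s : El) : (im s).length = 11 := rfl

theorem im_lt (s : El) : ∀ y ∈ im s, y < 2048 := by
  intro y hy
  simp only [im, List.mem_cons, List.not_mem_nil, or_false] at hy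
  rcases hy with rfl | rfl | rfl | rfl | rfl | rfl | rfl | rfl | rfl | rfl | rfl <;>
    exact Nat.mod_lt _ (by norm_num)

theorem ap_lt (s : El) (x : ℕ) : ap s x < 2048 := enc_lt _ (im_lt s) x

theorem rep_inj : ∀ u < 2048, isCode (enc M24CocodeSplit.Data.rep u) = true → u = 0 := by decide +kernel

theorem rep_enc_lt : ∀ u < 2048, enc M24CocodeSplit.Data.rep u < 2 ^ 24 := by decide +kernel

theorem eq_of_congr {a b : ℕ} (ha : a < 2048) (hb : b < 2048)
    (h : repWord (vec a) + repWord (vec b) ∈ golayCode) : a = b := by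
  have hlt : a ^^^ b < 2048 := Nat.xor_lt_two_pow (n := 11) ha hb
  rw [← repWord_add, ← vec_xor, repWord_vec, mw, M24Module.Basic.word_mem_code, mem_supports_iff,
    mask_maskSet (rep_enc_lt _ hlt)] at h
  have := rep_inj _ hlt h
  exact Nat.xor_eq_zero_iff.1 this

/-- The permutation of an element. -/
noncomputable def perm (s : El) : pG := tabPerm s.1

theorem isTab_perm {s : El} (hs : elOK s = true) : IsTab s.1 (perm s) := by
  simp only [elOK, M24CocodeSplit.Checks.imgChk, Bool.and_eq_true] at hs
  exact isTab_tabPerm hs.1.1.1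

theorem perm_mem {s : El} (hs : elOK s = true) : perm s ∈ Cfsg.M24 := by
  simp only [elOK, M24CocodeSplit.Checks.imgChk, Bool.and_eq_true] at hs
  exact tabPerm_mem hs.1.1.1

theorem canon_el {s : El} (hs : elOK s = true) : canon s.1 = true := by
  simp only [elOK, M24CocodeSplit.Checks.imgChk, Bool.and_eq_true] at hs
  exact hs.1.1.2

theorem ap_congr {s : El} (hs : elOK s = true) (x : ℕ) :
    M24Module.Basic.permW (perm s) (repWord (vec x)) + repWord (vec (ap s x)) ∈ golayCode := by
  have h := perm_congr (t := s.1) (gi := im s) hs (isTab_perm hs) (vec x)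
  rw [← vec_enc (im s) (im_length s)] at h
  exact h

theorem congr_comp {s t : El} (hs : elOK s = true) (ht : elOK t = true) (x : ℕ) :
    M24Module.Basic.permW (perm s * perm t) (repWord (vec x)) + repWord (vec (ap s (ap t x))) ∈
      golayCode := by
  have h1 := M24Module.Basic.permW_mem_code (perm_mem hs) (ap_congr ht x)
  have h2 := ap_congr hs (ap t x)
  have h := Submodule.add_mem _ h1 h2
  convert h using 1
  funext p
  have : ∀ u v w : ZMod 2, u + w = (u + v) + (v + w) := by decide
  exact this _ _ _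

/-- The action composes as the permutations do. -/
theorem ap_comp {s t u v : El} (hs : elOK s = true) (ht : elOK t = true) (hu : elOK u = true)
    (hv : elOK v = true) (h : perm s * perm t = perm u * perm v) (x : ℕ) :
    ap s (ap t x) = ap u (ap v x) := by
  refine eq_of_congr (ap_lt _ _) (ap_lt _ _) ?_
  have h1 := Submodule.add_mem _ (congr_comp hs ht x) (congr_comp hu hv x)
  rw [h] at h1
  convert h1 using 1
  funext p
  have : ∀ u v w : ZMod 2, v + w = (u + v) + (u + w) := by decide
  exact this _ _ _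

theorem ap_inv {s t : El} (hs : elOK s = true) (ht : elOK t = true) (h : perm s * perm t = 1) {x : ℕ}
    (hx : x < 2048) : ap s (ap t x) = x := by
  refine eq_of_congr (ap_lt _ _) hx ?_
  have h1 := congr_comp hs ht x
  rw [h, M24Module.Basic.permW_one, add_comm] at h1
  exact h1

theorem beq_idTab {s : El} (hs : elOK s = true) : Nat.beq s.1 idTab = true ↔ perm s = 1 := by
  constructor
  · intro h
    rw [perm, Nat.eq_of_beq_eq_true h, tabPerm_idTab]
  · intro h
    rw [eq_of_isTab (canon_el hs) canon_idTab (isTab_perm hs) (by rw [h]; exact isTab_one)]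
    exact Nat.beq_refl _

theorem countP_fix {t : ℕ} {g : pG} (h : IsTab t g) :
    ((List.range 24).countP fun i => Nat.beq (tabAt t i) i) =
      (Finset.univ.filter fun p => g p = p).card := by
  have e : ((List.range 24).countP fun i => Nat.beq (tabAt t i) i) =
      ((Finset.range 24).filter fun i => tabAt t i = i).card := by
    rw [List.countP_eq_length_filter, ← List.toFinset_card_of_nodup (List.nodup_range.filter _),
      List.toFinset_filter, List.toFinset_range]
    exact congrArg Finset.card (Finset.filter_congr fun i _ => by simp [Nat.beq_eq])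
  rw [e]
  refine Finset.card_bij' (fun i _ => pt i) (fun p _ => ix p) (fun i hi => ?_) (fun p hp => ?_)
    (fun i hi => ix_pt (by simp at hi; exact hi.1)) (fun p _ => pt_ix p)
  · simp only [Finset.mem_filter, Finset.mem_range] at hi
    refine Finset.mem_filter.2 ⟨Finset.mem_univ _, ix_injective ?_⟩
    rw [h, ix_pt hi.1, hi.2]
  · simp only [Finset.mem_filter] at hp
    exact Finset.mem_filter.2 ⟨Finset.mem_range.2 (ix_lt p), by rw [← h, hp.2]⟩

theorem card_fix_conj (g h : pG) : (Finset.univ.filter fun p => (h * g * h⁻¹) p = p).card =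
    (Finset.univ.filter fun p => g p = p).card := by
  refine Finset.card_bij' (fun p _ => h⁻¹ p) (fun p _ => h p) (fun p hp => ?_) (fun p hp => ?_)
    (fun p _ => by simp) (fun p _ => by simp)
  · have hp' := (Finset.mem_filter.1 hp).2
    refine Finset.mem_filter.2 ⟨Finset.mem_univ _, ?_⟩
    rw [Equiv.Perm.mul_apply, Equiv.Perm.mul_apply] at hp'
    exact (Equiv.Perm.eq_inv_iff_eq.2 hp')
  · have hp' := (Finset.mem_filter.1 hp).2
    refine Finset.mem_filter.2 ⟨Finset.mem_univ _, ?_⟩
    rw [Equiv.Perm.mul_apply, Equiv.Perm.mul_apply, show h⁻¹ (h p) = p from h.symm_apply_apply p, hp']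

theorem fix8_eq {s u : El} (hs : elOK s = true) (hu : elOK u = true) {h : pG}
    (e : perm u = h * perm s * h⁻¹) : fix8 u.1 = fix8 s.1 := by
  rw [fix8, fix8, countP_fix (isTab_perm hu), countP_fix (isTab_perm hs), e, card_fix_conj]

section

attribute [local irreducible] mulTab canon idTab tabPerm

theorem ordAux_conj {r r' : ℕ} {g h : pG} (hr : IsTab r g) (hr' : IsTab r' (h * g * h⁻¹)) :
    ∀ (fuel : ℕ) {p p' : ℕ} {π : pG} (k : ℕ), IsTab p π → canon p = true →
      IsTab p' (h * π * h⁻¹) → canon p' = true → ordAux r fuel p k = ordAux r' fuel p' k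
  | 0, _, _, _, _, _, _, _, _ => rfl
  | fuel + 1, p, p', π, k, hp, cp, hp', cp' => by
    have key : Nat.beq p idTab = Nat.beq p' idTab := by
      rw [Bool.eq_iff_iff, Nat.beq_eq, Nat.beq_eq]
      constructor
      · rintro rfl
        refine eq_of_isTab cp' canon_idTab hp' ?_
        rw [hp.unique isTab_one, mul_one, mul_inv_cancel]
        exact isTab_one
      · rintro rfl
        refine eq_of_isTab cp canon_idTab hp ?_
        have h1 : h * π * h⁻¹ = 1 := hp'.unique isTab_one
        rw [show π = 1 from conj_eq_one_iff.1 h1]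
        exact isTab_one
    simp only [ordAux]
    rw [key, ordAux_conj hr hr' fuel (k + 1) (π := g * π) (isTab_mul hr hp) (canon_mulTab _ _)
      (by rw [show h * (g * π) * h⁻¹ = (h * g * h⁻¹) * (h * π * h⁻¹) by group]; exact isTab_mul hr' hp')
      (canon_mulTab _ _)]

theorem nOf_eq {s s' u u' : El} (hs : elOK s = true) (hs' : elOK s' = true) (hu : elOK u = true)
    (hu' : elOK u' = true) {h : pG} (e : perm u = h * perm s * h⁻¹) (e' : perm u' = h * perm s' * h⁻¹) :
    nOf u u' = nOf s s' := by
  have h1 := isTab_mul (isTab_perm hs) (isTab_perm hs')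
  have h2 := isTab_mul (isTab_perm hu) (isTab_perm hu')
  rw [e, e', show (h * perm s * h⁻¹) * (h * perm s' * h⁻¹) = h * (perm s * perm s') * h⁻¹ by group] at h2
  exact (ordAux_conj h1 h2 23 1 h1 (canon_mulTab _ _) h2 (canon_mulTab _ _)).symm

end

/-- `c` is the conjugate of `p` by `h`, on tables. -/
def tabConj (h p c : ℕ) : Bool :=
    Nat.beq (tabAt h (tabAt p 0)) (tabAt c (tabAt h 0)) &&
    Nat.beq (tabAt h (tabAt p 1)) (tabAt c (tabAt h 1)) &&
    Nat.beq (tabAt h (tabAt p 2)) (tabAt c (tabAt h 2)) &&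
    Nat.beq (tabAt h (tabAt p 3)) (tabAt c (tabAt h 3)) &&
    Nat.beq (tabAt h (tabAt p 4)) (tabAt c (tabAt h 4)) &&
    Nat.beq (tabAt h (tabAt p 5)) (tabAt c (tabAt h 5)) &&
    Nat.beq (tabAt h (tabAt p 6)) (tabAt c (tabAt h 6)) &&
    Nat.beq (tabAt h (tabAt p 7)) (tabAt c (tabAt h 7)) &&
    Nat.beq (tabAt h (tabAt p 8)) (tabAt c (tabAt h 8)) &&
    Nat.beq (tabAt h (tabAt p 9)) (tabAt c (tabAt h 9)) &&
    Nat.beq (tabAt h (tabAt p 10)) (tabAt c (tabAt h 10)) &&
    Nat.beq (tabAt h (tabAt p 11)) (tabAt c (tabAt h 11)) &&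
    Nat.beq (tabAt h (tabAt p 12)) (tabAt c (tabAt h 12)) &&
    Nat.beq (tabAt h (tabAt p 13)) (tabAt c (tabAt h 13)) &&
    Nat.beq (tabAt h (tabAt p 14)) (tabAt c (tabAt h 14)) &&
    Nat.beq (tabAt h (tabAt p 15)) (tabAt c (tabAt h 15)) &&
    Nat.beq (tabAt h (tabAt p 16)) (tabAt c (tabAt h 16)) &&
    Nat.beq (tabAt h (tabAt p 17)) (tabAt c (tabAt h 17)) &&
    Nat.beq (tabAt h (tabAt p 18)) (tabAt c (tabAt h 18)) &&
    Nat.beq (tabAt h (tabAt p 19)) (tabAt c (tabAt h 19)) &&
    Nat.beq (tabAt h (tabAt p 20)) (tabAt c (tabAt h 20)) &&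
    Nat.beq (tabAt h (tabAt p 21)) (tabAt c (tabAt h 21)) &&
    Nat.beq (tabAt h (tabAt p 22)) (tabAt c (tabAt h 22)) &&
    Nat.beq (tabAt h (tabAt p 23)) (tabAt c (tabAt h 23))

theorem tabConj_spec {h p c : El} (hh : elOK h = true) (hp : elOK p = true) (hc : elOK c = true)
    (hchk : tabConj h.1 p.1 c.1 = true) : perm c = perm h * perm p * (perm h)⁻¹ := by
  simp only [tabConj, Bool.and_eq_true, Nat.beq_eq] at hchk
  have key : ∀ i < 24, tabAt h.1 (tabAt p.1 i) = tabAt c.1 (tabAt h.1 i) := by
    intro i hi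
    interval_cases i <;> simp [hchk]
  rw [eq_mul_inv_iff_mul_eq]
  refine Equiv.ext fun q => ix_injective ?_
  rw [Equiv.Perm.mul_apply, Equiv.Perm.mul_apply, isTab_perm hc, isTab_perm hh, isTab_perm hh,
    isTab_perm hp]
  exact (key _ (ix_lt q)).symm

end Cfsg.Agent.J4Order.Model
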