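import Cfsg.Agent.Lib.J4Order.Dict
import Cfsg.Agent.Lib.J4V.Cent

/-!
# Janko four type: pairs of involutions over a list of the model

* `Spec`: what is asked of a list of elements of the model;
* `pairs_card`: the pairs with `d` in the group of their product are counted by `total`;
* `card_at`: the pairs with the duad in the group of their product.
-/

set_option autoImplicit false
set_option maxRecDepth 20000
set_option linter.style.haveILetI false
set_option linter.unusedSectionVars false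

namespace Cfsg.Agent.J4Order.Dict

open Subgroup
open Cfsg Cfsg.Agent.Golay.Basic Cfsg.Agent.Golay.Cert Cfsg.Agent.Golay.TabList
open Cfsg.Agent.Golay.M24
open Cfsg.Agent.J4Local Cfsg.Agent.J4Eleven
open Cfsg.Agent.J4V.Split (NV VN)
open Cfsg.Agent.J4Order.Model
open Cfsg.Agent.J4V.Invol.Checks (duads vx root)

universe u

/-- A list of elements of order at most two of the complement, with the orders of the products right. -/
structure Spec (L : List El) : Prop where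
  ok : ∀ s ∈ L, elOK s = true
  sq : ∀ s ∈ L, perm s * perm s = 1
  nodup : (L.map Prod.fst).Nodup
  ord : ∀ s ∈ L, ∀ s' ∈ L, (perm s * perm s') ^ nOf s s' = 1

/-- The duad. -/
theorem duad_facts : J4Order.Model.tv < 2048 ∧ J4Order.Model.tv ≠ 0 :=
  ⟨by decide +kernel, by decide +kernel⟩

variable {G : Type u} [Group G] [Finite G] {z : G} {P : Subgroup G} {X : Chart z P} (M : J4V.Invol.Model X)

/-- Over the list. -/
def Over (L : List El) (n : G) : Prop := ∃ s ∈ L, ∃ a < 2048, n = elM M a s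

/-- The pairs of an involution of the class of `z` and another one, with `d` in the group of the product. -/
def pairSet (L : List El) (d : ℕ) : Set (G × G) :=
  {p | Over M L p.1 ∧ Over M L p.2 ∧ IsConj z p.1 ∧ (p.2 * p.2 = 1 ∧ p.2 ≠ 1 ∧ ¬ IsConj z p.2) ∧
    M.iv d ∈ zpowers (p.1 * p.2)}

theorem sum_countP (l l' : List ℕ) (hl : l.Nodup) (hl' : l'.Nodup) (P : ℕ → ℕ → Bool) :
    (l.map fun a => l'.countP (P a)).sum = ((l.toFinset ×ˢ l'.toFinset).filter fun q => P q.1 q.2 = true).card := by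
  classical
  rw [← List.sum_toFinset _ hl, Finset.card_filter, Finset.sum_product]
  refine Finset.sum_congr rfl fun a _ => ?_
  rw [← Finset.card_filter, List.countP_eq_length_filter, ← List.toFinset_card_of_nodup (hl'.filter _),
    List.toFinset_filter]

theorem fst_inj {L : List El} (h : Spec L) {s s' : El} (hs : s ∈ L) (hs' : s' ∈ L) (e : s.1 = s'.1) : s = s' :=
  List.inj_on_of_nodup_map h.nodup hs hs' e

variable [IsSimpleGroup G] (hG : ¬ IsMulCommutative G) (hgood : ¬ IsConj z (M.elt (root 2)))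

include hG hgood

theorem pairs_card {L : List El} (h : Spec L) {d : ℕ} (hd : d < 2048) (hd0 : d ≠ 0) :
    (pairSet M L d).ncard = total d L := by
  classical
  have hLn : L.Nodup := h.nodup.of_map _
  let T : Finset ((El × El) × ℕ × ℕ) := (L.toFinset ×ˢ L.toFinset).biUnion fun p =>
    (((zList p.1).toFinset ×ˢ (tList p.2).toFinset).filter fun q =>
      Nat.beq (tgt p.1 p.2 q.1 q.2) d = true).image fun q => (p, q)
  have memT : ∀ p q, (p, q) ∈ T ↔ (p.1 ∈ L ∧ p.2 ∈ L) ∧ (q.1 ∈ zList p.1 ∧ q.2 ∈ tList p.2) ∧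
      tgt p.1 p.2 q.1 q.2 = d := by
    intro p q
    simp only [T, Finset.mem_biUnion, Finset.mem_product, Finset.mem_image, Finset.mem_filter,
      List.mem_toFinset, Prod.mk.injEq]
    constructor
    · rintro ⟨p', hp, q', ⟨hq, hb⟩, rfl, rfl⟩
      exact ⟨hp, hq, Nat.eq_of_beq_eq_true hb⟩
    · rintro ⟨hp, hq, hb⟩
      exact ⟨p, hp, q, ⟨hq, by rw [hb]; exact Nat.beq_refl _⟩, rfl, rfl⟩
  have hcard : T.card = total d L := by
    rw [Finset.card_biUnion]
    swap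
    · intro p _ p' _ hne
      rw [Function.onFun, Finset.disjoint_left]
      intro x hx hx'
      simp only [Finset.mem_image] at hx hx'
      obtain ⟨q, -, rfl⟩ := hx
      obtain ⟨q', -, e⟩ := hx'
      exact hne (congrArg Prod.fst e).symm
    rw [total, ← List.sum_toFinset _ hLn, Finset.sum_product]
    refine Finset.sum_congr rfl fun s _ => ?_
    rw [← List.sum_toFinset _ hLn]
    refine Finset.sum_congr rfl fun s' _ => ?_
    rw [Finset.card_image_of_injective _ fun q q' e => (Prod.mk.injEq .. ▸ e : _ ∧ _).2, pairCount,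
      sum_countP (zList s) (tList s') (List.nodup_range.filter _) (List.nodup_range.filter _)]
  rw [← hcard, ← Set.ncard_coe_finset]
  symm
  refine Set.ncard_congr (fun x _ => (elM M x.2.1 x.1.1, elM M x.2.2 x.1.2)) ?_ ?_ ?_
  · rintro ⟨⟨s, s'⟩, a, b⟩ hx
    obtain ⟨⟨hs, hs'⟩, ⟨ha, hb⟩, e⟩ := (memT (s, s') (a, b)).1 hx
    obtain ⟨ha', haz⟩ := mem_zList.1 ha
    obtain ⟨hb', hbt⟩ := mem_tList.1 hb
    exact ⟨⟨s, hs, a, ha', rfl⟩, ⟨s', hs', b, hb', rfl⟩,
      (zty_iff M hG hgood (h.ok s hs) (h.sq s hs) ha').1 haz,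
      (tty_iff M hG hgood (h.ok s' hs') (h.sq s' hs') hb').1 hbt,
      (mem_zpowers_iff_tgt M hG (h.ok s hs) (h.ok s' hs') (h.ord s hs s' hs') ha' hd hd0).2 e⟩
  · rintro ⟨⟨s, s'⟩, a, b⟩ ⟨⟨r, r'⟩, a₂, b₂⟩ hx hy e
    obtain ⟨⟨hs, hs'⟩, ⟨ha, hb⟩, -⟩ := (memT (s, s') (a, b)).1 hx
    obtain ⟨⟨hr, hr'⟩, ⟨ha₂, hb₂⟩, -⟩ := (memT (r, r') (a₂, b₂)).1 hy
    simp only [Prod.mk.injEq] at e
    dsimp only at hs hs' hr hr' ha hb ha₂ hb₂
    obtain ⟨rfl, e1⟩ := elM_inj M (h.ok s hs) (h.ok r hr) (mem_zList.1 ha).1 (mem_zList.1 ha₂).1 e.1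
    obtain ⟨rfl, e2⟩ := elM_inj M (h.ok s' hs') (h.ok r' hr') (mem_tList.1 hb).1 (mem_tList.1 hb₂).1 e.2
    rw [fst_inj h hs hr e1, fst_inj h hs' hr' e2]
  · rintro ⟨u, v⟩ ⟨⟨s, hs, a, ha, rfl⟩, ⟨s', hs', b, hb, rfl⟩, hz, ht, hdz⟩
    exact ⟨((s, s'), a, b), Finset.mem_coe.2 ((memT (s, s') (a, b)).2 ⟨⟨hs, hs'⟩,
      ⟨mem_zList.2 ⟨ha, (zty_iff M hG hgood (h.ok s hs) (h.sq s hs) ha).2 hz⟩,
        mem_tList.2 ⟨hb, (tty_iff M hG hgood (h.ok s' hs') (h.sq s' hs') hb).2 ht⟩⟩,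
      (mem_zpowers_iff_tgt M hG (h.ok s hs) (h.ok s' hs') (h.ord s hs s' hs') ha hd hd0).1 hdz⟩), rfl⟩

omit hgood

omit hG in
theorem centralize_of_mem_zpowers {u v t : G} (hu : u * u = 1) (hv : v * v = 1) (ht : t * t = 1)
    (h : t ∈ zpowers (u * v)) : u * t = t * u ∧ v * t = t * v := by
  obtain ⟨i, rfl⟩ := mem_zpowers_iff.1 h
  have hui : u⁻¹ = u := inv_eq_of_mul_eq_one_right hu
  have hvi : v⁻¹ = v := inv_eq_of_mul_eq_one_right hv
  have hinv : ((u * v) ^ i)⁻¹ = (u * v) ^ i := inv_eq_of_mul_eq_one_right ht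
  have e1 : u * (u * v) ^ i * u⁻¹ = (u * v) ^ i := by
    rw [← conj_zpow, show u * (u * v) * u⁻¹ = (u * v)⁻¹ by rw [mul_inv_rev, hui, hvi, ← mul_assoc, hu, one_mul],
      inv_zpow, hinv]
  have e2 : v * (u * v) ^ i * v⁻¹ = (u * v) ^ i := by
    rw [← conj_zpow, show v * (u * v) * v⁻¹ = (u * v)⁻¹ by rw [mul_inv_rev, mul_assoc, mul_inv_cancel_right, hui, hvi],
      inv_zpow, hinv]
  exact ⟨mul_inv_eq_iff_eq_mul.1 e1, mul_inv_eq_iff_eq_mul.1 e2⟩

theorem tv_other : M.iv tv ∈ X.std ∧ M.iv tv ≠ 1 ∧ ¬ IsConj z (M.iv tv) := by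
  have h : M.iv tv ∈ M.duadSet := ⟨tv, J4V.Invol.mem_duads (by norm_num) (by norm_num) (by norm_num), rfl⟩
  rw [← M.others_eq hG] at h
  exact h

include hgood

/-- The involutions of the second class. -/
theorem isConj_tv_iff {v : G} : IsConj (M.iv tv) v ↔ v * v = 1 ∧ v ≠ 1 ∧ ¬ IsConj z v := by
  obtain ⟨ht, ht1, htn⟩ := tv_other M hG
  constructor
  · intro h
    obtain ⟨g, rfl⟩ := isConj_iff.1 h
    refine ⟨?_, fun e => ht1 (conj_eq_one_iff.1 e), fun h' => htn (h'.trans h.symm)⟩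
    rw [show g * M.iv tv * g⁻¹ * (g * M.iv tv * g⁻¹) = g * (M.iv tv * M.iv tv) * g⁻¹ by group, M.iv_sq]
    group
  · rintro ⟨h2, h1, hn⟩
    obtain ⟨g, hg⟩ := M.exists_conj_mem hG h2
    obtain ⟨n, -, e⟩ := X.others_conj hG ht ht1 htn hg (fun e => h1 (conj_eq_one_iff.1 e))
      (fun h => hn (h.trans (isConj_iff.2 ⟨g, rfl⟩).symm))
    exact (isConj_iff.2 ⟨n, e⟩).trans (isConj_iff.2 ⟨g, rfl⟩).symm

theorem card_at {L : List El} (h : Spec L)
    (hcomplete : ∀ t, tabOK t = true → fixDuad t = true → tabPerm t * tabPerm t = 1 →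
      ∃ s ∈ L, perm s = tabPerm t) :
    Nat.card {p : G × G // IsConj z p.1 ∧ IsConj (M.iv tv) p.2 ∧ M.iv tv ∈ zpowers (p.1 * p.2)} = total tv L := by
  obtain ⟨hdlt, hd0⟩ := duad_facts
  obtain ⟨ht, ht1, htn⟩ := tv_other M hG
  rw [← pairs_card M hG hgood h hdlt hd0, ← Nat.card_coe_set_eq]
  refine Nat.card_congr (Equiv.subtypeEquivRight fun p => ?_)
  obtain ⟨u, v⟩ := p
  constructor
  · rintro ⟨hu, hv, hm⟩
    have hv' := (isConj_tv_iff M hG hgood).1 hv
    have hu2 : u * u = 1 := by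
      obtain ⟨g, rfl⟩ := isConj_iff.1 hu
      rw [show g * z * g⁻¹ * (g * z * g⁻¹) = g * (z * z) * g⁻¹ by group, X.zz]; group
    obtain ⟨cu, cv⟩ := centralize_of_mem_zpowers hu2 hv'.1 (M.iv_sq tv) hm
    have hover : ∀ x : G, x * x = 1 → x * M.iv tv = M.iv tv * x → Over M L x := by
      intro x hx2 hxc
      have hxN : x ∈ NV X.std :=
        X.centralizer_le_of_not_zt hG ht ht1 htn (mem_centralizer_singleton_iff.2 hxc)
      obtain ⟨a, ha, k, hk, rfl⟩ := M.decomp hxN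
      set σ : ↥Cfsg.M24 := M.pr ⟨k, M.hK hk⟩ with hσ
      have htok : ∀ g : ↥Cfsg.M24, ∃ t, tabOK t = true ∧ IsTab t ((g : Equiv.Perm GolayPt)) := by
        intro g
        obtain ⟨t, ht', ht''⟩ := exists_tab g.2
        exact ⟨t, ht'.1, ht''⟩
      obtain ⟨t, htk, htI⟩ := htok σ
      have hperm : tabPerm t = ((σ : ↥Cfsg.M24) : Equiv.Perm GolayPt) := (isTab_tabPerm htk).unique htI
      have hσ2 : σ * σ = 1 := by
        have e : M.pr ⟨M.iv a * k, hxN⟩ = σ := by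
          rw [show (⟨M.iv a * k, hxN⟩ : ↥(NV X.std)) = ⟨M.iv a, M.iv_mem_NV a⟩ * ⟨k, M.hK hk⟩ from rfl, map_mul,
            show M.pr ⟨M.iv a, M.iv_mem_NV a⟩ = 1 from
              (Cfsg.Agent.M24CocodeSplit.Split.proj_eq_one (VN X.std) M.φ).2 (M.iv_mem a), one_mul]
        rw [← e, ← map_mul, show (⟨M.iv a * k, hxN⟩ * ⟨M.iv a * k, hxN⟩ : ↥(NV X.std)) = 1 from Subtype.ext hx2,
          map_one]
      have hkc : k * M.iv tv * k⁻¹ = M.iv tv := by
        calc k * M.iv tv * k⁻¹ = (M.iv a)⁻¹ * (M.iv a * k * M.iv tv) * k⁻¹ := by group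
          _ = (M.iv a)⁻¹ * M.iv tv * M.iv a := by rw [hxc]; group
          _ = M.iv tv := by rw [mul_assoc, M.iv_comm tv a, inv_mul_cancel_left]
      rw [show M.iv tv = M.iv (vx 23 0) from rfl, M.conj_pair (M.hK hk) (by norm_num : (23 : ℕ) < 24)
        (by norm_num : (0 : ℕ) < 24)] at hkc
      have hne : M.im ⟨k, M.hK hk⟩ 23 ≠ M.im ⟨k, M.hK hk⟩ 0 := fun e =>
        absurd (J4V.Invol.pim_inj ((σ : ↥Cfsg.M24) : Equiv.Perm GolayPt) (by norm_num) (by norm_num) e) (by norm_num)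
      have himg : ∀ i < 24, M.im ⟨k, M.hK hk⟩ i = tabAt t i := fun i hi => by
        rw [J4V.Invol.Ident.im, ← hσ, htI (pt i), ix_pt hi]
      have hpair := J4V.Invol.pair_inj (ix_lt _) (ix_lt _) (by norm_num : (23 : ℕ) < 24)
        (by norm_num : (0 : ℕ) < 24) hne (by norm_num)
        (M.iv_inj (J4V.Invol.duads_facts.2.2.2.2.2.2 _ (J4V.Invol.mem_duads (ix_lt _) (ix_lt _) hne)) hdlt hkc)
      have hfix : fixDuad t = true := by
        have h23 := himg 23 (by norm_num)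
        have h0 := himg 0 (by norm_num)
        simp only [J4V.Invol.Ident.im] at h23 h0 hpair
        rcases hpair with ⟨p1, p2⟩ | ⟨p1, p2⟩ <;> rw [h23] at p1 <;> rw [h0] at p2 <;>
          simp [fixDuad, p1, p2]
      obtain ⟨s, hs, e⟩ := hcomplete t htk hfix (by rw [hperm, ← Subgroup.coe_mul, hσ2, Subgroup.coe_one])
      refine ⟨s, hs, a, ha, ?_⟩
      rw [elM, kE_eq M (h.ok s hs) hk ⟨M.hK hk, ?_⟩]
      rw [← hperm, ← e]
      exact isTab_tabPerm (tabOK_of (h.ok s hs)).1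
    exact ⟨hover u hu2 cu, hover v hv'.1 cv, hu, hv', hm⟩
  · rintro ⟨-, -, hu, hv, hm⟩
    exact ⟨hu, (isConj_tv_iff M hG hgood).2 hv, hm⟩

end Cfsg.Agent.J4Order.Dict
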