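import Cfsg.Agent.Lib.J4Order.Hexads
import Cfsg.Agent.Lib.J4V.Unique
import Cfsg.Agent.Lib.J4V.Local

/-!
# Janko four type: the 77 sets of 36 involutions of `E` of the second class

* `exists_hexad`, `hexad_unique`: such an involution lies in exactly one of the 77;
* `side_ncard`: each has 36 of them;
* `side_pair`: how two of them in one lie together.
-/

set_option autoImplicit false
set_option linter.style.haveILetI false
set_option linter.unusedSectionVars false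

namespace Cfsg.Agent.J4Order

open Subgroup
open Cfsg.Agent.J4Local
open Cfsg.Agent.J4Eleven

universe u

variable {G : Type u} [Group G] [Finite G] {z : G} {P : Subgroup G}

/-- The involutions of `E` of the second class. -/
def TT (z : G) : Set G := {g | g ∈ EE z ∧ g * g = 1 ∧ g ≠ 1 ∧ ¬ IsConj z g}

/-- Those in one of the 77. -/
def side (z : G) (A : Subgroup G) : Set G := {g | g ∈ A ∧ g ∈ TT z}

theorem TT_conj {d g : G} (hd : d ∈ HH z) (hg : g ∈ TT z) : d * g * d⁻¹ ∈ TT z := by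
  obtain ⟨h1, h2, h3, h4⟩ := hg
  refine ⟨conj_mem_EE hd h1, ?_, fun e => h3 (conj_eq_one_iff.1 e),
    fun h => h4 (h.trans (isConj_iff.2 ⟨d, rfl⟩).symm)⟩
  rw [show d * g * d⁻¹ * (d * g * d⁻¹) = d * (g * g) * d⁻¹ by group, h2]
  group

theorem TT_conj_iff {d g : G} (hd : d ∈ HH z) : d * g * d⁻¹ ∈ TT z ↔ g ∈ TT z :=
  ⟨fun h => by simpa [mul_assoc] using TT_conj (inv_mem hd) h, TT_conj hd⟩

variable (X : Chart z P)

include X

theorem z_mem_of_eleven {A : Subgroup G} (hA : Eleven z A) : z ∈ A := by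
  obtain ⟨d, hd, rfl⟩ := exists_std X hA
  refine ⟨z, X.z_mem_std, ?_⟩
  show d * z * d⁻¹ = z
  rw [mem_HH.1 hd.1, mul_inv_cancel_right]

variable [IsSimpleGroup G] (hG : ¬ IsMulCommutative G)

include hG

theorem side_std : side z X.std = {g | g ∈ preV X.L.J X.WV ∧ vk z g ∈ X.five} := by
  ext g
  constructor
  · rintro ⟨hg, hE, -, h1, hn⟩
    have hW := X.std_inf_EE hg hE
    exact ⟨hW, X.five_of_not_zt hG hW h1 hn⟩
  · rintro ⟨hW, h5⟩
    obtain ⟨⟨h1, h2, h3⟩, -⟩ := (X.pair_z hG).2 ⟨hW, h5⟩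
    exact ⟨h1, hW.1, X.std_eleven.sq g h1, h2, h3⟩

theorem side_ncard {A : Subgroup G} (hA : Eleven z A) : (side z A).ncard = 36 := by
  obtain ⟨d, hd, rfl⟩ := exists_std X hA
  have e : side z (cjS d X.std) = (fun g => d * g * d⁻¹) '' side z X.std := by
    ext g
    constructor
    · rintro ⟨⟨a, ha, rfl⟩, hg⟩
      exact ⟨a, ⟨ha, (TT_conj_iff hd.1).1 hg⟩, rfl⟩
    · rintro ⟨a, ⟨ha, hg⟩, rfl⟩
      exact ⟨⟨a, ha, rfl⟩, TT_conj hd.1 hg⟩
  rw [e, Set.ncard_image_of_injective _ fun a b h => mul_left_cancel (mul_right_cancel h), side_std X hG,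
    ← X.local36_z hG]
  congr 1
  ext g
  exact (X.pair_z hG).symm

theorem hexad_unique {A B : Subgroup G} (hA : Eleven z A) (hB : Eleven z B) {f : G} (hfA : f ∈ side z A)
    (hfB : f ∈ B) : A = B := by
  obtain ⟨d, hd, rfl⟩ := exists_std X hA
  obtain ⟨⟨a, ha, rfl⟩, hT⟩ := hfA
  obtain ⟨-, -, h1, hn⟩ := (TT_conj_iff hd.1).1 hT
  have hB' : Eleven z (cjS d⁻¹ B) := hB.conj (inv_mem hd.1)
  have haB : a ∈ cjS d⁻¹ B := by
    rw [mem_cjS, inv_inv]; exact hfB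
  have e := X.eq_std_of_other hG hB' haB ha h1 hn
  rw [← e, cjS_cjS, mul_inv_cancel, cjS_one]

theorem exists_hexad {f : G} (hf : f ∈ TT z) (hU : ∃ d ∈ CC z P, act z d (vk z f) ∈ X.WV) :
    ∃ A, Eleven z A ∧ f ∈ side z A := by
  obtain ⟨d, hd, hdW⟩ := hU
  rw [act_vk hd.1 hf.1] at hdW
  refine ⟨cjS d⁻¹ X.std, X.std_eleven.conj (inv_mem hd.1), ?_, hf⟩
  rw [mem_cjS, inv_inv]
  exact X.preV_le_std ⟨conj_mem_EE hd.1 hf.1, hdW⟩

omit hG in
theorem ln_conj {d : G} (hd : d ∈ CC z P) {v w : VV z} (hv : v ∈ X.ln w) : act z d v ∈ X.ln (act z d w) := by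
  have hJ := X.L.J
  have hc : ∀ u, act z d (act z X.pp u) = act z X.pp (act z d u) := fun u =>
    act_inner hJ (CC_le_H0 z P hd) X.pp_mem u
  rcases (mem_line hJ).1 hv with rfl | rfl | rfl | rfl
  · rw [map_zero]; exact zero_mem _
  · exact self_mem_line _ _ _
  · rw [hc]; exact act_self_mem_line _ _ _
  · rw [map_add, hc]; exact (mem_line hJ).2 (Or.inr (Or.inr (Or.inr rfl)))

/-- In one of the 77: on the line, or commuting with the whole line and with all products of the other sort. -/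
theorem side_pair {A : Subgroup G} (hA : Eleven z A) {f g h : G} (hf : f ∈ side z A) (hg : g ∈ side z A)
    (hh : h ∈ side z A) (hline : vk z h ∈ X.ln (vk z f)) :
    vk z g ∈ X.ln (vk z f) ∨ (g * h = h * g ∧ g * h ∉ TT z) := by
  obtain ⟨d, hd, rfl⟩ := exists_std X hA
  obtain ⟨⟨a, ha, rfl⟩, hfT⟩ := hf
  obtain ⟨⟨b, hb, rfl⟩, hgT⟩ := hg
  obtain ⟨⟨c, hc, rfl⟩, hhT⟩ := hh
  have mem : ∀ {x}, x ∈ X.std → d * x * d⁻¹ ∈ TT z → x ∈ preV X.L.J X.WV ∧ vk z x ∈ X.five := fun hx hT => by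
    have h : _ ∈ side z X.std := ⟨hx, (TT_conj_iff hd.1).1 hT⟩
    rwa [side_std X hG] at h
  obtain ⟨haW, ha5⟩ := mem ha hfT
  obtain ⟨hbW, hb5⟩ := mem hb hgT
  obtain ⟨hcW, hc5⟩ := mem hc hhT
  change vk z (d * c * d⁻¹) ∈ X.ln (vk z (d * a * d⁻¹)) at hline
  show vk z (d * b * d⁻¹) ∈ X.ln (vk z (d * a * d⁻¹)) ∨ _
  rw [← act_vk hd.1 haW.1, ← act_vk hd.1 hcW.1] at hline
  have hline' : vk z c ∈ X.ln (vk z a) := by
    have := ln_conj X (inv_mem hd) hline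
    rwa [act_inv_act hd.1, act_inv_act hd.1] at this
  by_cases hb' : vk z b ∈ X.ln (vk z a)
  · left
    rw [← act_vk hd.1 haW.1, ← act_vk hd.1 hbW.1]
    exact ln_conj X hd hb'
  · right
    show d * b * d⁻¹ * (d * c * d⁻¹) = d * c * d⁻¹ * (d * b * d⁻¹) ∧ d * b * d⁻¹ * (d * c * d⁻¹) ∉ TT z
    have hcomm : b * c = c * b := X.preV_comm hbW hcW
    refine ⟨?_, fun hT => ?_⟩
    · rw [show d * b * d⁻¹ * (d * c * d⁻¹) = d * (b * c) * d⁻¹ by group, hcomm]; group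
    rw [show d * b * d⁻¹ * (d * c * d⁻¹) = d * (b * c) * d⁻¹ by group] at hT
    have h' : b * c ∈ side z X.std := ⟨mul_mem hb hc, (TT_conj_iff hd.1).1 hT⟩
    rw [side_std X hG] at h'
    have h5 := h'.2
    rw [hcomm, vk_mul hcW.1 hbW.1] at h5
    refine X.five_add hc5 hb5 ?_ h5
    rw [X.ln_eq hline' hc5.2.1]
    exact hb'

end Cfsg.Agent.J4Order
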