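import Cfsg.Agent.Lib.J4Order.Engine

/-!
# Janko four type: completeness of a list of elements of order at most two, orders of the products

* `nOf_pow`: the computed order is one, unless the search ran out;
* `closed_of_gens`: a list closed under conjugation by generators is closed under the group;
* `complete_of_cert`: with a Sylow 2-subgroup, it contains every element of order at most two.
-/

set_option autoImplicit false
set_option maxRecDepth 20000

namespace Cfsg.Agent.J4Order.Model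

open Cfsg Cfsg.Agent.Golay.Basic Cfsg.Agent.Golay.Design Cfsg.Agent.Golay.Perm Cfsg.Agent.Golay.M24
open Cfsg.Agent.Golay.Cert Cfsg.Agent.Golay.TabList

local notation "pG" => Equiv.Perm GolayPt

section

attribute [local irreducible] mulTab canon idTab tabPerm

theorem ordAux_pow {r : ℕ} {g : pG} (hr : IsTab r g) : ∀ (fuel p k : ℕ), canon p = true →
    IsTab p (g ^ k) → ordAux r fuel p k ≠ k + fuel → g ^ ordAux r fuel p k = 1
  | 0, p, k, _, _, h => absurd (by simp [ordAux]) h
  | fuel + 1, p, k, hc, hp, h => by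
    cases hb : Nat.beq p idTab
    · simp only [ordAux, hb, cond_false] at h ⊢
      exact ordAux_pow hr fuel (mulTab r p) (k + 1) (canon_mulTab _ _)
        (by rw [pow_succ']; exact isTab_mul hr hp) (by omega)
    · simp only [ordAux, hb, cond_true]
      exact (Nat.eq_of_beq_eq_true hb ▸ hp).unique isTab_one

theorem nOf_pow {s s' : El} (hs : elOK s = true) (hs' : elOK s' = true) (h : nOf s s' ≠ 24) :
    (perm s * perm s') ^ nOf s s' = 1 := by
  rw [nOf, tOrd] at h ⊢
  exact ordAux_pow (isTab_mul (isTab_perm hs) (isTab_perm hs')) 23 _ 1 (canon_mulTab _ _)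
    (by rw [pow_one]; exact isTab_mul (isTab_perm hs) (isTab_perm hs')) h

end

/-- The permutations of the elements of the list. -/
def listSet (N : ℕ) (e : ℕ → El) : Set pG := {x | ∃ i < N, perm (e i) = x}

theorem mem_of_permChk {e : ℕ → El} {h : El} {cs : List ℕ} {i seen seen' : ℕ}
    (hchk : permChk e h cs i seen = some seen') :
    (∀ j, seen.testBit j = true → seen'.testBit j = true) ∧
      ∀ j < cs.length, ∃ c, seen'.testBit c = true ∧ tabConj h.1 (e (i + j)).1 (e c).1 = true := by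
  induction cs generalizing i seen with
  | nil =>
    simp only [permChk, Option.some.injEq] at hchk
    subst hchk
    exact ⟨fun _ h => h, fun j hj => by simp at hj⟩
  | cons c cs ih =>
    simp only [permChk] at hchk
    cases hb : (!seen.testBit c && tabConj h.1 (e i).1 (e c).1)
    · rw [hb] at hchk; simp at hchk
    rw [hb, cond_true] at hchk
    simp only [Bool.and_eq_true] at hb
    obtain ⟨m1, m2⟩ := ih hchk
    refine ⟨fun j hj => m1 j (by rw [testBit_set, hj]; rfl), fun j hj => ?_⟩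
    rcases j with _ | j
    · exact ⟨c, m1 c (by rw [testBit_set]; simp), by simpa using hb.2⟩
    · obtain ⟨d, h1, h2⟩ := m2 j (by simpa using hj)
      exact ⟨d, h1, by rwa [show i + (j + 1) = i + 1 + j by omega]⟩

theorem closed_of_perm {N : ℕ} {e : ℕ → El} (he : ∀ i < N, elOK (e i) = true) {h : El} (hh : elOK h = true)
    {cs : List ℕ} (hchk : permChk e h cs 0 0 = some (2 ^ N - 1)) (hlen : cs.length = N) :
    ∀ x ∈ listSet N e, perm h * x * (perm h)⁻¹ ∈ listSet N e := by
  rintro _ ⟨i, hi, rfl⟩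
  obtain ⟨c, h1, h2⟩ := (mem_of_permChk hchk).2 i (hlen ▸ hi)
  rw [Nat.zero_add] at h2
  rw [Nat.testBit_two_pow_sub_one, decide_eq_true_eq] at h1
  exact ⟨c, h1, tabConj_spec hh (he i hi) (he c h1) h2⟩

/-- A set closed under conjugation by generators is closed under the group. -/
theorem closed_of_gens {A : Set pG} {X : List ℕ}
    (hX : ∀ t ∈ X, ∀ x ∈ A, tabPerm t * x * (tabPerm t)⁻¹ ∈ A) {c : pG} (hc : c ∈ tabGroup X) :
    ∀ x ∈ A, c * x * c⁻¹ ∈ A := by
  induction hc using Subgroup.closure_induction with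
  | mem y hy => obtain ⟨t, ht, rfl⟩ := hy; exact hX t ht
  | one => simp
  | mul y z _ _ hy hz =>
    intro x hx
    rw [show y * z * x * (y * z)⁻¹ = y * (z * x * z⁻¹) * y⁻¹ by group]
    exact hy _ (hz x hx)
  | inv y _ hy =>
    intro x hx
    have hp : ∀ n : ℕ, ∀ x ∈ A, y ^ n * x * (y ^ n)⁻¹ ∈ A := by
      intro n
      induction n with
      | zero => simp
      | succ n ih =>
        intro x hx
        rw [show y ^ (n + 1) * x * (y ^ (n + 1))⁻¹ = y * (y ^ n * x * (y ^ n)⁻¹) * y⁻¹ by
          rw [pow_succ']; group]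
        exact hy _ (ih x hx)
    rw [inv_eq_of_mul_eq_one_right (show y * y ^ (orderOf y - 1) = 1 by
      rw [← pow_succ', Nat.sub_add_cancel (orderOf_pos y), pow_orderOf_eq_one])]
    exact hp _ x hx

/-- The elements of order at most two of the Sylow subgroup are in the list. -/
def sylOK (e : ℕ → El) (N : ℕ) (L at_ : List ℕ) : Bool :=
  Nat.beq at_.length L.length && (L.zip at_).all fun p =>
    !Nat.beq (mulTab p.1 p.1) idTab || (Nat.blt p.2 N && Nat.beq (e p.2).1 p.1)

/-- A closed list containing the involutions of a Sylow 2-subgroup is complete. -/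
theorem complete_of_cert {N : ℕ} {e : ℕ → El} {X pc L at_ : List ℕ} {idx : List (List ℕ)}
    {K : Subgroup pG} (hX : ∀ t ∈ X, ∀ x ∈ listSet N e, tabPerm t * x * (tabPerm t)⁻¹ ∈ listSet N e)
    (hgen : tabGroup X = K) (hlist : listOK pc L idx = true) (hpc : ∀ t ∈ pc, tabPerm t ∈ K)
    (hfac : pc.length = (Nat.card ↥K).factorization 2) (hsyl : sylOK e N L at_ = true) {g : pG}
    (hg : g ∈ K) (hg2 : g * g = 1) : ∃ i < N, perm (e i) = g := by
  haveI : Fact (Nat.Prime 2) := ⟨Nat.prime_two⟩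
  obtain ⟨hTab, hmem, -⟩ := spec hlist
  have hle : tabGroup pc ≤ K := tabGroup_le_of hpc
  have hcard : Nat.card ((tabGroup pc).subgroupOf K) = 2 ^ (Nat.card ↥K).factorization 2 := by
    rw [Nat.card_congr (Subgroup.subgroupOfEquivOfLe hle).toEquiv, card_tabGroup hlist, hfac]
  have hpz : IsPGroup 2 (Subgroup.zpowers (⟨g, hg⟩ : ↥K)) := by
    intro x
    obtain ⟨k, hk⟩ := Subgroup.mem_zpowers_iff.1 x.2
    refine ⟨1, Subtype.ext ?_⟩
    have h2 : (⟨g, hg⟩ : ↥K) ^ 2 = 1 := Subtype.ext (by rw [pow_two]; exact hg2)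
    rw [pow_one, SubmonoidClass.coe_pow, ← hk, ← zpow_natCast, ← zpow_mul, mul_comm, zpow_mul,
      zpow_natCast, h2, one_zpow]
    rfl
  obtain ⟨P, hP⟩ := hpz.exists_le_sylow
  obtain ⟨c, hc⟩ := MulAction.exists_smul_eq ↥K P (Sylow.ofCard _ hcard)
  have hmem' : (c : pG) * g * (c : pG)⁻¹ ∈ tabGroup pc := by
    have h1 : c * ⟨g, hg⟩ * c⁻¹ ∈ ((c • P : Sylow 2 ↥K) : Subgroup ↥K) :=
      ⟨⟨g, hg⟩, hP (Subgroup.mem_zpowers _), rfl⟩
    rw [hc] at h1
    exact Subgroup.mem_subgroupOf.1 h1
  obtain ⟨t, ht, et⟩ := (hmem _).1 hmem'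
  have hsq : mulTab t t = idTab := by
    refine eq_of_isTab (canon_mulTab t t) canon_idTab (isTab_mul (hTab t ht).1 (hTab t ht).1) ?_
    rw [← et, show (c : pG) * g * (c : pG)⁻¹ * ((c : pG) * g * (c : pG)⁻¹) = c * (g * g) * (c : pG)⁻¹ by group,
      hg2, mul_one, mul_inv_cancel]
    exact isTab_one
  simp only [sylOK, Bool.and_eq_true, Nat.beq_eq] at hsyl
  obtain ⟨n, hn, rfl⟩ := List.getElem_of_mem ht
  have hn' : n < at_.length := hsyl.1 ▸ hn
  have h := List.all_eq_true.1 hsyl.2 (L[n], at_[n])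
    (List.mem_iff_getElem.2 ⟨n, by rw [List.length_zip]; omega, by rw [List.getElem_zip]⟩)
  simp only [hsq, Nat.beq_refl, Bool.not_true, Bool.false_or, Bool.and_eq_true, Nat.blt_eq] at h
  have hmemA : (c : pG) * g * (c : pG)⁻¹ ∈ listSet N e :=
    ⟨at_[n], h.1, by rw [perm, Nat.eq_of_beq_eq_true h.2, et]⟩
  have hcX : (c : pG)⁻¹ ∈ tabGroup X := by rw [hgen]; exact inv_mem c.2
  have h3 := closed_of_gens hX hcX _ hmemA
  rw [inv_inv, show (c : pG)⁻¹ * ((c : pG) * g * (c : pG)⁻¹) * c = g by group] at h3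
  exact h3

end Cfsg.Agent.J4Order.Model
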