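import Cfsg.Agent.Lib.J4Order.TiList

/-!
# Janko four type: checks of the list, part 4
-/

set_option autoImplicit false
set_option maxRecDepth 20000

namespace Cfsg.Agent.J4Order.TData

open Cfsg.Agent.J4Order.Model

theorem seg4 : segOK 1916 479 = true := by decide +kernel

end Cfsg.Agent.J4Order.TData
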