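import Cfsg.Agent.Lib.J4Order.TiList
import Cfsg.Agent.Lib.J4Order.TCert0

/-!
# Janko four type: orbit certificates over representative 0
-/

set_option autoImplicit false
set_option maxRecDepth 20000

namespace Cfsg.Agent.J4Order.TData

open Cfsg.Agent.J4Order.Model

theorem cert0 : blocksOK tiAt gens0 blocks0 0 = some (2 ^ 2872 - 1) := by decide +kernel

theorem gens0_ok :
    gens0.all (fun g => genOK tv g && tabConj g.1.1 (tiAt rep0).1 (tiAt rep0).1) = true := by decide +kernel

theorem ord0 :
    blocksVal (fun i => cond (Nat.beq (nOf (tiAt rep0) (tiAt i)) 24) 1 0) blocks0 = 0 := by decide +kernel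

end Cfsg.Agent.J4Order.TData
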