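import Cfsg.Agent.Lib.J4Order.TiList
import Cfsg.Agent.Lib.J4Order.TCert1

/-!
# Janko four type: orbit certificates over representative 1
-/

set_option autoImplicit false
set_option maxRecDepth 20000

namespace Cfsg.Agent.J4Order.TData

open Cfsg.Agent.J4Order.Model

theorem cert1 : blocksOK tiAt gens1 blocks1 0 = some (2 ^ 2872 - 1) := by decide +kernel

theorem gens1_ok :
    gens1.all (fun g => genOK tv g && tabConj g.1.1 (tiAt rep1).1 (tiAt rep1).1) = true := by decide +kernel

theorem ord1 :
    blocksVal (fun i => cond (Nat.beq (nOf (tiAt rep1) (tiAt i)) 24) 1 0) blocks1 = 0 := by decide +kernel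

end Cfsg.Agent.J4Order.TData
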