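import Cfsg.Agent.Lib.J4Order.Engine
import Cfsg.Agent.Lib.J4Order.TiData

/-!
# Janko four type: the list of elements of order at most two fixing the duad
-/

set_option autoImplicit false

namespace Cfsg.Agent.J4Order.TData

open Cfsg.Agent.J4Order.Model

/-- An element of the list. -/
def tiAt (i : ℕ) : El := (chunks.getD (i / 64) []).getD (i % 64) (0, 0)

/-- The elements of order at most two fixing the duad. -/
def Ti : List El := (List.range 2872).map tiAt

theorem mem_Ti {s : El} : s ∈ Ti ↔ ∃ i < 2872, tiAt i = s := by
  simp [Ti]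

/-- The checks on an element. -/
def tiOK (i : ℕ) : Bool :=
  elOK (tiAt i) && Nat.beq (Cfsg.Agent.Golay.TabList.mulTab (tiAt i).1 (tiAt i).1) Cfsg.Agent.Golay.Cert.idTab

/-- The checks on a segment. -/
def segOK (a n : ℕ) : Bool := (List.range n).all fun i => tiOK (a + i)

end Cfsg.Agent.J4Order.TData
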