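import Cfsg.Agent.Lib.J4Order.Complete
import Cfsg.Agent.Lib.J4Order.TiList
import Cfsg.Agent.Lib.J4Order.TStabData
import Cfsg.Agent.Lib.J4Order.TCert0
import Cfsg.Agent.Lib.J4V.Invol.Duad

/-!
# Janko four type: the stabiliser of the duad in M24, and the list is closed under it
-/

set_option autoImplicit false
set_option maxRecDepth 20000

namespace Cfsg.Agent.J4Order.TData

open Cfsg Cfsg.Agent.Golay.Basic Cfsg.Agent.Golay.M24
open Cfsg.Agent.Golay.Cert Cfsg.Agent.Golay.TabList
open Cfsg.Agent.J4Order.Model
open Cfsg.Agent.J4V.Invol (PairStab pairHom pairHom_injective)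

local notation "pG" => Equiv.Perm GolayPt

/-- The tables of the generators. -/
def stabX : List ℕ := gens0.map fun g => g.1.1

theorem chain_ok : chainOK stabX [] chain = true := by decide +kernel

theorem chain_prod : chainProd chain = 887040 := by decide +kernel

theorem stabX_ok : stabX.all (fun t => tabOK t && fixDuad t) = true := by decide +kernel

theorem syl_list : listOK sylPc sylL sylIdx = true := by decide +kernel

theorem sylPc_ok : sylPc.all (fun t => tabOK t && fixDuad t) = true ∧ sylPc.length = 8 := by decide +kernel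

theorem syl_in : sylOK tiAt 2872 sylL sylAt = true := by decide +kernel

theorem perm0_ok : permChk tiAt (gens0.getD 0 ((0, 0), (0, 0))).1 perm0 0 0 = some (2 ^ 2872 - 1) ∧
    perm0.length = 2872 := by decide +kernel

theorem perm1_ok : permChk tiAt (gens0.getD 1 ((0, 0), (0, 0))).1 perm1 0 0 = some (2 ^ 2872 - 1) ∧
    perm1.length = 2872 := by decide +kernel

theorem gens0_eq : gens0 = [gens0.getD 0 ((0, 0), (0, 0)), gens0.getD 1 ((0, 0), (0, 0))] := rfl

theorem mem_pairStab {t : ℕ} (ht : tabOK t = true) (hf : fixDuad t = true) : tabPerm t ∈ PairStab := by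
  refine ⟨tabPerm_mem ht, ?_⟩
  have h := isTab_tabPerm ht
  have key : ∀ p q : GolayPt, tabAt t (ix p) = ix q → tabPerm t p = q := fun p q e =>
    ix_injective (by rw [h, e])
  simp only [fixDuad, Bool.or_eq_true, Bool.and_eq_true, Nat.beq_eq] at hf
  rcases hf with ⟨e1, e2⟩ | ⟨e1, e2⟩
  · exact Or.inl ⟨key _ _ e1, key _ _ e2⟩
  · exact Or.inr ⟨key _ _ e1, key _ _ e2⟩

theorem card_pairStab_le : Nat.card ↥PairStab ≤ 887040 := by
  haveI : Finite (MulAut ↥Spor.M22) :=
    Finite.of_injective (fun e : MulAut ↥Spor.M22 => e.toEquiv) fun a b h =>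
      MulEquiv.ext fun x => Equiv.congr_fun h x
  rw [← Cfsg.Agent.J4Local.card_mulAut_m22]
  exact Nat.card_le_card_of_injective _ pairHom_injective

theorem tabGroup_stab : tabGroup stabX = PairStab := by
  have hX : stabX.all tabOK = true := List.all_eq_true.2 fun t ht => by
    have := List.all_eq_true.1 stabX_ok t ht
    simp only [Bool.and_eq_true] at this
    exact this.1
  refine tabGroup_eq hX chain_ok (fun t ht => ?_) (chain_prod.symm ▸ card_pairStab_le)
  have := List.all_eq_true.1 stabX_ok t ht
  simp only [Bool.and_eq_true] at this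
  exact mem_pairStab this.1 this.2

theorem card_pairStab : Nat.card ↥PairStab = 887040 := by
  refine le_antisymm card_pairStab_le ?_
  have hX : stabX.all tabOK = true := List.all_eq_true.2 fun t ht => by
    have := List.all_eq_true.1 stabX_ok t ht
    simp only [Bool.and_eq_true] at this
    exact this.1
  have h := chainProd_le hX (pre := []) (by simp) chain_ok
  rwa [List.map_nil, Cfsg.Agent.Golay.Perm.fixers_nil, chain_prod, tabGroup_stab] at h

theorem factorization_stab : (887040 : ℕ).factorization 2 = 8 := by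
  rw [show (887040 : ℕ) = 2 ^ 8 * 3465 by norm_num, Nat.factorization_mul (by norm_num) (by norm_num),
    Finsupp.add_apply, Nat.Prime.factorization_pow Nat.prime_two, Finsupp.single_eq_same,
    Nat.factorization_eq_zero_of_not_dvd (by norm_num)]

theorem gens0_closed (he : ∀ i < 2872, elOK (tiAt i) = true)
    (hg : ∀ g ∈ gens0, elOK g.1 = true) :
    ∀ t ∈ stabX, ∀ x ∈ listSet 2872 tiAt, tabPerm t * x * (tabPerm t)⁻¹ ∈ listSet 2872 tiAt := by
  intro t ht
  obtain ⟨g, hgm, rfl⟩ := List.mem_map.1 ht
  have hok := hg g hgm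
  rw [gens0_eq] at hgm
  simp only [List.mem_cons, List.not_mem_nil, or_false] at hgm
  rcases hgm with rfl | rfl
  · exact closed_of_perm he hok perm0_ok.1 perm0_ok.2
  · exact closed_of_perm he hok perm1_ok.1 perm1_ok.2

theorem complete (he : ∀ i < 2872, elOK (tiAt i) = true) (hg : ∀ g ∈ gens0, elOK g.1 = true) {t : ℕ}
    (ht : tabOK t = true) (hf : fixDuad t = true) (h2 : tabPerm t * tabPerm t = 1) :
    ∃ i < 2872, perm (tiAt i) = tabPerm t := by
  refine complete_of_cert (gens0_closed he hg) tabGroup_stab syl_list (fun x hx => ?_)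
    (by rw [card_pairStab, factorization_stab]; exact sylPc_ok.2) syl_in (mem_pairStab ht hf) h2
  have := List.all_eq_true.1 sylPc_ok.1 x hx
  simp only [Bool.and_eq_true] at this
  exact mem_pairStab this.1 this.2

end Cfsg.Agent.J4Order.TData
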