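import Cfsg.Agent.Lib.J4Order.TiList
import Cfsg.Agent.Lib.J4Order.TCert0
import Cfsg.Agent.Lib.J4Order.TZ0

/-!
# Janko four type: counts over representative 0, part 2
-/

set_option autoImplicit false
set_option maxRecDepth 20000

namespace Cfsg.Agent.J4Order.TData

open Cfsg.Agent.J4Order.Model

theorem v0_2 : fastWith tv (tiAt rep0) (tiAt 1175) z0 = 12544 := by decide +kernel

end Cfsg.Agent.J4Order.TData
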