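import Cfsg.Agent.Lib.J4Order.TiList
import Cfsg.Agent.Lib.J4Order.TVal0_0
import Cfsg.Agent.Lib.J4Order.TVal0_1
import Cfsg.Agent.Lib.J4Order.TVal0_2
import Cfsg.Agent.Lib.J4Order.TCert0

/-!
# Janko four type: counts over representative 0
-/

set_option autoImplicit false
set_option maxRecDepth 20000

namespace Cfsg.Agent.J4Order.TData

open Cfsg.Agent.J4Order.Model

theorem pcF0 (i : ℕ) : pairCount tv (tiAt rep0) (tiAt i) = fastWith tv (tiAt rep0) (tiAt i) z0 := by
  rw [pairCount_eq_fast, fastCount_eq, z0_eq]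

theorem roots0 : blocks0.map (fun b => (b.1, b.2.length + 1)) = [(2871, 1), (1976, 1155), (1175, 330), (1286, 1386)] := by decide +kernel

theorem val0 : blocksVal (fun i => pairCount tv (tiAt rep0) (tiAt i)) blocks0 = 4139751 :=
  (blocksVal_congr (fun i => pairCount tv (tiAt rep0) (tiAt i)) blocks0 _ [231, 0, 12544, 0] roots0
    (List.Forall₂.cons ((pcF0 2871).trans v0_0)
    (List.Forall₂.cons ((pcF0 1976).trans v0_1)
    (List.Forall₂.cons ((pcF0 1175).trans v0_2)
    (List.Forall₂.cons ((pcF0 1286).trans v0_3)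
    List.Forall₂.nil))))).trans (by decide +kernel)

end Cfsg.Agent.J4Order.TData
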