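import Cfsg.Agent.Lib.J4Order.TiList
import Cfsg.Agent.Lib.J4Order.TCert2

/-!
# Janko four type: the first list over representative 2
-/

set_option autoImplicit false
set_option maxRecDepth 20000

namespace Cfsg.Agent.J4Order.TData

open Cfsg.Agent.J4Order.Model

def z2_0 : List ℕ := [0, 106, 163, 201, 768, 874, 931, 969, 1065, 1091, 1162, 1248, 1833, 1859, 1930, 2016]
/-- The vectors of the class of `z` over the representative. -/
def z2 : List ℕ := z2_0

theorem z2_eq : zList (tiAt rep2) = z2 := by decide +kernel


end Cfsg.Agent.J4Order.TData
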