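import Cfsg.Agent.Lib.J4Order.TiList
import Cfsg.Agent.Lib.J4Order.TCert2
import Cfsg.Agent.Lib.J4Order.TZ2

/-!
# Janko four type: counts over representative 2, part 0
-/

set_option autoImplicit false
set_option maxRecDepth 20000

namespace Cfsg.Agent.J4Order.TData

open Cfsg.Agent.J4Order.Model

theorem v2_0 : fastWith tv (tiAt rep2) (tiAt 2871) z2 = 256 := by decide +kernel

theorem v2_1 : fastWith tv (tiAt rep2) (tiAt 1976) z2 = 0 := by decide +kernel

theorem v2_2 : fastWith tv (tiAt rep2) (tiAt 2410) z2 = 512 := by decide +kernel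

theorem v2_3 : fastWith tv (tiAt rep2) (tiAt 2271) z2 = 1024 := by decide +kernel

theorem v2_4 : fastWith tv (tiAt rep2) (tiAt 2228) z2 = 0 := by decide +kernel

theorem v2_5 : fastWith tv (tiAt rep2) (tiAt 2259) z2 = 0 := by decide +kernel

theorem v2_6 : fastWith tv (tiAt rep2) (tiAt 2660) z2 = 0 := by decide +kernel

theorem v2_7 : fastWith tv (tiAt rep2) (tiAt 1915) z2 = 0 := by decide +kernel

theorem v2_8 : fastWith tv (tiAt rep2) (tiAt 1175) z2 = 0 := by decide +kernel

end Cfsg.Agent.J4Order.TData
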