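import Cfsg.Agent.Lib.J4Order.TiList
import Cfsg.Agent.Lib.J4Order.TCert2
import Cfsg.Agent.Lib.J4Order.TZ2

/-!
# Janko four type: counts over representative 2, part 1
-/

set_option autoImplicit false
set_option maxRecDepth 20000

namespace Cfsg.Agent.J4Order.TData

open Cfsg.Agent.J4Order.Model

theorem v2_9 : fastWith tv (tiAt rep2) (tiAt 945) z2 = 0 := by decide +kernel

theorem v2_10 : fastWith tv (tiAt rep2) (tiAt 910) z2 = 0 := by decide +kernel

theorem v2_11 : fastWith tv (tiAt rep2) (tiAt 553) z2 = 0 := by decide +kernel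

theorem v2_12 : fastWith tv (tiAt rep2) (tiAt 1286) z2 = 0 := by decide +kernel

theorem v2_13 : fastWith tv (tiAt rep2) (tiAt 1050) z2 = 0 := by decide +kernel

theorem v2_14 : fastWith tv (tiAt rep2) (tiAt 793) z2 = 0 := by decide +kernel

theorem v2_15 : fastWith tv (tiAt rep2) (tiAt 1215) z2 = 0 := by decide +kernel

theorem v2_16 : fastWith tv (tiAt rep2) (tiAt 1125) z2 = 0 := by decide +kernel

theorem v2_17 : fastWith tv (tiAt rep2) (tiAt 290) z2 = 0 := by decide +kernel

end Cfsg.Agent.J4Order.TData
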