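import Cfsg.Agent.Lib.J4Order.TiList
import Cfsg.Agent.Lib.J4Order.TVal2_0
import Cfsg.Agent.Lib.J4Order.TVal2_1
import Cfsg.Agent.Lib.J4Order.TCert2

/-!
# Janko four type: counts over representative 2
-/

set_option autoImplicit false
set_option maxRecDepth 20000

namespace Cfsg.Agent.J4Order.TData

open Cfsg.Agent.J4Order.Model

theorem pcF2 (i : ℕ) : pairCount tv (tiAt rep2) (tiAt i) = fastWith tv (tiAt rep2) (tiAt i) z2 := by
  rw [pairCount_eq_fast, fastCount_eq, z2_eq]

theorem roots2 : blocks2.map (fun b => (b.1, b.2.length + 1)) = [(2871, 1), (1976, 168), (2410, 42), (2271, 672), (2228, 168), (2259, 42), (2660, 7), (1915, 56), (1175, 1), (945, 112), (910, 42), (553, 168), (1286, 42), (1050, 336), (793, 168), (1215, 7), (1125, 672), (290, 168)] := by decide +kernel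

theorem val2 : blocksVal (fun i => pairCount tv (tiAt rep2) (tiAt i)) blocks2 = 709888 :=
  (blocksVal_congr (fun i => pairCount tv (tiAt rep2) (tiAt i)) blocks2 _ [256, 0, 512, 1024, 0, 0, 0, 0, 0, 0, 0, 0, 0, 0, 0, 0, 0, 0] roots2
    (List.Forall₂.cons ((pcF2 2871).trans v2_0)
    (List.Forall₂.cons ((pcF2 1976).trans v2_1)
    (List.Forall₂.cons ((pcF2 2410).trans v2_2)
    (List.Forall₂.cons ((pcF2 2271).trans v2_3)
    (List.Forall₂.cons ((pcF2 2228).trans v2_4)
    (List.Forall₂.cons ((pcF2 2259).trans v2_5)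
    (List.Forall₂.cons ((pcF2 2660).trans v2_6)
    (List.Forall₂.cons ((pcF2 1915).trans v2_7)
    (List.Forall₂.cons ((pcF2 1175).trans v2_8)
    (List.Forall₂.cons ((pcF2 945).trans v2_9)
    (List.Forall₂.cons ((pcF2 910).trans v2_10)
    (List.Forall₂.cons ((pcF2 553).trans v2_11)
    (List.Forall₂.cons ((pcF2 1286).trans v2_12)
    (List.Forall₂.cons ((pcF2 1050).trans v2_13)
    (List.Forall₂.cons ((pcF2 793).trans v2_14)
    (List.Forall₂.cons ((pcF2 1215).trans v2_15)
    (List.Forall₂.cons ((pcF2 1125).trans v2_16)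
    (List.Forall₂.cons ((pcF2 290).trans v2_17)
    List.Forall₂.nil))))))))))))))))))).trans (by decide +kernel)

end Cfsg.Agent.J4Order.TData
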