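import Cfsg.Agent.Lib.J4Order.TiList
import Cfsg.Agent.Lib.J4Order.TCert3

/-!
# Janko four type: the first list over representative 3
-/

set_option autoImplicit false
set_option maxRecDepth 20000

namespace Cfsg.Agent.J4Order.TData

open Cfsg.Agent.J4Order.Model

def z3_0 : List ℕ := [33, 66, 139, 232, 300, 335, 390, 485, 525, 622, 679, 708, 768, 867, 938, 969, 1032, 1131, 1186, 1217, 1285, 1382, 1455, 1484, 1572, 1607, 1678, 1773, 1833, 1866, 1923, 2016]
/-- The vectors of the class of `z` over the representative. -/
def z3 : List ℕ := z3_0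

theorem z3_eq : zList (tiAt rep3) = z3 := by decide +kernel


end Cfsg.Agent.J4Order.TData
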