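import Cfsg.Agent.Lib.J4Order.TiList
import Cfsg.Agent.Lib.J4Order.TCert3
import Cfsg.Agent.Lib.J4Order.TZ3

/-!
# Janko four type: counts over representative 3, part 0
-/

set_option autoImplicit false
set_option maxRecDepth 20000

namespace Cfsg.Agent.J4Order.TData

open Cfsg.Agent.J4Order.Model

theorem v3_0 : fastWith tv (tiAt rep3) (tiAt 2871) z3 = 0 := by decide +kernel

theorem v3_1 : fastWith tv (tiAt rep3) (tiAt 1976) z3 = 0 := by decide +kernel

theorem v3_2 : fastWith tv (tiAt rep3) (tiAt 2410) z3 = 0 := by decide +kernel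

theorem v3_3 : fastWith tv (tiAt rep3) (tiAt 2325) z3 = 0 := by decide +kernel

theorem v3_4 : fastWith tv (tiAt rep3) (tiAt 2201) z3 = 0 := by decide +kernel

theorem v3_5 : fastWith tv (tiAt rep3) (tiAt 2370) z3 = 0 := by decide +kernel

theorem v3_6 : fastWith tv (tiAt rep3) (tiAt 2342) z3 = 0 := by decide +kernel

theorem v3_7 : fastWith tv (tiAt rep3) (tiAt 2060) z3 = 0 := by decide +kernel

theorem v3_8 : fastWith tv (tiAt rep3) (tiAt 2204) z3 = 0 := by decide +kernel

theorem v3_9 : fastWith tv (tiAt rep3) (tiAt 2126) z3 = 0 := by decide +kernel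

theorem v3_10 : fastWith tv (tiAt rep3) (tiAt 2470) z3 = 0 := by decide +kernel

end Cfsg.Agent.J4Order.TData
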