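import Cfsg.Agent.Lib.J4Order.TiList
import Cfsg.Agent.Lib.J4Order.TCert3
import Cfsg.Agent.Lib.J4Order.TZ3

/-!
# Janko four type: counts over representative 3, part 1
-/

set_option autoImplicit false
set_option maxRecDepth 20000

namespace Cfsg.Agent.J4Order.TData

open Cfsg.Agent.J4Order.Model

theorem v3_11 : fastWith tv (tiAt rep3) (tiAt 2103) z3 = 0 := by decide +kernel

theorem v3_12 : fastWith tv (tiAt rep3) (tiAt 2021) z3 = 0 := by decide +kernel

theorem v3_13 : fastWith tv (tiAt rep3) (tiAt 1175) z3 = 0 := by decide +kernel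

theorem v3_14 : fastWith tv (tiAt rep3) (tiAt 945) z3 = 0 := by decide +kernel

theorem v3_15 : fastWith tv (tiAt rep3) (tiAt 1137) z3 = 0 := by decide +kernel

theorem v3_16 : fastWith tv (tiAt rep3) (tiAt 1653) z3 = 0 := by decide +kernel

theorem v3_17 : fastWith tv (tiAt rep3) (tiAt 699) z3 = 0 := by decide +kernel

theorem v3_18 : fastWith tv (tiAt rep3) (tiAt 1442) z3 = 0 := by decide +kernel

theorem v3_19 : fastWith tv (tiAt rep3) (tiAt 1286) z3 = 32 := by decide +kernel

theorem v3_20 : fastWith tv (tiAt rep3) (tiAt 1050) z3 = 256 := by decide +kernel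

theorem v3_21 : fastWith tv (tiAt rep3) (tiAt 980) z3 = 0 := by decide +kernel

end Cfsg.Agent.J4Order.TData
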