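import Cfsg.Agent.Lib.J4Order.TiList
import Cfsg.Agent.Lib.J4Order.TCert3
import Cfsg.Agent.Lib.J4Order.TZ3

/-!
# Janko four type: counts over representative 3, part 2
-/

set_option autoImplicit false
set_option maxRecDepth 20000

namespace Cfsg.Agent.J4Order.TData

open Cfsg.Agent.J4Order.Model

theorem v3_22 : fastWith tv (tiAt rep3) (tiAt 1125) z3 = 0 := by decide +kernel

theorem v3_23 : fastWith tv (tiAt rep3) (tiAt 1348) z3 = 512 := by decide +kernel

theorem v3_24 : fastWith tv (tiAt rep3) (tiAt 731) z3 = 0 := by decide +kernel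

theorem v3_25 : fastWith tv (tiAt rep3) (tiAt 1019) z3 = 0 := by decide +kernel

theorem v3_26 : fastWith tv (tiAt rep3) (tiAt 928) z3 = 0 := by decide +kernel

theorem v3_27 : fastWith tv (tiAt rep3) (tiAt 576) z3 = 0 := by decide +kernel

theorem v3_28 : fastWith tv (tiAt rep3) (tiAt 1539) z3 = 0 := by decide +kernel

theorem v3_29 : fastWith tv (tiAt rep3) (tiAt 672) z3 = 1024 := by decide +kernel

theorem v3_30 : fastWith tv (tiAt rep3) (tiAt 1163) z3 = 0 := by decide +kernel

theorem v3_31 : fastWith tv (tiAt rep3) (tiAt 509) z3 = 1024 := by decide +kernel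

end Cfsg.Agent.J4Order.TData
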