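import Cfsg.Agent.Lib.J4Order.TiList
import Cfsg.Agent.Lib.J4Order.TVal3_0
import Cfsg.Agent.Lib.J4Order.TVal3_1
import Cfsg.Agent.Lib.J4Order.TVal3_2
import Cfsg.Agent.Lib.J4Order.TCert3

/-!
# Janko four type: counts over representative 3
-/

set_option autoImplicit false
set_option maxRecDepth 20000

namespace Cfsg.Agent.J4Order.TData

open Cfsg.Agent.J4Order.Model

theorem pcF3 (i : ℕ) : pairCount tv (tiAt rep3) (tiAt i) = fastWith tv (tiAt rep3) (tiAt i) z3 := by
  rw [pairCount_eq_fast, fastCount_eq, z3_eq]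

theorem roots3 : blocks3.map (fun b => (b.1, b.2.length + 1)) = [(2871, 1), (1976, 320), (2410, 160), (2325, 40), (2201, 80), (2370, 10), (2342, 5), (2060, 40), (2204, 20), (2126, 160), (2470, 160), (2103, 80), (2021, 80), (1175, 10), (945, 80), (1137, 80), (1653, 40), (699, 80), (1442, 40), (1286, 1), (1050, 80), (980, 40), (1125, 40), (1348, 320), (731, 40), (1019, 5), (928, 20), (576, 80), (1539, 80), (672, 320), (1163, 40), (509, 320)] := by decide +kernel

theorem val3 : blocksVal (fun i => pairCount tv (tiAt rep3) (tiAt i)) blocks3 = 839712 :=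
  (blocksVal_congr (fun i => pairCount tv (tiAt rep3) (tiAt i)) blocks3 _ [0, 0, 0, 0, 0, 0, 0, 0, 0, 0, 0, 0, 0, 0, 0, 0, 0, 0, 0, 32, 256, 0, 0, 512, 0, 0, 0, 0, 0, 1024, 0, 1024] roots3
    (List.Forall₂.cons ((pcF3 2871).trans v3_0)
    (List.Forall₂.cons ((pcF3 1976).trans v3_1)
    (List.Forall₂.cons ((pcF3 2410).trans v3_2)
    (List.Forall₂.cons ((pcF3 2325).trans v3_3)
    (List.Forall₂.cons ((pcF3 2201).trans v3_4)
    (List.Forall₂.cons ((pcF3 2370).trans v3_5)
    (List.Forall₂.cons ((pcF3 2342).trans v3_6)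
    (List.Forall₂.cons ((pcF3 2060).trans v3_7)
    (List.Forall₂.cons ((pcF3 2204).trans v3_8)
    (List.Forall₂.cons ((pcF3 2126).trans v3_9)
    (List.Forall₂.cons ((pcF3 2470).trans v3_10)
    (List.Forall₂.cons ((pcF3 2103).trans v3_11)
    (List.Forall₂.cons ((pcF3 2021).trans v3_12)
    (List.Forall₂.cons ((pcF3 1175).trans v3_13)
    (List.Forall₂.cons ((pcF3 945).trans v3_14)
    (List.Forall₂.cons ((pcF3 1137).trans v3_15)
    (List.Forall₂.cons ((pcF3 1653).trans v3_16)
    (List.Forall₂.cons ((pcF3 699).trans v3_17)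
    (List.Forall₂.cons ((pcF3 1442).trans v3_18)
    (List.Forall₂.cons ((pcF3 1286).trans v3_19)
    (List.Forall₂.cons ((pcF3 1050).trans v3_20)
    (List.Forall₂.cons ((pcF3 980).trans v3_21)
    (List.Forall₂.cons ((pcF3 1125).trans v3_22)
    (List.Forall₂.cons ((pcF3 1348).trans v3_23)
    (List.Forall₂.cons ((pcF3 731).trans v3_24)
    (List.Forall₂.cons ((pcF3 1019).trans v3_25)
    (List.Forall₂.cons ((pcF3 928).trans v3_26)
    (List.Forall₂.cons ((pcF3 576).trans v3_27)
    (List.Forall₂.cons ((pcF3 1539).trans v3_28)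
    (List.Forall₂.cons ((pcF3 672).trans v3_29)
    (List.Forall₂.cons ((pcF3 1163).trans v3_30)
    (List.Forall₂.cons ((pcF3 509).trans v3_31)
    List.Forall₂.nil))))))))))))))))))))))))))))))))).trans (by decide +kernel)

end Cfsg.Agent.J4Order.TData
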