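import Cfsg.Agent.Lib.J4Order.BridgeT
import Cfsg.Agent.Lib.J4Order.TStab
import Cfsg.Agent.Lib.J4Order.TOk0
import Cfsg.Agent.Lib.J4Order.TOk1
import Cfsg.Agent.Lib.J4Order.TOk2
import Cfsg.Agent.Lib.J4Order.TOk3
import Cfsg.Agent.Lib.J4Order.TOk4
import Cfsg.Agent.Lib.J4Order.TOk5
import Cfsg.Agent.Lib.J4Order.TRow0
import Cfsg.Agent.Lib.J4Order.TRow1
import Cfsg.Agent.Lib.J4Order.TRow2
import Cfsg.Agent.Lib.J4Order.TRow3
import Cfsg.Agent.Lib.J4Order.TVal0
import Cfsg.Agent.Lib.J4Order.TVal1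
import Cfsg.Agent.Lib.J4Order.TVal2
import Cfsg.Agent.Lib.J4Order.TVal3

/-!
# Janko four type: the number of pairs of involutions over an involution not conjugate to `z`, on the model

* `total_t`: the total is 1544188503;
* `Ti_spec`, `Ti_complete`: the hypotheses of the bridge.
-/

set_option autoImplicit false
set_option maxRecDepth 20000

namespace Cfsg.Agent.J4Order.TData

open Cfsg Cfsg.Agent.Golay.Basic Cfsg.Agent.Golay.M24
open Cfsg.Agent.Golay.Cert Cfsg.Agent.Golay.TabList
open Cfsg.Agent.J4Order.Model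

theorem tiOK_all : ∀ i < 2872, tiOK i = true := by
  intro i hi
  have key : ∀ a n, segOK a n = true → a ≤ i → i < a + n → tiOK i = true := by
    intro a n h h1 h2
    have := List.all_eq_true.1 h (i - a) (List.mem_range.2 (by omega))
    rwa [Nat.add_sub_cancel' h1] at this
  by_cases h1 : i < 479
  · exact key _ _ seg0 (by omega) (by omega)
  by_cases h2 : i < 958
  · exact key _ _ seg1 (by omega) (by omega)
  by_cases h3 : i < 1437
  · exact key _ _ seg2 (by omega) (by omega)
  by_cases h4 : i < 1916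
  · exact key _ _ seg3 (by omega) (by omega)
  by_cases h5 : i < 2395
  · exact key _ _ seg4 (by omega) (by omega)
  exact key _ _ seg5 (by omega) (by omega)

theorem tiAt_ok : ∀ i < 2872, elOK (tiAt i) = true := fun i hi => by
  have := tiOK_all i hi
  simp only [tiOK, Bool.and_eq_true] at this
  exact this.1

theorem tiAt_sq : ∀ i < 2872, perm (tiAt i) * perm (tiAt i) = 1 := fun i hi => by
  have h := tiOK_all i hi
  simp only [tiOK, Bool.and_eq_true] at h
  have h2 := isTab_mul (isTab_perm h.1) (isTab_perm h.1)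
  rw [Nat.eq_of_beq_eq_true h.2] at h2
  exact h2.unique isTab_one

theorem tabs_increasing :
    (List.range 2871).all (fun i => Nat.blt (tiAt i).1 (tiAt (i + 1)).1) = true := by decide +kernel

theorem Ti_nodup : (Ti.map Prod.fst).Nodup := by
  have hstep : ∀ i, i + 1 < 2872 → (tiAt i).1 < (tiAt (i + 1)).1 := fun i hi =>
    Eq.mp Nat.blt_eq (List.all_eq_true.1 tabs_increasing i (List.mem_range.2 (by omega)))
  have hlt : ∀ j, j < 2872 → ∀ i, i < j → (tiAt i).1 < (tiAt j).1 := by
    intro j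
    induction j with
    | zero => intro _ i hi; omega
    | succ j ih =>
      intro hj i hi
      rcases Nat.lt_or_ge i j with h | h
      · exact (ih (by omega) i h).trans (hstep j hj)
      · obtain rfl : i = j := by omega
        exact hstep i hj
  rw [Ti, List.map_map]
  refine List.Nodup.map_on (fun x hx y hy e => ?_) List.nodup_range
  rw [List.mem_range] at hx hy
  rcases Nat.lt_trichotomy x y with h | h | h
  · exact absurd e (hlt y hy x h).ne
  · exact h
  · exact absurd e (hlt x hx y h).ne'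

attribute [local irreducible] tiAt pairCount nOf tabConj genOK blocksOK permChk chunks blocks0 blocks1 blocks2 blocks3 gens0 gens1 gens2 gens3 tv

theorem tv_lt : tv < 2048 := Dict.duad_facts.1

theorem gen_spec {gs : List (El × El)} {r : ℕ}
    (h : gs.all (fun g => genOK tv g && tabConj g.1.1 (tiAt r).1 (tiAt r).1) = true) :
    ∀ g ∈ gs, genOK tv g = true ∧ tabConj g.1.1 (tiAt r).1 (tiAt r).1 = true := fun g hg => by
  have := List.all_eq_true.1 h g hg
  simpa only [Bool.and_eq_true] using this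

theorem rep_lt : rep0 < 2872 ∧ rep1 < 2872 ∧ rep2 < 2872 ∧ rep3 < 2872 := by decide +kernel

/-- The failure of the search for the order. -/
def bad (i j : ℕ) : ℕ := cond (Nat.beq (nOf (tiAt i) (tiAt j)) 24) 1 0

theorem row_eq (s : El) : row tv 2872 tiAt s = ∑ i ∈ Finset.range 2872, pairCount tv s (tiAt i) := rfl

/-- The failures of a row. -/
def badSum (i : ℕ) : ℕ := ∑ j ∈ Finset.range 2872, bad i j

theorem badSum_eq (i : ℕ) : badSum i = ∑ j ∈ Finset.range 2872, bad i j := rfl

theorem row_rep {r v : ℕ} (hr : r < 2872) {gs : List (El × El)} {bs : List (ℕ × List ℕ)}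
    (hcert : blocksOK tiAt gs bs 0 = some (2 ^ 2872 - 1))
    (hg : gs.all (fun g => genOK tv g && tabConj g.1.1 (tiAt r).1 (tiAt r).1) = true)
    (hv : blocksVal (fun i => pairCount tv (tiAt r) (tiAt i)) bs = v) :
    row tv 2872 tiAt (tiAt r) = v := by
  rw [← hv]
  exact orbit_sum hcert _ fun g hgm =>
    pairCount_inv tiAt_ok tv_lt (gen_spec hg g hgm).1 (tiAt_ok r hr) (gen_spec hg g hgm).2

theorem badRow_rep {r : ℕ} (hr : r < 2872) {gs : List (El × El)} {bs : List (ℕ × List ℕ)}
    (hcert : blocksOK tiAt gs bs 0 = some (2 ^ 2872 - 1))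
    (hg : gs.all (fun g => genOK tv g && tabConj g.1.1 (tiAt r).1 (tiAt r).1) = true)
    (hv : blocksVal (fun i => cond (Nat.beq (nOf (tiAt r) (tiAt i)) 24) 1 0) bs = 0) :
    badSum r = 0 := by
  rw [← hv, badSum_eq]
  refine orbit_sum hcert _ fun g hgm p hp c hc h => ?_
  show bad r c = bad r p
  have H := genOK_spec (h := g.1) (hi := g.2) (gen_spec hg g hgm).1
  rw [bad, bad, nOf_conj H (tiAt_ok r hr) (tiAt_ok p hp) (tiAt_ok r hr) (tiAt_ok c hc) (gen_spec hg g hgm).2 h]

theorem gens0_gen : ∀ g ∈ gens0, genOK tv g = true := fun g hg => (gen_spec gens0_ok g hg).1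

theorem gens0_el : ∀ g ∈ gens0, elOK g.1 = true := fun g hg =>
  (genOK_spec (h := g.1) (hi := g.2) (gens0_gen g hg)).ok

theorem gens0_perm {g : El × El} (hg : g ∈ gens0) :
    ∃ cs, permChk tiAt g.1 cs 0 0 = some (2 ^ 2872 - 1) ∧ cs.length = 2872 := by
  rw [gens0_eq] at hg
  simp only [List.mem_cons, List.not_mem_nil, or_false] at hg
  rcases hg with rfl | rfl
  exacts [⟨_, perm0_ok⟩, ⟨_, perm1_ok⟩]

theorem row0 : row tv 2872 tiAt (tiAt rep0) = 4139751 :=
  row_rep rep_lt.1 cert0 gens0_ok val0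

theorem badRow0 : badSum rep0 = 0 :=
  badRow_rep rep_lt.1 cert0 gens0_ok ord0

theorem row1 : row tv 2872 tiAt (tiAt rep1) = 122896 :=
  row_rep rep_lt.2.1 cert1 gens1_ok val1

theorem badRow1 : badSum rep1 = 0 :=
  badRow_rep rep_lt.2.1 cert1 gens1_ok ord1

theorem row2 : row tv 2872 tiAt (tiAt rep2) = 709888 :=
  row_rep rep_lt.2.2.1 cert2 gens2_ok val2

theorem badRow2 : badSum rep2 = 0 :=
  badRow_rep rep_lt.2.2.1 cert2 gens2_ok ord2

theorem row3 : row tv 2872 tiAt (tiAt rep3) = 839712 :=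
  row_rep rep_lt.2.2.2 cert3 gens3_ok val3

theorem badRow3 : badSum rep3 = 0 :=
  badRow_rep rep_lt.2.2.2 cert3 gens3_ok ord3

attribute [local irreducible] row badSum

theorem roots_eq : blocks0.map (fun b => (b.1, b.2.length + 1)) =
    [(rep0, 1), (rep1, 1155), (rep2, 330), (rep3, 1386)] := by decide +kernel

/-- The number of pairs on the model. -/
theorem total_t : total tv Ti = 1544188503 := by
  have e : total tv Ti = ∑ i ∈ Finset.range 2872, row tv 2872 tiAt (tiAt i) := by
    simp only [total, Ti, List.map_map, Function.comp_def, sum_range_list, row_eq]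
  rw [e, orbit_sum cert0 (fun i => row tv 2872 tiAt (tiAt i)) ?_]
  · exact (blocksVal_congr (fun i => row tv 2872 tiAt (tiAt i)) blocks0
      [(rep0, 1), (rep1, 1155), (rep2, 330), (rep3, 1386)] [4139751, 122896, 709888, 839712] roots_eq
      (List.Forall₂.cons row0 (List.Forall₂.cons row1 (List.Forall₂.cons row2
        (List.Forall₂.cons row3 List.Forall₂.nil))))).trans (by decide +kernel)
  · intro g hgm p hp c hc h
    obtain ⟨cs, h1, h2⟩ := gens0_perm hgm
    exact row_conj tiAt_ok tv_lt (gens0_gen g hgm) h1 h2 (tiAt_ok p hp) (tiAt_ok c hc) h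

theorem bad_zero {i : ℕ} (hi : i < 2872) {j : ℕ} (hj : j < 2872) : bad i j = 0 := by
  have hsum : ∑ i ∈ Finset.range 2872, badSum i = 0 := by
    rw [orbit_sum cert0 badSum ?_]
    · exact (blocksVal_congr (fun i => badSum i) blocks0
        [(rep0, 1), (rep1, 1155), (rep2, 330), (rep3, 1386)] [0, 0, 0, 0] roots_eq
        (List.Forall₂.cons badRow0 (List.Forall₂.cons badRow1 (List.Forall₂.cons badRow2
          (List.Forall₂.cons badRow3 List.Forall₂.nil))))).trans (by decide +kernel)
    · intro g hgm p hp c hc h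
      obtain ⟨cs, h1, h2⟩ := gens0_perm hgm
      rw [badSum_eq, badSum_eq]
      refine perm_sum h1 h2 fun k hk d hd hkd => ?_
      have H := genOK_spec (h := g.1) (hi := g.2) (gens0_gen g hgm)
      rw [bad, bad, nOf_conj H (tiAt_ok p hp) (tiAt_ok k hk) (tiAt_ok c hc) (tiAt_ok d hd) h hkd]
  have h0 := Finset.sum_eq_zero_iff.1 hsum i (Finset.mem_range.2 hi)
  rw [badSum_eq] at h0
  exact Finset.sum_eq_zero_iff.1 h0 j
    (Finset.mem_range.2 hj)

/-- The hypotheses of the bridge on the list. -/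
theorem Ti_spec : Dict.Spec Ti where
  ok s hs := by obtain ⟨i, hi, rfl⟩ := mem_Ti.1 hs; exact tiAt_ok i hi
  sq s hs := by obtain ⟨i, hi, rfl⟩ := mem_Ti.1 hs; exact tiAt_sq i hi
  nodup := Ti_nodup
  ord s hs s' hs' := by
    obtain ⟨i, hi, rfl⟩ := mem_Ti.1 hs
    obtain ⟨j, hj, rfl⟩ := mem_Ti.1 hs'
    refine nOf_pow (tiAt_ok i hi) (tiAt_ok j hj) fun e => ?_
    have h0 := bad_zero hi hj
    rw [bad, e] at h0
    simp at h0

/-- The list is complete. -/
theorem Ti_complete (t : ℕ) (ht : tabOK t = true) (hf : fixDuad t = true) (h2 : tabPerm t * tabPerm t = 1) :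
    ∃ s ∈ Ti, Dict.perm s = tabPerm t := by
  obtain ⟨i, hi, e⟩ := complete tiAt_ok gens0_el ht hf h2
  exact ⟨tiAt i, mem_Ti.2 ⟨i, hi, rfl⟩, e⟩

end Cfsg.Agent.J4Order.TData
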