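import Cfsg.Agent.Lib.J4Order.Hexads

/-!
# Janko four type: the dihedral groups through `z` fix one of the 77 subgroups

An involution conjugate to `z` and one that is not, with `z` in the group generated by their product,
normalise a common elementary subgroup of order `2 ^ 11` through `z`.
-/

set_option autoImplicit false
set_option linter.style.haveILetI false
set_option linter.unusedSectionVars false

namespace Cfsg.Agent.J4Order

open Subgroup
open Cfsg.Agent.J4Local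
open Cfsg.Agent.J4Eleven

universe u

/-- The facts about the stabiliser of one of the 77. -/
structure StabFacts {G : Type u} [Group G] [Finite G] {z : G} {P : Subgroup G} (X : Chart z P) : Prop where
  three : ∀ r ∈ normalizer (X.std : Set G) ⊓ HH z, r ^ 27 = 1 → Odd (fixc z r)
  five : ∀ r ∈ normalizer (X.std : Set G) ⊓ HH z, orderOf r = 5 → fixc z r = 2
  small : ∀ w ∈ normalizer (X.std : Set G) ⊓ HH z, w * w = 1 → w ≠ 1 → fixc z w ≤ 11 → ¬ IsConj z w
  mid : ∀ w ∈ normalizer (X.std : Set G) ⊓ HH z, w * w = 1 → w ≠ 1 → fixc z w ≤ 15 →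
    ¬ IsConj z w ∨ w ∈ H0 z P
  sq_one : ∀ x ∈ normalizer (X.std : Set G) ⊓ HH z, orderOf x = 5 → ∀ u ∈ normalizer (X.std : Set G) ⊓ HH z,
    ∀ u' ∈ normalizer (X.std : Set G) ⊓ HH z, u * u = 1 → IsConj z u → u * x * u⁻¹ = x⁻¹ →
    u' * u' = 1 → IsConj z u' → u' * x * u'⁻¹ = x⁻¹ → (∃ k : ℕ, (u * u') ^ 2 ^ k = 1) → (u * u') * (u * u') = 1
  centre : ∀ x ∈ normalizer (X.std : Set G) ⊓ HH z, orderOf x = 5 → ∀ u ∈ normalizer (X.std : Set G) ⊓ HH z,
    u * u = 1 → IsConj z u → IsConj z (u * z) → u * x * u⁻¹ = x⁻¹ →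
    ∃ u0 ∈ normalizer (X.std : Set G) ⊓ HH z, u0 * u0 = 1 ∧ IsConj z u0 ∧ u0 * x * u0⁻¹ = x⁻¹ ∧
      ¬ IsConj z (u0 * z) ∧ u0 * u ∈ EE z ∧ (u0 * u) * (u0 * u) = 1 ∧
      ∀ u1 ∈ normalizer (X.std : Set G) ⊓ HH z, u1 * u1 = 1 → IsConj z u1 → u1 * x * u1⁻¹ = x⁻¹ →
        u1 * u ∈ EE z → ¬ IsConj z (u1 * z) → u1 = u0

variable {G : Type u} [Group G] [Finite G] {z : G} {P : Subgroup G} (X : Chart z P)

include X in
theorem odd_order_M22 {m : ↥Cfsg.Spor.M22} (ho : Odd (orderOf m)) :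
    orderOf m = 1 ∨ orderOf m = 3 ∨ orderOf m = 5 ∨ orderOf m = 7 ∨ orderOf m = 11 := by
  haveI := X.simple
  have hcard := X.hcard
  have key : ∀ p : ℕ, ∀ _ : Fact p.Prime, p = 5 ∨ p = 7 ∨ p = 11 → p ∣ orderOf m →
      (∀ Q : Sylow p ↥Cfsg.Spor.M22,
        Nat.card (centralizer ((Q : Subgroup ↥Cfsg.Spor.M22) : Set ↥Cfsg.Spor.M22)) = p) → orderOf m = p := by
    intro p hpf hp hd hC
    have hx : orderOf (m ^ (orderOf m / p)) = p := orderOf_pow_orderOf_div (orderOf_pos m).ne' hd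
    obtain ⟨Q, hQ⟩ := M22Order.exists_sylow_eq hcard hp hx
    have hm : m ∈ centralizer ((Q : Subgroup ↥Cfsg.Spor.M22) : Set ↥Cfsg.Spor.M22) := by
      rw [hQ]
      refine mem_centralizer_iff.2 fun y hy => ?_
      obtain ⟨k, rfl⟩ := mem_zpowers_iff.1 hy
      exact (((Commute.refl m).pow_right _).zpow_right k).eq.symm
    have h := (centralizer ((Q : Subgroup ↥Cfsg.Spor.M22) : Set ↥Cfsg.Spor.M22)).orderOf_dvd_natCard hm
    rw [hC Q] at h
    exact Nat.dvd_antisymm h hd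
  by_cases h5 : 5 ∣ orderOf m
  · exact Or.inr (Or.inr (Or.inl (key 5 ⟨by norm_num⟩ (Or.inl rfl) h5
      (by haveI : Fact (Nat.Prime 5) := ⟨by norm_num⟩; exact M22Order.card_five hcard))))
  by_cases h7 : 7 ∣ orderOf m
  · exact Or.inr (Or.inr (Or.inr (Or.inl (key 7 ⟨by norm_num⟩ (Or.inr (Or.inl rfl)) h7
      (by haveI : Fact (Nat.Prime 7) := ⟨by norm_num⟩; exact M22Order.card_seven hcard)))))
  by_cases h11 : 11 ∣ orderOf m
  · exact Or.inr (Or.inr (Or.inr (Or.inr (key 11 ⟨by norm_num⟩ (Or.inr (Or.inr rfl)) h11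
      (by haveI : Fact (Nat.Prime 11) := ⟨by norm_num⟩; exact M22Order.card_centralizer_eleven hcard)))))
  have hd : orderOf m ∣ 443520 := hcard ▸ orderOf_dvd_natCard m
  have h9 : orderOf m ∣ 9 := by
    have c2 : Nat.Coprime (orderOf m) (2 ^ 7) :=
      (Nat.coprime_two_right.2 ho).pow_right 7
    have c5 : Nat.Coprime (orderOf m) 5 := ((show Nat.Prime 5 by norm_num).coprime_iff_not_dvd.2 h5).symm
    have c7 : Nat.Coprime (orderOf m) 7 := ((show Nat.Prime 7 by norm_num).coprime_iff_not_dvd.2 h7).symm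
    have c11 : Nat.Coprime (orderOf m) 11 := ((show Nat.Prime 11 by norm_num).coprime_iff_not_dvd.2 h11).symm
    refine ((((c2.mul_right c5).mul_right c7).mul_right c11).dvd_of_dvd_mul_right ?_)
    rw [show 9 * (2 ^ 7 * 5 * 7 * 11) = 443520 by norm_num]
    exact hd
  suffices h3 : orderOf m ∣ 3 by
    rcases (Nat.dvd_prime Nat.prime_three).1 h3 with h | h
    · exact Or.inl h
    · exact Or.inr (Or.inl h)
  haveI : Fact (Nat.Prime 3) := ⟨Nat.prime_three⟩
  obtain ⟨i, -, hi⟩ := (Nat.dvd_prime_pow Nat.prime_three).1 (show orderOf m ∣ 3 ^ 2 by simpa using h9)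
  obtain ⟨Q, hQ⟩ := (IsPGroup.of_card (p := 3) (n := i) (by rw [Nat.card_zpowers, hi]) :
    IsPGroup 3 (zpowers m)).exists_le_sylow
  obtain ⟨T, hT⟩ := (IsPGroup.of_card (p := 3) (n := 2) (by rw [X.S.hP]; norm_num) :
    IsPGroup 3 X.S.P).exists_le_sylow
  have hTe : (T : Subgroup ↥Cfsg.Spor.M22) = X.S.P :=
    (eq_of_le_of_card_ge hT (by rw [X.S.hP, M22Order.card_sylow_three hcard T])).symm
  obtain ⟨g, hg⟩ := MulAction.exists_smul_eq ↥Cfsg.Spor.M22 Q T
  have hgm : g * m * g⁻¹ ∈ X.S.P := by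
    rw [← hTe, ← hg]
    exact ⟨m, hQ (mem_zpowers m), rfl⟩
  rw [← M22Order.orderOf_conj g m]
  set A := zpowers X.S.r with hA
  have hP9 : X.S.P = A ⊔ zpowers X.S.a := by
    refine (eq_of_le_of_card_ge (sup_le (zpowers_le.2 X.S.hrP) (zpowers_le.2 X.S.haP)) ?_).symm
    have h1 : A < A ⊔ zpowers X.S.a := lt_of_le_of_ne le_sup_left fun e => X.S.har (by
      rw [← hA, e]; exact mem_sup_right (mem_zpowers _))
    obtain ⟨k, hk⟩ := card_dvd_of_le h1.le
    have h3 : Nat.card A = 3 := by rw [hA, Nat.card_zpowers, X.S.hr]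
    have hd : Nat.card ↥(A ⊔ zpowers X.S.a) ∣ 3 ^ 2 := by
      rw [show (3 : ℕ) ^ 2 = Nat.card X.S.P by rw [X.S.hP]; norm_num]
      exact card_dvd_of_le (sup_le (zpowers_le.2 X.S.hrP) (zpowers_le.2 X.S.haP))
    obtain ⟨j, hj, hje⟩ := (Nat.dvd_prime_pow Nat.prime_three).1 hd
    rw [X.S.hP, hje]
    interval_cases j
    · have := Subgroup.card_le_of_le h1.le; rw [h3, hje] at this; norm_num at this
    · exact absurd (eq_of_le_of_card_ge h1.le (by rw [h3, hje]; norm_num)) h1.ne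
    · norm_num
  rw [hP9] at hgm
  have hn : zpowers X.S.a ≤ normalizer (A : Set ↥Cfsg.Spor.M22) := zpowers_le.2
    (M22Order.mem_normalizer_of_conj fun y hy => by
      rw [X.S.hPc _ X.S.haP _ (zpowers_le.2 X.S.hrP hy) |>.eq, mul_inv_cancel_right]; exact hy)
  obtain ⟨p, hp, q, hq, e⟩ := (Coprime.mem_sup_of_le_normalizer hn).1 hgm
  have hcube : ∀ {c w : ↥Cfsg.Spor.M22}, orderOf c = 3 → w ∈ zpowers c → w ^ 3 = 1 := fun {c w} hc hw =>
    orderOf_dvd_iff_pow_eq_one.1 (hc ▸ orderOf_dvd_of_mem_zpowers hw)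
  rw [← e]
  refine orderOf_dvd_of_pow_eq_one ?_
  rw [(X.S.hPc p (zpowers_le.2 X.S.hrP hp) q (zpowers_le.2 X.S.haP hq)).mul_pow, hcube X.S.hr hp,
    hcube X.S.ha hq, mul_one]

include X in
/-- An inner involution inverting an element of order five fixes its two fixed subgroups. -/
theorem inner_fix {x : G} (hx : x ∈ H0 z P) (hm : orderOf (X.psi ⟨x, hx⟩) = 5) (h2 : fixc z x = 2)
    {w : G} (hw : w ∈ H0 z P) (hwx : w * x * w⁻¹ = x⁻¹) {A : Subgroup G} (hA : A ∈ Fix z x) :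
    w ∈ normalizer (A : Set G) := by
  haveI := X.simple
  have hcard := X.hcard
  haveI : Fact (Nat.Prime 5) := ⟨by norm_num⟩
  set m := X.psi ⟨x, hx⟩ with hmdef
  obtain ⟨Q, hQ⟩ := M22Order.exists_sylow_eq hcard (Or.inl rfl) hm
  have hN := J4V.card_normalizer_five hcard Q
  have hC := M22Order.card_five hcard Q
  rw [hQ] at hN hC
  set f := (zpowers m).normalizerMonoidHom
  have hker : Nat.card f.ker = 5 := by
    rw [normalizerMonoidHom_ker, Nat.card_congr (subgroupOfEquivOfLe (centralizer_le_normalizer ..)).toEquiv]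
    exact hC
  have hAut : Nat.card (MulAut ↥(zpowers m)) = 4 := by
    haveI : IsCyclic ↥(zpowers m) := isCyclic_of_prime_card (p := 5) (by rw [Nat.card_zpowers, hm])
    rw [IsCyclic.card_mulAut, Nat.card_zpowers, hm]; rfl
  have hsurj : Function.Surjective f := by
    have h := f.ker.card_mul_index
    rw [hker, Subgroup.index_ker, hN] at h
    exact MonoidHom.range_eq_top.1 (eq_top_of_card_eq _ (by omega))
  have h52 : (Nat.card ↥(zpowers m)).Coprime 2 := by rw [Nat.card_zpowers, hm]; decide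
  let d : ↥(zpowers m) ≃* ↥(zpowers m) :=
    { powCoprime h52 with
      map_mul' := fun a b => Commute.mul_pow (Subtype.ext (by
        obtain ⟨i, hi⟩ := mem_zpowers_iff.1 a.2
        obtain ⟨j, hj⟩ := mem_zpowers_iff.1 b.2
        simp only [Subgroup.coe_mul, ← hi, ← hj]
        exact ((Commute.refl m).zpow_zpow i j).eq)) 2 }
  obtain ⟨⟨g, hg⟩, hgd⟩ := hsurj d
  have hgm : g * m * g⁻¹ = m ^ 2 := by
    have h := congrArg (fun φ : MulAut ↥(zpowers m) => ((φ ⟨m, mem_zpowers m⟩ : ↥(zpowers m)) :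
      ↥Cfsg.Spor.M22)) hgd
    simpa [f, d, powCoprime] using h
  obtain ⟨⟨h, hh⟩, hhg⟩ := X.psi_surjective g
  -- h preserves the pair
  have hpres : ∀ B ∈ Fix z x, cjS h B ∈ Fix z x := by
    intro B hB
    refine ⟨hB.1.conj (H0_le_HH z P hh), ?_⟩
    rw [mem_cjS_normalizer]
    refine fix_of_psi X (pow_mem hx 3) (mul_mem (mul_mem (inv_mem hh) hx) hh) ?_ hB.1 (pow_mem hB.2 3)
    rw [show (⟨x ^ 3, pow_mem hx 3⟩ : ↥(H0 z P)) = ⟨x, hx⟩ ^ 3 from rfl,
      show (⟨h⁻¹ * x * h, mul_mem (mul_mem (inv_mem hh) hx) hh⟩ : ↥(H0 z P)) =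
        ⟨h, hh⟩⁻¹ * ⟨x, hx⟩ * ⟨h, hh⟩ from rfl, map_pow, map_mul, map_mul, map_inv, hhg, ← hmdef]
    have h5 : m ^ 5 = 1 := hm ▸ pow_orderOf_eq_one m
    have e : g * m ^ 3 * g⁻¹ = m := by
      rw [← conj_pow, hgm, ← pow_mul, show 2 * 3 = 5 + 1 by norm_num, pow_succ, h5, one_mul]
    calc m ^ 3 = g⁻¹ * (g * m ^ 3 * g⁻¹) * g := by group
      _ = _ := by rw [e]
  have hfix2 : cjS (h * h) A = A := by
    rw [← cjS_cjS]
    obtain ⟨B, C, hne, hpair⟩ := Set.ncard_eq_two.1 (show (Fix z x).ncard = 2 from h2)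
    have hinj : ∀ {S T : Subgroup G}, cjS h S = cjS h T → S = T := fun {S T} e => by
      have h' := congrArg (cjS h⁻¹) e
      rwa [cjS_cjS, cjS_cjS, inv_mul_cancel, cjS_one, cjS_one] at h'
    have hBm : B ∈ Fix z x := hpair ▸ Set.mem_insert _ _
    have hCm : C ∈ Fix z x := hpair ▸ Set.mem_insert_of_mem _ rfl
    have hmem : ∀ S ∈ Fix z x, S = B ∨ S = C := fun S hS => by rw [hpair] at hS; simpa using hS
    rcases hmem _ (hpres B hBm) with e1 | e1 <;> rcases hmem _ (hpres C hCm) with e2 | e2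
    · exact absurd (hinj (e1.trans e2.symm)) hne
    · rcases hmem A hA with rfl | rfl
      · rw [e1, e1]
      · rw [e2, e2]
    · rcases hmem A hA with rfl | rfl
      · rw [e1, e2]
      · rw [e2, e1]
    · exact absurd (hinj (e1.trans e2.symm)) hne
  -- the involution is the square, up to powers of the element
  set n := X.psi ⟨w, hw⟩ with hn
  have hnm : n * m * n⁻¹ = m⁻¹ := by
    rw [hn, hmdef, ← map_inv, ← map_mul, ← map_mul, ← map_inv]
    exact congrArg X.psi (Subtype.ext hwx)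
  have hg2 : (g * g) * m * (g * g)⁻¹ = m⁻¹ := by
    rw [show g * g * m * (g * g)⁻¹ = g * (g * m * g⁻¹) * g⁻¹ by group, hgm, ← conj_pow, hgm, ← pow_mul]
    exact (inv_eq_of_mul_eq_one_right (by
      rw [← pow_succ', show (2 * 2 + 1) = orderOf m by rw [hm], pow_orderOf_eq_one])).symm
  have hcm : (g * g)⁻¹ * n ∈ zpowers m := by
    have hc : (g * g)⁻¹ * n ∈ centralizer ((zpowers m : Subgroup ↥Cfsg.Spor.M22) : Set ↥Cfsg.Spor.M22) := by
      refine mem_centralizer_iff.2 fun y hy => ?_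
      obtain ⟨k, rfl⟩ := mem_zpowers_iff.1 hy
      refine (((show Commute ((g * g)⁻¹ * n) m from ?_).zpow_right k).eq).symm
      refine mul_inv_eq_iff_eq_mul.1 ?_
      calc (g * g)⁻¹ * n * m * ((g * g)⁻¹ * n)⁻¹ = (g * g)⁻¹ * (n * m * n⁻¹) * (g * g) := by
            simp only [mul_inv_rev, inv_inv, mul_assoc]
        _ = (g * g)⁻¹ * ((g * g) * m * (g * g)⁻¹) * (g * g) := by rw [hnm, hg2]
        _ = m := by group
    have heq : zpowers m = centralizer ((zpowers m : Subgroup ↥Cfsg.Spor.M22) : Set ↥Cfsg.Spor.M22) :=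
      eq_of_le_of_card_ge (fun y hy => mem_centralizer_iff.2 fun y' hy' => by
        obtain ⟨i, rfl⟩ := mem_zpowers_iff.1 hy
        obtain ⟨j, rfl⟩ := mem_zpowers_iff.1 hy'
        exact ((Commute.refl m).zpow_zpow j i).eq) (by rw [hC, Nat.card_zpowers, hm])
    rw [heq]; exact hc
  obtain ⟨k, hk⟩ := mem_zpowers_iff.1 hcm
  refine fix_of_psi X (mul_mem (mul_mem hh hh) (zpow_mem hx k)) hw ?_ hA.1
    (mul_mem (mem_normalizer_of_cjS hfix2) (zpow_mem hA.2 k))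
  rw [show (⟨h * h * x ^ k, mul_mem (mul_mem hh hh) (zpow_mem hx k)⟩ : ↥(H0 z P)) =
    ⟨h, hh⟩ * ⟨h, hh⟩ * ⟨x, hx⟩ ^ k from rfl, map_mul, map_mul, map_zpow, hhg, ← hmdef, hk, ← hn,
    mul_inv_cancel_left]

include X in
/-- An outer involution does not move an involution of `E` by `z`. -/
theorem outer_move {v q : G} (hv : v ∈ HH z) (hv0 : v ∉ H0 z P) (hvv : v * v = 1) (hq : q ∈ EE z)
    (hqq : q * q = 1) : v * q * v⁻¹ ≠ q * z := by
  intro hmove
  have hJ := X.L.J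
  have h2 : v * v ∈ EE z := by rw [hvv]; exact one_mem _
  have hker : (nil z v).range = (nil z v).ker :=
    AddSubgroup.eq_of_le_of_card_ge (range_le_ker hJ hv h2)
      (by rw [card_ker_outer X.L hv hv0 h2, card_range_outer X.L hv hv0 h2])
  have hfix : vk z q ∈ (nil z v).ker := (mem_ker_nil hJ).2 (by
    rw [act_vk hv hq, hmove, X.vk_mul_z hq])
  rw [← hker] at hfix
  obtain ⟨a, ha⟩ := hfix
  obtain ⟨e, he, rfl⟩ := vk_surj a
  have hve : v * e * v⁻¹ ∈ EE z := conj_mem_EE hv he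
  have hvi : v⁻¹ = v := inv_eq_of_mul_eq_one_right hvv
  rw [nil_apply, act_vk hv he, ← vk_mul hve he] at ha
  set q0 := v * e * v⁻¹ * e with hq0
  have hq0E : q0 ∈ EE z := mul_mem hve he
  have hqi : q⁻¹ = q := inv_eq_of_mul_eq_one_right hqq
  have hvz : v * z * v⁻¹ = z := by rw [mem_HH.1 hv, mul_inv_cancel_right]
  have hcen : q * z = z * q := (show Commute q z from hJ.ctr.comm hq).eq
  have hswap : v * q0 * v⁻¹ = e * (v * e * v⁻¹) := by
    calc v * q0 * v⁻¹ = (v * v) * e * (v * v)⁻¹ * (v * e * v⁻¹) := by rw [hq0]; group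
      _ = _ := by rw [hvv]; group
  have hcases := (vk_eq_vk_iff hJ hq0E hq).1 ha
  have hsq : q0 * q0 = 1 := by
    rcases hcases with r | r
    · rw [r, hqq]
    · rw [r]
      calc q * z * (q * z) = q * (z * q) * z := by group
        _ = (q * q) * (z * z) := by rw [← hcen]; group
        _ = 1 := by rw [hqq, hJ.ctr.zz, one_mul]
  have hfix0 : v * q0 * v⁻¹ = q0 := by
    have hinv : q0⁻¹ = q0 := inv_eq_of_mul_eq_one_right hsq
    have hee : (e * e)⁻¹ = e * e := inv_eq_of_mul_eq_one_right (by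
      rcases hJ.ctr.sq_cases he with r | r <;> rw [r]
      · exact mul_one 1
      · exact hJ.ctr.zz)
    rw [hswap]
    calc e * (v * e * v⁻¹) = (e * e) * (e⁻¹ * (v * e⁻¹ * v⁻¹)) * (v * (e * e) * v⁻¹) := by group
      _ = (e * e) * q0 * (v * (e * e) * v⁻¹) := by
        rw [show e⁻¹ * (v * e⁻¹ * v⁻¹) = q0⁻¹ by rw [hq0]; group, hinv]
      _ = q0 := by
        rcases hJ.ctr.sq_cases he with r | r <;> rw [r]
        · group
        · rw [hvz, show z * q0 * z = z * (q0 * z) by group,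
            (show Commute q0 z from hJ.ctr.comm hq0E).eq, ← mul_assoc, hJ.ctr.zz, one_mul]
  have hz1 : q * z = q := by
    rcases hcases with r | r
    · rw [← hmove, ← r, hfix0]
    · have e1 : q = q0 * z := by rw [r, mul_assoc, hJ.ctr.zz, mul_one]
      rw [← hmove]
      calc v * q * v⁻¹ = v * q0 * v⁻¹ * (v * z * v⁻¹) := by rw [e1]; group
        _ = q := by rw [hfix0, hvz, ← e1]
  exact hJ.ctr.ne_one (mul_eq_left.1 hz1)

variable (F : StabFacts X)

include F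

theorem five_case {x u v s : G} (hx : x ∈ normalizer (X.std : Set G) ⊓ HH z) (hx5 : orderOf x = 5)
    (hψ : ∀ h, orderOf (X.psi ⟨x, h⟩) = 5) (hu : u ∈ normalizer (X.std : Set G) ⊓ HH z) (huu : u * u = 1)
    (huz : IsConj z u) (hux : u * x * u⁻¹ = x⁻¹) (hv : v ∈ HH z) (hvv : v * v = 1)
    (hvN : v ∉ normalizer (X.std : Set G)) (hvx : v * x * v⁻¹ = x⁻¹) (hs : u * v = s) (_hsx : s * x = x * s)
    (hs2 : ∃ k : ℕ, s ^ 2 ^ k = 1)
    (hzs : z ∈ zpowers s) : False := by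
  classical
  have hJ := X.L.J
  obtain ⟨hxN, hxH⟩ := mem_inf.1 hx
  have h2 := F.five x hx hx5
  have hxo : x ∈ H0 z P := mem_H0_of_odd X hxH (by rw [hx5]; decide)
  have hvi : v⁻¹ = v := inv_eq_of_mul_eq_one_right hvv
  have hui : u⁻¹ = u := inv_eq_of_mul_eq_one_right huu
  have hperm : ∀ {w : G}, w ∈ HH z → w * x * w⁻¹ = x⁻¹ → cjS w X.std ∈ Fix z x := by
    intro w hw hwx
    refine ⟨X.std_eleven.conj hw, ?_⟩
    rw [mem_cjS_normalizer, show w⁻¹ * x * w = x⁻¹ by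
      conv_lhs => rw [show x = (x⁻¹)⁻¹ by rw [inv_inv], ← hwx]
      group]
    exact inv_mem hxN
  have hstd : X.std ∈ Fix z x := ⟨X.std_eleven, hxN⟩
  set A2 := cjS v X.std with hA2
  have hA2m : A2 ∈ Fix z x := hperm hv hvx
  have hne : X.std ≠ A2 := fun e => hvN (mem_normalizer_of_cjS e.symm)
  have hpair : Fix z x = {X.std, A2} :=
    (Set.eq_of_subset_of_ncard_le (Set.pair_subset hstd hA2m)
      (by rw [Set.ncard_pair hne]; exact h2.le)).symm
  -- an inverting element of the stabiliser fixes the second one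
  have hfix2 : ∀ {w : G}, w ∈ normalizer (X.std : Set G) ⊓ HH z → w * x * w⁻¹ = x⁻¹ →
      v * w * v⁻¹ ∈ normalizer (X.std : Set G) ⊓ HH z := by
    intro w hw hwx
    refine mem_inf.2 ⟨?_, mul_mem (mul_mem hv (mem_inf.1 hw).2) (inv_mem hv)⟩
    have hw2 : cjS w A2 = A2 := by
      have hm : cjS w A2 ∈ Fix z x := by
        refine ⟨hA2m.1.conj (mem_inf.1 hw).2, ?_⟩
        rw [mem_cjS_normalizer, show w⁻¹ * x * w = x⁻¹ by
          conv_lhs => rw [show x = (x⁻¹)⁻¹ by rw [inv_inv], ← hwx]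
          group]
        exact inv_mem hA2m.2
      rw [hpair] at hm
      rcases hm with e | e
      · exfalso
        apply hne
        have h' := congrArg (cjS w⁻¹) e
        rw [cjS_cjS, inv_mul_cancel, cjS_one, cjS_eq_self (inv_mem (mem_inf.1 hw).1)] at h'
        exact h'.symm
      · exact e
    have := mem_normalizer_of_cjS hw2
    rw [hA2, mem_cjS_normalizer] at this
    rwa [hvi] at this ⊢
  have hvH0 : v ∉ H0 z P := fun h0 => hvN (inner_fix X hxo (hψ hxo) h2 h0 hvx hstd)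
  set u' := v * u * v⁻¹ with hu'
  have hu'K : u' ∈ normalizer (X.std : Set G) ⊓ HH z := hfix2 hu hux
  have hu'z : IsConj z u' := huz.trans (isConj_iff.2 ⟨v, rfl⟩)
  have hu'u' : u' * u' = 1 := by
    rw [hu', show v * u * v⁻¹ * (v * u * v⁻¹) = v * (u * u) * v⁻¹ by group, huu, mul_one, mul_inv_cancel]
  have hinvx : ∀ {w : G}, w * x * w⁻¹ = x⁻¹ → v * w * v⁻¹ * x * (v * w * v⁻¹)⁻¹ = x⁻¹ := by
    intro w hwx
    have h1 : v⁻¹ * x * v = x⁻¹ := by rw [hvi]; rw [hvi] at hvx; exact hvx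
    calc v * w * v⁻¹ * x * (v * w * v⁻¹)⁻¹ = v * (w * (v⁻¹ * x * v) * w⁻¹) * v⁻¹ := by group
      _ = v * (w * x * w⁻¹)⁻¹ * v⁻¹ := by rw [h1]; group
      _ = x⁻¹ := by rw [hwx, inv_inv, hvx]
  have hss : u * u' = s * s := by rw [hu', hvi, ← hs]; group
  have h4 := F.sq_one x hx hx5 u hu u' hu'K huu huz hux hu'u' hu'z (hinvx hux)
    (by
      obtain ⟨k, hk⟩ := hs2
      exact ⟨k, by rw [hss, ← pow_two, ← pow_mul, mul_comm, pow_mul, hk, one_pow]⟩)
  rw [hss] at h4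
  obtain ⟨i, hi⟩ := mem_zpowers_iff.1 hzs
  have hs4 : s ^ (4 : ℕ) = 1 := by rw [show (4 : ℕ) = 2 + 2 from rfl, pow_add, pow_two]; exact h4
  have hi' : z = s ^ (i % 4).toNat := by
    rw [← hi, ← zpow_natCast, Int.toNat_of_nonneg (Int.emod_nonneg _ (by norm_num))]
    conv_lhs => rw [← Int.emod_add_mul_ediv i 4, zpow_add, zpow_mul, show s ^ (4 : ℤ) = 1 by exact_mod_cast hs4,
      one_zpow, mul_one]
  have hzz : z = s * s := by
    have hlt : (i % 4).toNat < 4 := by omega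
    have hnot : z ≠ s := fun e => hvN (by
      have ev : v = u * z := by rw [e, ← hs, ← mul_assoc, huu, one_mul]
      rw [ev]
      exact mul_mem (mem_inf.1 hu).1 (le_normalizer X.z_mem_std))
    interval_cases hk : (i % 4).toNat
    · exact absurd (hi'.trans (pow_zero s)) hJ.ctr.ne_one
    · exact absurd (hi'.trans (pow_one s)) hnot
    · rw [hi', pow_two]
    · exfalso
      apply hnot
      calc z = z⁻¹ := (inv_eq_of_mul_eq_one_right hJ.ctr.zz).symm
        _ = (s ^ 3)⁻¹ := by rw [← hi']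
        _ = s := inv_eq_of_mul_eq_one_right (by rw [← pow_succ, hs4])
  have hu'e : u' = u * z := by
    rw [hzz, ← hss, ← mul_assoc, huu, one_mul]
  obtain ⟨u0, hu0, hu00, hu0z, hu0x, hu0n, hqE, hqq, huniq⟩ :=
    F.centre x hx hx5 u hu huu huz (hu'e ▸ hu'z) hux
  set q := u0 * u with hq
  have hvz : v * z * v⁻¹ = z := by rw [mem_HH.1 hv, mul_inv_cancel_right]
  have hu1 : v * u0 * v⁻¹ = u0 := by
    refine huniq _ (hfix2 hu0 hu0x) ?_ (hu0z.trans (isConj_iff.2 ⟨v, rfl⟩)) (hinvx hu0x) ?_ ?_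
    · rw [show v * u0 * v⁻¹ * (v * u0 * v⁻¹) = v * (u0 * u0) * v⁻¹ by group, hu00, mul_one, mul_inv_cancel]
    · have e : v * u0 * v⁻¹ * u = v * (u0 * u * z) * v⁻¹ := by
        rw [mul_assoc u0 u z, ← hu'e, hu']
        calc v * u0 * v⁻¹ * u = v * u0 * (v⁻¹ * u * v) * v⁻¹ := by group
          _ = _ := by rw [hvi]; group
      rw [e]
      exact conj_mem_EE hv (mul_mem hqE X.z_mem_EE)
    · intro hbad
      apply hu0n
      refine hbad.trans (isConj_iff.2 ⟨v⁻¹, ?_⟩)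
      calc v⁻¹ * (v * u0 * v⁻¹ * z) * v⁻¹⁻¹ = u0 * v⁻¹ * (v * z * v⁻¹) * v := by rw [hvz]; group
        _ = u0 * z := by group
  refine outer_move X hv hvH0 hvv hqE hqq ?_
  calc v * (u0 * u) * v⁻¹ = (v * u0 * v⁻¹) * (v * u * v⁻¹) := by group
    _ = u0 * u * z := by rw [hu1, ← hu', hu'e, mul_assoc]

omit F

theorem inv_fix {w x : G} (hw : w ∈ HH z) (hwx : w * x * w⁻¹ = x⁻¹) {A : Subgroup G} (hA : A ∈ Fix z x) :
    cjS w A ∈ Fix z x := by
  refine ⟨hA.1.conj hw, ?_⟩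
  rw [mem_cjS_normalizer, show w⁻¹ * x * w = x⁻¹ by
    conv_lhs => rw [show x = (x⁻¹)⁻¹ by rw [inv_inv], ← hwx]
    group]
  exact inv_mem hA.2

theorem commute_fix {w x : G} (hw : w ∈ HH z) (hwx : w * x = x * w) {A : Subgroup G} (hA : A ∈ Fix z x) :
    cjS w A ∈ Fix z x := by
  refine ⟨hA.1.conj hw, ?_⟩
  rw [mem_cjS_normalizer, mul_assoc, ← hwx, inv_mul_cancel_left]
  exact hA.2

theorem parity {p n : ℕ} [Fact p.Prime] {g : G} (hg : g ^ p ^ n = 1) (S : Set (Subgroup G))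
    (hS : ∀ A ∈ S, cjS g A ∈ S) :
    {A ∈ S | g ∈ normalizer (A : Set G)}.ncard ≡ S.ncard [MOD p] := by
  classical
  letI : Fintype ↥S := Fintype.ofFinite _
  let f : ↥S → ↥S := fun A => ⟨cjS g A.1, hS A.1 A.2⟩
  have hinj : Function.Injective f := fun A B h => Subtype.ext (by
    have h' := congrArg (cjS g⁻¹) (congrArg Subtype.val h)
    simpa [f, cjS_cjS, cjS_one] using h')
  let σ : Equiv.Perm ↥S := Equiv.ofBijective f (Finite.injective_iff_bijective.1 hinj)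
  have hpow : ∀ (k : ℕ) (A : ↥S), ((σ ^ k) A).1 = cjS (g ^ k) A.1 := by
    intro k
    induction k with
    | zero => intro A; rw [pow_zero, pow_zero, cjS_one]; rfl
    | succ k ih =>
      intro A
      rw [pow_succ', pow_succ', ← cjS_cjS]
      show cjS g ((σ ^ k) A).1 = _
      rw [ih]
  have hσ : σ ^ p ^ n = 1 := Equiv.ext fun A => Subtype.ext (by rw [hpow, hg, cjS_one]; rfl)
  have h := Equiv.Perm.card_compl_support_modEq hσ
  rw [← Nat.card_eq_fintype_card, Nat.card_coe_set_eq] at h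
  have e : {A ∈ S | g ∈ normalizer (A : Set G)} =
      Subtype.val '' ((σ.supportᶜ : Finset ↥S) : Set ↥S) := by
    ext A
    constructor
    · rintro ⟨hA, hn⟩
      refine ⟨⟨A, hA⟩, ?_, rfl⟩
      simp only [Finset.coe_compl, Set.mem_compl_iff, Finset.mem_coe, Equiv.Perm.mem_support, not_not]
      exact Subtype.ext (cjS_eq_self hn)
    · rintro ⟨B, hB, rfl⟩
      simp only [Finset.coe_compl, Set.mem_compl_iff, Finset.mem_coe, Equiv.Perm.mem_support, not_not] at hB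
      exact ⟨B.2, mem_normalizer_of_cjS (congrArg Subtype.val hB)⟩
  rw [e, Set.ncard_image_of_injective _ Subtype.val_injective, Set.ncard_coe_finset]
  exact h

include X in
theorem fixc_modEq {p n : ℕ} [Fact p.Prime] {g : G} (hgH : g ∈ HH z) (hg : g ^ p ^ n = 1) :
    fixc z g ≡ 77 [MOD p] := by
  rw [← card_all X]
  exact parity hg {A | Eleven z A} fun A hA => (hA : Eleven z A).conj hgH

include X in
theorem exists_part {r : G} (hr : r ∈ H0 z P) {p M b : ℕ} (_hp : p.Prime) (hM : M * p ^ b = Nat.card ↥(HH z))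
    (hcop : Nat.Coprime M p) (ho : orderOf (X.psi ⟨r, hr⟩) = p) :
    ∃ k : ℕ, (r ^ k) ^ p ^ b = 1 ∧ X.psi ⟨r ^ k, pow_mem hr k⟩ = X.psi ⟨r, hr⟩ ∧ fixc z (r ^ k) = fixc z r := by
  obtain ⟨k, hk0, hk1⟩ := Nat.chineseRemainder hcop 0 1
  obtain ⟨c, hc⟩ := Nat.modEq_zero_iff_dvd.1 hk0
  refine ⟨k, ?_, ?_, ?_⟩
  · rw [← pow_mul, show k * p ^ b = Nat.card ↥(HH z) * c by rw [hc, ← hM]; ring, pow_mul]
    have h1 : r ^ Nat.card ↥(HH z) = 1 :=
      congrArg Subtype.val (pow_card_eq_one' (x := (⟨r, H0_le_HH z P hr⟩ : ↥(HH z))))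
    rw [h1, one_pow]
  all_goals
    have he : X.psi ⟨r ^ k, pow_mem hr k⟩ = X.psi ⟨r, hr⟩ := by
      rw [show (⟨r ^ k, pow_mem hr k⟩ : ↥(H0 z P)) = ⟨r, hr⟩ ^ k from rfl, map_pow]
      conv_rhs => rw [← pow_one (X.psi ⟨r, hr⟩)]
      exact pow_eq_pow_iff_modEq.2 (ho.symm ▸ hk1)
  · exact he
  · refine congrArg Set.ncard (Set.ext fun A => ?_)
    exact ⟨fun h => ⟨h.1, fix_of_psi X (pow_mem hr k) hr he h.1 h.2⟩,
      fun h => ⟨h.1, fix_of_psi X hr (pow_mem hr k) he.symm h.1 h.2⟩⟩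

include X in
theorem fix_bound {p : ℕ} (hp : p.Prime) (hp2 : p ≠ 2) {w x : G} (_hw : w ∈ HH z) (hxH : x ∈ HH z)
    (hxp : x ^ p = 1) (hwx : w * x * w⁻¹ = x⁻¹) (hno : ∀ A ∈ Fix z w, x ∉ normalizer (A : Set G)) :
    p * fixc z w ≤ 77 := by
  classical
  have : ∀ A B : Subgroup G, A ∈ Fix z w → B ∈ Fix z w → ∀ k : ℕ, cjS (x ^ k) A = B → p ∣ k := by
    intro A B hA hB k e
    by_contra hk
    apply hno A hA
    have h1 : cjS (x ^ k)⁻¹ A = B := by
      have h := congrArg (cjS w) e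
      rw [cjS_eq_self hB.2, cjS_cjS, show w * x ^ k = (w * x ^ k * w⁻¹) * w by group, ← cjS_cjS,
        cjS_eq_self hA.2, ← conj_pow, hwx, inv_pow] at h
      exact h
    have h2 : x ^ (2 * k) ∈ normalizer (A : Set G) := by
      refine mem_normalizer_of_cjS ?_
      rw [two_mul, pow_add, ← cjS_cjS, e, ← h1, cjS_cjS, mul_inv_cancel, cjS_one]
    have hcop : Nat.Coprime (2 * k) (orderOf x) := by
      refine Nat.Coprime.coprime_dvd_right (orderOf_dvd_of_pow_eq_one hxp) (Nat.Coprime.mul_left ?_ ?_)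
      · exact (Nat.coprime_primes Nat.prime_two hp).2 hp2.symm
      · exact (hp.coprime_iff_not_dvd.2 hk).symm
    obtain ⟨j, hj⟩ := exists_pow_eq_self_of_coprime hcop
    exact hj ▸ pow_mem h2 j
  let S := {A : Subgroup G | Eleven z A}
  let f : ↥(Fix z w) × Fin p → ↥S := fun Ai => ⟨cjS (x ^ (Ai.2 : ℕ)) Ai.1.1, Ai.1.2.1.conj (pow_mem hxH _)⟩
  have key : ∀ (A B : ↥(Fix z w)) (i j : Fin p), (i : ℕ) ≤ j → f (A, i) = f (B, j) → (A, i) = (B, j) := by
    intro A B i j hij e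
    have e' : cjS (x ^ (i : ℕ)) A.1 = cjS (x ^ (j : ℕ)) B.1 := congrArg Subtype.val e
    have h1 : cjS (x ^ ((j : ℕ) - i)) B.1 = A.1 := by
      have h := congrArg (cjS (x ^ (i : ℕ))⁻¹) e'
      rw [cjS_cjS, inv_mul_cancel, cjS_one, cjS_cjS] at h
      rw [h, show (x ^ (i : ℕ))⁻¹ * x ^ (j : ℕ) = x ^ ((j : ℕ) - i) by
        rw [inv_mul_eq_iff_eq_mul, ← pow_add, Nat.add_sub_cancel' hij]]
    have h2 : (j : ℕ) - i = 0 :=
      Nat.eq_zero_of_dvd_of_lt (this _ _ B.2 A.2 _ h1) (lt_of_le_of_lt (Nat.sub_le _ _) j.2)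
    rw [h2, pow_zero, cjS_one] at h1
    exact Prod.ext (Subtype.ext h1.symm) (Fin.ext (le_antisymm hij (Nat.le_of_sub_eq_zero h2)))
  have hinj : Function.Injective f := by
    rintro ⟨A, i⟩ ⟨B, j⟩ e
    rcases le_total (i : ℕ) j with h | h
    · exact key A B i j h e
    · exact (key B A j i h e.symm).symm
  have h := Nat.card_le_card_of_injective f hinj
  rw [Nat.card_prod, Nat.card_fin, Nat.card_coe_set_eq, Nat.card_coe_set_eq, card_all X] at h
  rw [mul_comm]; exact h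

theorem isConj_z_conj {d u : G} (h : IsConj z u) : IsConj z (d⁻¹ * u * d) :=
  h.trans (isConj_iff.2 ⟨d⁻¹, by rw [inv_inv]⟩)

include F in
/-- The pairs with `z` in the cyclic group of their product fix one of the 77. -/
theorem no_unfixed {u v : G} (hu : u ∈ HH z) (huu : u * u = 1) (huz : IsConj z u) (hv : v ∈ HH z)
    (hvv : v * v = 1) (hz : z ∈ zpowers (u * v)) :
    ∃ A, Eleven z A ∧ u ∈ normalizer (A : Set G) ∧ v ∈ normalizer (A : Set G) := by
  classical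
  haveI : Fact (Nat.Prime 2) := ⟨Nat.prime_two⟩
  have hJ := X.L.J
  have hu1 : u ≠ 1 := by
    rintro rfl
    exact hJ.ctr.ne_one (isConj_one_left.1 huz)
  have hui : u⁻¹ = u := inv_eq_of_mul_eq_one_right huu
  have hvi : v⁻¹ = v := inv_eq_of_mul_eq_one_right hvv
  set y := u * v with hy
  have hyH : y ∈ HH z := mul_mem hu hv
  have huy : u * y * u⁻¹ = y⁻¹ := by
    rw [hy, mul_inv_rev, hui, hvi, ← mul_assoc, huu, one_mul]
  obtain ⟨a, m, hmd, hn⟩ := Nat.exists_eq_pow_mul_and_not_dvd (orderOf_pos y).ne' 2 (by norm_num)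
  have hm : Odd m := Nat.odd_iff.2 (by omega)
  set s := y ^ m with hs
  set r := y ^ 2 ^ a with hr
  have hs2 : s ^ 2 ^ a = 1 := by rw [hs, ← pow_mul, mul_comm, ← hn, pow_orderOf_eq_one]
  have hrm : r ^ m = 1 := by rw [hr, ← pow_mul, ← hn, pow_orderOf_eq_one]
  have hrH : r ∈ HH z := pow_mem hyH _
  have hsH : s ∈ HH z := pow_mem hyH _
  have hro : Odd (orderOf r) := hm.of_dvd_nat (orderOf_dvd_of_pow_eq_one hrm)
  have hr0 : r ∈ H0 z P := mem_H0_of_odd X hrH hro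
  have hur : u * r * u⁻¹ = r⁻¹ := by rw [hr, ← conj_pow, huy, inv_pow]
  have hus : u * s * u⁻¹ = s⁻¹ := by rw [hs, ← conj_pow, huy, inv_pow]
  have hsr : s * r = r * s := ((Commute.refl y).pow_pow m (2 ^ a)).eq
  have hzs : z ∈ zpowers s := by
    obtain ⟨i, hi⟩ := (mem_powers_iff_mem_zpowers (x := y) (y := z)).2 hz
    have hi' : y ^ i = z := hi
    have h2 : orderOf y ∣ 2 * i := orderOf_dvd_of_pow_eq_one (by
      rw [mul_comm, pow_mul, hi', pow_two]; exact hJ.ctr.zz)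
    rw [hn] at h2
    obtain ⟨c, hc⟩ := (Nat.coprime_two_right.2 hm).dvd_of_dvd_mul_left (dvd_trans (Dvd.intro_left _ rfl) h2)
    exact mem_zpowers_iff.2 ⟨c, by rw [zpow_natCast, hs, ← pow_mul, ← hc, hi']⟩
  suffices hgoal : ∃ A ∈ Fix z r, u ∈ normalizer (A : Set G) ∧ s ∈ normalizer (A : Set G) by
    obtain ⟨A, hA, hAu, hAs⟩ := hgoal
    refine ⟨A, hA.1, hAu, ?_⟩
    have hcop : Nat.Coprime m (2 ^ a) := (Nat.coprime_two_right.2 hm).pow_right a
    have hyA : y ∈ normalizer (A : Set G) := by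
      have e : y = s ^ Nat.gcdA m (2 ^ a) * r ^ Nat.gcdB m (2 ^ a) := by
        rw [hs, hr, ← zpow_natCast y m, ← zpow_natCast y (2 ^ a), ← zpow_mul, ← zpow_mul, ← zpow_add,
          ← Nat.gcd_eq_gcd_ab, hcop.gcd_eq_one, Nat.cast_one, zpow_one]
      rw [e]
      exact mul_mem (zpow_mem hAs _) (zpow_mem hA.2 _)
    have e : v = u * y := by rw [hy, ← mul_assoc, huu, one_mul]
    rw [e]; exact mul_mem hAu hyA
  by_cases hodd : Odd (fixc z r)
  · have h1 := parity (p := 2) hs2 (Fix z r) fun A hA => commute_fix hsH hsr hA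
    have h2 := parity (p := 2) (n := 1) (g := u) (by rw [pow_one, pow_two]; exact huu)
      {A ∈ Fix z r | s ∈ normalizer (A : Set G)} (by
        rintro A ⟨hA, hAs⟩
        refine ⟨inv_fix hu hur hA, ?_⟩
        rw [mem_cjS_normalizer, show u⁻¹ * s * u = s⁻¹ by
          conv_lhs => rw [show s = (s⁻¹)⁻¹ by rw [inv_inv], ← hus]
          group]
        exact inv_mem hAs)
    have h3 : {A ∈ {A ∈ Fix z r | s ∈ normalizer (A : Set G)} | u ∈ normalizer (A : Set G)}.ncard % 2 = 1 := by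
      rw [h2, h1]
      exact Nat.odd_iff.1 hodd
    obtain ⟨A, ⟨hA, hAs⟩, hAu⟩ := Set.nonempty_of_ncard_ne_zero (fun e => by rw [e] at h3; simp at h3)
    exact ⟨A, hA, hAu, hAs⟩
  have hH : Nat.card ↥(HH z) = 2 ^ 21 * 3 ^ 3 * 5 * 7 * 11 := by rw [X.L.cardH]; norm_num
  have hev : Even (fixc z r) := Nat.not_odd_iff_even.1 hodd
  have hψo : Odd (orderOf (X.psi ⟨r, hr0⟩)) := by
    refine hro.of_dvd_nat ?_
    rw [show orderOf r = orderOf (⟨r, hr0⟩ : ↥(H0 z P)) from Subgroup.orderOf_coe (⟨r, hr0⟩ : ↥(H0 z P))]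
    exact orderOf_map_dvd _ _
  have hno : ∀ {p b : ℕ}, (p = 7 ∨ p = 11) → ∀ x ∈ HH z, x ^ p = 1 → x ≠ 1 → ∀ A, Eleven z A →
      x ∉ normalizer (A : Set G) := by
    intro p b hp x hxH hxp hx1 A hA hxA
    obtain ⟨d, hd, rfl⟩ := exists_std X hA
    rw [mem_cjS_normalizer] at hxA
    have hm' : d⁻¹ * x * d ∈ normalizer (X.std : Set G) ⊓ HH z :=
      mem_inf.2 ⟨hxA, mul_mem (mul_mem (inv_mem hd.1) hxH) hd.1⟩
    have h1 := (normalizer (X.std : Set G) ⊓ HH z).orderOf_dvd_natCard hm'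
    have hpp : p.Prime := by rcases hp with rfl | rfl <;> norm_num
    haveI : Fact p.Prime := ⟨hpp⟩
    rw [X.card_normalizer_HH, show d⁻¹ * x * d = d⁻¹ * x * d⁻¹⁻¹ by rw [inv_inv], M22Order.orderOf_conj,
      orderOf_eq_prime hxp hx1] at h1
    rcases hp with rfl | rfl <;> norm_num at h1
  have hstd : ∀ {x : G}, x ∈ HH z → fixc z x ≠ 0 → ∃ d ∈ CC z P, d⁻¹ * x * d ∈ normalizer (X.std : Set G) ⊓ HH z ∧
      fixc z (d⁻¹ * x * d) = fixc z x := by
    intro x hxH hne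
    obtain ⟨A, hA, hxA⟩ := Set.nonempty_of_ncard_ne_zero hne
    obtain ⟨d, hd, rfl⟩ := exists_std X hA
    rw [mem_cjS_normalizer] at hxA
    refine ⟨d, hd, mem_inf.2 ⟨hxA, mul_mem (mul_mem (inv_mem hd.1) hxH) hd.1⟩, ?_⟩
    have h := fixc_conj (inv_mem hd.1) x
    rwa [inv_inv] at h
  have hufix : fixc z u ≠ 0 := fun e => by
    have h := fixc_modEq X (p := 2) (n := 1) hu (by rw [pow_one, pow_two]; exact huu)
    rw [e] at h; revert h; decide
  rcases odd_order_M22 X hψo with h1 | h3 | h5 | h7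
  · exfalso
    have e : X.psi ⟨1, one_mem _⟩ = X.psi ⟨r, hr0⟩ := by
      rw [orderOf_eq_one_iff.1 h1]; exact map_one X.psi
    have hall : fixc z r = 77 := by
      rw [← card_all X]
      exact congrArg Set.ncard (Set.ext fun A => ⟨fun h => h.1,
        fun h => ⟨h, fix_of_psi X (one_mem _) hr0 e h (one_mem _)⟩⟩)
    rw [hall] at hev
    revert hev; decide
  · exfalso
    obtain ⟨k, hk, -, hkf⟩ := exists_part X hr0 Nat.prime_three (M := 2 ^ 21 * 5 * 7 * 11) (b := 3)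
      (by rw [hH]; norm_num) (by norm_num) h3
    haveI : Fact (Nat.Prime 3) := ⟨Nat.prime_three⟩
    have hmod := fixc_modEq X (p := 3) (n := 3) (pow_mem hrH k) hk
    obtain ⟨d, hd, hdx, hdf⟩ := hstd (pow_mem hrH k) (fun e => by rw [e] at hmod; revert hmod; decide)
    have hodd3 := F.three _ hdx (by
      rw [show d⁻¹ * r ^ k * d = d⁻¹ * r ^ k * d⁻¹⁻¹ by rw [inv_inv], conj_pow,
        show (r ^ k) ^ 27 = 1 from hk, mul_one, inv_inv, inv_mul_cancel])
    rw [hdf, hkf] at hodd3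
    exact Nat.not_even_iff_odd.2 hodd3 hev
  · obtain ⟨k, hk, hkψ, hkf⟩ := exists_part X hr0 (show Nat.Prime 5 by norm_num) (M := 2 ^ 21 * 3 ^ 3 * 7 * 11)
      (b := 1) (by rw [hH]; norm_num) (by norm_num) h5
    haveI : Fact (Nat.Prime 5) := ⟨by norm_num⟩
    set x := r ^ k with hxdef
    have hxH : x ∈ HH z := pow_mem hrH k
    have hx0 : x ∈ H0 z P := pow_mem hr0 k
    rw [pow_one] at hk
    have hψx : orderOf (X.psi ⟨x, hx0⟩) = 5 := by rw [hkψ, h5]
    have hxne : x ≠ 1 := fun e => by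
      have e1 : X.psi ⟨x, hx0⟩ = 1 := by
        rw [show (⟨x, hx0⟩ : ↥(H0 z P)) = 1 from Subtype.ext e, map_one]
      rw [e1, orderOf_one] at hψx; omega
    have hx5 : orderOf x = 5 := orderOf_eq_prime hk hxne
    have hxfix : fixc z x ≠ 0 := fun e => by
      have h := fixc_modEq X (p := 5) (n := 1) hxH (by rw [pow_one]; exact hk)
      rw [e] at h; revert h; decide
    obtain ⟨d, hd, hdx, hdf⟩ := hstd hxH hxfix
    have h2 : fixc z x = 2 := by
      rw [← hdf]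
      refine F.five _ hdx ?_
      rw [show d⁻¹ * x * d = d⁻¹ * x * d⁻¹⁻¹ by rw [inv_inv], M22Order.orderOf_conj, hx5]
    have hFix : Fix z x = Fix z r := Set.ext fun A =>
      ⟨fun h => ⟨h.1, fix_of_psi X hx0 hr0 hkψ h.1 h.2⟩, fun h => ⟨h.1, fix_of_psi X hr0 hx0 hkψ.symm h.1 h.2⟩⟩
    have hux : u * x * u⁻¹ = x⁻¹ := by rw [hxdef, ← conj_pow, hur, inv_pow]
    have hsx : s * x = x * s := (show Commute s r from hsr).pow_right k
    have hswap : ∀ {w : G}, w ∈ HH z → w * x * w⁻¹ = x⁻¹ → ∀ {A B : Subgroup G}, A ∈ Fix z x → B ∈ Fix z x →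
        w ∈ normalizer (A : Set G) → w ∈ normalizer (B : Set G) := by
      intro w hw hwx A B hA hB hwA
      by_cases e : A = B
      · exact e ▸ hwA
      refine mem_normalizer_of_cjS ?_
      have hpair : Fix z x = {A, B} :=
        (Set.eq_of_subset_of_ncard_le (Set.pair_subset hA hB) (by rw [Set.ncard_pair e]; exact h2.le)).symm
      have hm' := inv_fix hw hwx hB
      rw [hpair] at hm'
      rcases hm' with e' | e'
      · exfalso
        apply e
        have h' := congrArg (cjS w⁻¹) e'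
        rw [cjS_cjS, inv_mul_cancel, cjS_one, cjS_eq_self (inv_mem hwA)] at h'
        exact h'.symm
      · exact e'
    have huA : ∀ A ∈ Fix z x, u ∈ normalizer (A : Set G) := by
      intro A hA
      by_contra hnA
      have hno' : ∀ B ∈ Fix z u, x ∉ normalizer (B : Set G) := fun B hB hxB =>
        hnA (hswap hu hux ⟨hB.1, hxB⟩ hA hB.2)
      have hb := fix_bound X (show Nat.Prime 5 by norm_num) (by norm_num) hu hxH hk hux hno'
      obtain ⟨d', hd', hdu, hduf⟩ := hstd hu hufix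
      rcases F.mid _ hdu (by rw [show d'⁻¹ * u * d' * (d'⁻¹ * u * d') = d'⁻¹ * (u * u) * d' by group, huu,
          mul_one, inv_mul_cancel])
        (fun e => hu1 (by rw [mul_assoc, inv_mul_eq_one, eq_comm] at e; exact mul_eq_right.1 e))
        (by omega) with hnz | h0
      · exact hnz (isConj_z_conj huz)
      · have hu0 : u ∈ H0 z P := by
          have e : u = d' * (d'⁻¹ * u * d') * d'⁻¹ := by group
          rw [e]
          exact mul_mem (mul_mem (CC_le_H0 z P hd') h0) (inv_mem (CC_le_H0 z P hd'))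
        exact hnA (inner_fix X hx0 hψx h2 hu0 hux hA)
    obtain ⟨A, hA⟩ := Set.nonempty_of_ncard_ne_zero hxfix
    refine ⟨A, hFix ▸ hA, huA A hA, ?_⟩
    by_contra hnA
    obtain ⟨c, hc, rfl⟩ := exists_std X hA.1
    have hcH : c ∈ HH z := hc.1
    have hcz : c⁻¹ * z * c = z := by
      rw [mul_assoc, ← mem_HH.1 hcH, inv_mul_cancel_left]
    have hxA := hA.2
    have huA' := huA _ hA
    rw [mem_cjS_normalizer] at hxA huA'
    rw [mem_cjS_normalizer] at hnA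
    have hψc : ∀ h, orderOf (X.psi ⟨c⁻¹ * x * c, h⟩) = 5 := fun h => by
      have e : (⟨c⁻¹ * x * c, h⟩ : ↥(H0 z P)) =
          ⟨c, CC_le_H0 z P hc⟩⁻¹ * ⟨x, hx0⟩ * ⟨c, CC_le_H0 z P hc⟩ := rfl
      rw [e, map_mul, map_mul, map_inv]
      rw [show ∀ g m : ↥Cfsg.Spor.M22, g⁻¹ * m * g = g⁻¹ * m * g⁻¹⁻¹ from fun g m => by rw [inv_inv],
        M22Order.orderOf_conj, hψx]
    have hconj : ∀ {p q : G}, c⁻¹ * p * c * (c⁻¹ * q * c) = c⁻¹ * (p * q) * c := fun {p q} => by group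
    refine five_case X F (x := c⁻¹ * x * c) (u := c⁻¹ * u * c) (v := c⁻¹ * (u * s) * c) (s := c⁻¹ * s * c)
      (mem_inf.2 ⟨hxA, mul_mem (mul_mem (inv_mem hcH) hxH) hcH⟩) ?_ hψc
      (mem_inf.2 ⟨huA', mul_mem (mul_mem (inv_mem hcH) hu) hcH⟩) ?_ (isConj_z_conj huz) ?_
      (mul_mem (mul_mem (inv_mem hcH) (mul_mem hu hsH)) hcH) ?_ ?_ ?_ ?_ ?_ ⟨a, ?_⟩ ?_
    · rw [show c⁻¹ * x * c = c⁻¹ * x * c⁻¹⁻¹ by rw [inv_inv], M22Order.orderOf_conj, hx5]
    · rw [hconj, huu, mul_one, inv_mul_cancel]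
    · calc c⁻¹ * u * c * (c⁻¹ * x * c) * (c⁻¹ * u * c)⁻¹ = c⁻¹ * (u * x * u⁻¹) * c := by group
        _ = _ := by rw [hux]; group
    · rw [hconj, show u * s * (u * s) = u * s * u⁻¹ * s by rw [hui]; group, hus, inv_mul_cancel, mul_one,
        inv_mul_cancel]
    · intro hbad
      apply hnA
      have e : c⁻¹ * s * c = c⁻¹ * u * c * (c⁻¹ * (u * s) * c) := by
        rw [hconj, ← mul_assoc u u s, huu, one_mul]
      rw [e]; exact mul_mem huA' hbad
    · calc c⁻¹ * (u * s) * c * (c⁻¹ * x * c) * (c⁻¹ * (u * s) * c)⁻¹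
          = c⁻¹ * (u * (s * x * s⁻¹) * u⁻¹) * c := by group
        _ = _ := by rw [hsx, mul_inv_cancel_right, hux]; group
    · rw [hconj, ← mul_assoc u u s, huu, one_mul]
    · rw [hconj, hconj, hsx]
    · rw [show c⁻¹ * s * c = c⁻¹ * s * c⁻¹⁻¹ by rw [inv_inv], conj_pow, hs2, mul_one, inv_inv, inv_mul_cancel]
    · obtain ⟨i, hi⟩ := mem_zpowers_iff.1 hzs
      refine mem_zpowers_iff.2 ⟨i, ?_⟩
      rw [show c⁻¹ * s * c = c⁻¹ * s * c⁻¹⁻¹ by rw [inv_inv], conj_zpow, hi, inv_inv, hcz]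
  · exfalso
    have hp : orderOf (X.psi ⟨r, hr0⟩) = 7 ∨ orderOf (X.psi ⟨r, hr0⟩) = 11 := h7
    obtain ⟨p, hp', hpo⟩ : ∃ p, (p = 7 ∨ p = 11) ∧ orderOf (X.psi ⟨r, hr0⟩) = p := ⟨_, hp, rfl⟩
    have hpp : p.Prime := by rcases hp' with rfl | rfl <;> norm_num
    haveI : Fact p.Prime := ⟨hpp⟩
    obtain ⟨M, hM, hMc⟩ : ∃ M, M * p ^ 1 = Nat.card ↥(HH z) ∧ Nat.Coprime M p := by
      rcases hp' with rfl | rfl
      · exact ⟨2 ^ 21 * 3 ^ 3 * 5 * 11, by rw [hH]; norm_num, by norm_num⟩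
      · exact ⟨2 ^ 21 * 3 ^ 3 * 5 * 7, by rw [hH]; norm_num, by norm_num⟩
    obtain ⟨k, hk, hkψ, -⟩ := exists_part X hr0 hpp hM hMc hpo
    rw [pow_one] at hk
    have hxne : r ^ k ≠ 1 := fun e => by
      have e1 : X.psi ⟨r ^ k, pow_mem hr0 k⟩ = 1 := by
        rw [show (⟨r ^ k, pow_mem hr0 k⟩ : ↥(H0 z P)) = 1 from Subtype.ext e, map_one]
      rw [← hpo, ← hkψ, e1, orderOf_one] at hpp
      exact Nat.not_prime_one hpp
    have hb := fix_bound X hpp (by rcases hp' with rfl | rfl <;> norm_num) hu (pow_mem hrH k) hk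
      (by rw [← conj_pow, hur, inv_pow]) (fun A hA => hno (b := 1) hp' _ (pow_mem hrH k) hk hxne A hA.1)
    obtain ⟨d, hd, hdu, hduf⟩ := hstd hu hufix
    refine F.small _ hdu (by rw [show d⁻¹ * u * d * (d⁻¹ * u * d) = d⁻¹ * (u * u) * d by group, huu, mul_one,
        inv_mul_cancel]) (fun e => hu1 (by rw [mul_assoc, inv_mul_eq_one, eq_comm] at e; exact mul_eq_right.1 e))
      ?_ (isConj_z_conj huz)
    rw [hduf]
    have : 7 * fixc z u ≤ p * fixc z u := Nat.mul_le_mul_right _ (by rcases hp' with rfl | rfl <;> norm_num)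
    omega

end Cfsg.Agent.J4Order
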