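import Cfsg.Agent.Lib.J4Order.Hist
import Cfsg.Agent.Lib.J4Order.Unfixed

/-!
# Janko four type: the pairs with `z` in the group of the product, from the histogram

* `double_count`: `k * M_k = 77 * n_k`;
* `card_az`: their number.
-/

set_option autoImplicit false
set_option maxRecDepth 20000
set_option linter.style.haveILetI false
set_option linter.unusedSectionVars false

namespace Cfsg.Agent.J4Order.Dict

open Subgroup
open Cfsg Cfsg.Agent.Golay.Cert
open Cfsg.Agent.J4Local Cfsg.Agent.J4Eleven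
open Cfsg.Agent.J4V.Split (NV VN)
open Cfsg.Agent.J4Order.Model
open Cfsg.Agent.J4Order.Part
open Cfsg.Agent.J4V.Invol.Checks (root)

universe u

/-- The histogram. -/
def nk : ℕ → ℕ
  | 1 => 247726080
  | 2 => 144506880
  | 3 => 134922240
  | 5 => 69120000
  | 9 => 2488320
  | 13 => 6592560
  | 21 => 2229120
  | 77 => 1951488
  | _ => 0

variable {G : Type u} [Group G] [Finite G] {z : G} {P : Subgroup G} {X : Chart z P} (M : J4V.Invol.Model X)

/-- The pairs with `z` in the group of the product and `k` common fixed subgroups. -/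
def zPairs (z : G) (k : ℕ) : Set (G × G) :=
  {p | IsConj z p.1 ∧ (p.2 * p.2 = 1 ∧ p.2 ≠ 1 ∧ ¬ IsConj z p.2) ∧ z ∈ zpowers (p.1 * p.2) ∧
    (Fix z p.1 ∩ Fix z p.2).ncard = k}

variable [IsSimpleGroup G]

include X in
theorem pair_HH {u v : G} (hu : IsConj z u) (hv : v * v = 1) (h : z ∈ zpowers (u * v)) :
    u ∈ HH z ∧ v ∈ HH z ∧ u * u = 1 := by
  have hu2 : u * u = 1 := by
    obtain ⟨g, rfl⟩ := isConj_iff.1 hu
    rw [show g * z * g⁻¹ * (g * z * g⁻¹) = g * (z * z) * g⁻¹ by group, X.zz]; group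
  obtain ⟨cu, cv⟩ := centralize_of_mem_zpowers hu2 hv X.zz h
  exact ⟨mem_HH.2 cu, mem_HH.2 cv, hu2⟩

variable (hG : ¬ IsMulCommutative G) (hgood : ¬ IsConj z (M.elt (root 2)))

theorem zPairs_conj {d : G} (hd : d ∈ HH z) {k : ℕ} {p : G × G} (hp : p ∈ zPairs z k) :
    (d * p.1 * d⁻¹, d * p.2 * d⁻¹) ∈ zPairs z k := by
  obtain ⟨h1, ⟨h2, h3, h4⟩, h5, h6⟩ := hp
  have hz : d * z * d⁻¹ = z := by rw [mem_HH.1 hd, mul_inv_cancel_right]
  refine ⟨h1.trans (isConj_iff.2 ⟨d, rfl⟩), ⟨?_, fun e => h3 (conj_eq_one_iff.1 e),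
    fun h => h4 (h.trans (isConj_iff.2 ⟨d, rfl⟩).symm)⟩, ?_, ?_⟩
  · show d * p.2 * d⁻¹ * (d * p.2 * d⁻¹) = 1
    rw [show d * p.2 * d⁻¹ * (d * p.2 * d⁻¹) = d * (p.2 * p.2) * d⁻¹ by group, h2]; group
  · obtain ⟨i, hi⟩ := mem_zpowers_iff.1 h5
    show z ∈ zpowers (d * p.1 * d⁻¹ * (d * p.2 * d⁻¹))
    refine mem_zpowers_iff.2 ⟨i, ?_⟩
    rw [show d * p.1 * d⁻¹ * (d * p.2 * d⁻¹) = d * (p.1 * p.2) * d⁻¹ by group, conj_zpow, hi, hz]
  · show (Fix z (d * p.1 * d⁻¹) ∩ Fix z (d * p.2 * d⁻¹)).ncard = k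
    rw [fix2_conj hd, h6]

include hG hgood

theorem double_count {L : List El} (h : Spec L)
    (hcomplete : ∀ u ∈ HH z, u ∈ NV X.std → u * u = 1 → Over M L u) (k : ℕ) :
    k * (zPairs z k).ncard = 77 * histTotal k L := by
  classical
  haveI : Fintype G := Fintype.ofFinite G
  let T := {A : Subgroup G // Eleven z A}
  letI : Fintype T := Fintype.ofFinite T
  have hT : Fintype.card T = 77 := by
    rw [← Nat.card_eq_fintype_card, ← card_all X, ← Nat.card_coe_set_eq]; rfl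
  set S := (zPairs z k).toFinset
  let r : G × G → T → Prop := fun p A => A.1 ∈ Fix z p.1 ∩ Fix z p.2
  have h1 := Finset.sum_card_bipartiteAbove_eq_sum_card_bipartiteBelow (s := S) (t := (Finset.univ : Finset T)) r
  have hl : ∀ p ∈ S, (Finset.univ.bipartiteAbove r p).card = k := by
    intro p hp
    rw [Set.mem_toFinset] at hp
    obtain ⟨-, -, -, h6⟩ := hp
    rw [← h6, ← Set.ncard_coe_finset]
    refine Set.ncard_congr (fun A _ => A.1) (fun A hA => ?_) (fun a b _ _ e => Subtype.ext e) fun A hA => ?_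
    · simpa [r] using hA
    · exact ⟨⟨A, hA.1.1⟩, by simpa [r] using hA, rfl⟩
  have hr : ∀ A : T, (S.bipartiteBelow r A).card = histTotal k L := by
    intro A
    rw [← hist_card M hG hgood h k, ← Set.ncard_coe_finset]
    obtain ⟨d, hd, hAd⟩ := exists_std X A.2
    refine Set.ncard_congr (fun p _ => (d⁻¹ * p.1 * d, d⁻¹ * p.2 * d)) ?_ ?_ ?_
    · intro p hp
      simp only [Finset.coe_bipartiteBelow, S, Set.mem_toFinset, Set.mem_ofPred_eq] at hp
      obtain ⟨hp, hA1, hA2⟩ := hp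
      have hm := zPairs_conj (inv_mem hd.1) hp
      simp only [inv_inv] at hm
      obtain ⟨n1, n2, n3, n4⟩ := hm
      obtain ⟨uH, vH, u2⟩ := pair_HH (X := X) n1 n2.1 n3
      have hu : d⁻¹ * p.1 * d ∈ NV X.std := by
        have := hA1.2; rwa [hAd, mem_cjS_normalizer] at this
      have hv : d⁻¹ * p.2 * d ∈ NV X.std := by
        have := hA2.2; rwa [hAd, mem_cjS_normalizer] at this
      obtain ⟨s, hs, a, ha, e⟩ := hcomplete _ uH hu u2
      obtain ⟨s', hs', b, hb, e'⟩ := hcomplete _ vH hv n2.1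
      exact ⟨s, hs, s', hs', ⟨a, ha, e⟩, ⟨b, hb, e'⟩, n1, n2, n3, n4⟩
    · intro p q _ _ e
      simp only [Prod.mk.injEq] at e
      exact Prod.ext (mul_left_cancel (mul_right_cancel e.1)) (mul_left_cancel (mul_right_cancel e.2))
    · rintro q ⟨s, hs, s', hs', ⟨a, ha, e⟩, ⟨b, hb, e'⟩, n1, n2, n3, n4⟩
      refine ⟨(d * q.1 * d⁻¹, d * q.2 * d⁻¹), ?_, by simp [mul_assoc]⟩
      simp only [Finset.coe_bipartiteBelow, S, Set.mem_toFinset, Set.mem_ofPred_eq]
      refine ⟨zPairs_conj hd.1 ⟨n1, n2, n3, n4⟩, ⟨A.2, ?_⟩, A.2, ?_⟩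
      · rw [hAd, mem_cjS_normalizer, show d⁻¹ * (d * q.1 * d⁻¹) * d = q.1 by group, e]
        exact elM_mem M (h.ok s hs) a
      · rw [hAd, mem_cjS_normalizer, show d⁻¹ * (d * q.2 * d⁻¹) * d = q.2 by group, e']
        exact elM_mem M (h.ok s' hs') b
  rw [Finset.sum_congr rfl hl, Finset.sum_congr rfl fun A _ => hr A, Finset.sum_const, Finset.sum_const,
    smul_eq_mul, smul_eq_mul, Finset.card_univ, hT] at h1
  rw [Set.ncard_eq_toFinset_card', mul_comm]
  exact h1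

theorem card_az (F : StabFacts X) {L : List El} (h : Spec L)
    (hcomplete : ∀ u ∈ HH z, u ∈ NV X.std → u * u = 1 → Over M L u)
    (hval : ∀ k ≤ 77, histTotal k L = nk k) :
    Nat.card {p : G × G // IsConj z p.1 ∧ (p.2 * p.2 = 1 ∧ p.2 ≠ 1 ∧ ¬ IsConj z p.2) ∧ z ∈ zpowers (p.1 * p.2)} =
      29236337328 := by
  classical
  haveI : Fintype G := Fintype.ofFinite G
  set S : Finset (G × G) := Finset.univ.filter fun p =>
    IsConj z p.1 ∧ (p.2 * p.2 = 1 ∧ p.2 ≠ 1 ∧ ¬ IsConj z p.2) ∧ z ∈ zpowers (p.1 * p.2) with hS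
  rw [Nat.card_eq_fintype_card, Fintype.card_subtype, ← hS]
  have hmap : ∀ p ∈ S, (Fix z p.1 ∩ Fix z p.2).ncard ∈ Finset.range 78 := fun p _ => by
    rw [Finset.mem_range, Nat.lt_succ_iff, ← card_all X]
    exact Set.ncard_le_ncard (fun A hA => hA.1.1)
  rw [Finset.card_eq_sum_card_fiberwise hmap]
  have hfib : ∀ k, (S.filter fun p => (Fix z p.1 ∩ Fix z p.2).ncard = k).card = (zPairs z k).ncard := fun k => by
    rw [← Set.ncard_coe_finset]
    congr 1
    ext p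
    simp [hS, zPairs, and_assoc]
  have hk : ∀ k ∈ Finset.range 78, (S.filter fun p => (Fix z p.1 ∩ Fix z p.2).ncard = k).card = 77 * nk k / k := by
    intro k hk
    rw [hfib]
    rcases Nat.eq_zero_or_pos k with rfl | hpos
    · rw [Nat.div_zero, Set.ncard_eq_zero]
      refine Set.eq_empty_of_forall_notMem ?_
      rintro p ⟨h1, h2, h3, h4⟩
      obtain ⟨uH, vH, u2⟩ := pair_HH (X := X) h1 h2.1 h3
      obtain ⟨A, hA, hAu, hAv⟩ := no_unfixed X F uH u2 h1 vH h2.1 h3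
      rw [Set.ncard_eq_zero] at h4
      exact (Set.eq_empty_iff_forall_notMem.1 h4 A) ⟨⟨hA, hAu⟩, hA, hAv⟩
    · rw [← hval k (by simpa [Nat.lt_succ_iff] using hk), ← double_count M hG hgood h hcomplete k,
        Nat.mul_div_cancel_left _ hpos]
  rw [Finset.sum_congr rfl hk]
  decide +kernel

end Cfsg.Agent.J4Order.Dict
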