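import Cfsg.Agent.Lib.J4Order.ZTotal
import Cfsg.Agent.Lib.J4Order.Double

/-!
# Janko four type: the histogram of the pairs with `z` in the group of the product, on the model
-/

set_option autoImplicit false

namespace Cfsg.Agent.J4Order.CountZ

theorem nkv_eq : ∀ k < 78, ZData.nkv k = Dict.nk k := by decide +kernel

/-- The histogram. -/
theorem hist_total (hinv : ∀ k, SiSpec.Inv (Part.histCount k)) {k : ℕ} (hk : k ≤ 77) :
    Part.histTotal k SiSpec.Si = Dict.nk k := by
  rw [ZData.histTotal_eq hinv (Nat.lt_succ_of_le hk), nkv_eq k (Nat.lt_succ_of_le hk)]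

end Cfsg.Agent.J4Order.CountZ
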