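import Cfsg.Agent.Lib.M24CocodeSplit.Checks
import Cfsg.Agent.Lib.J4V.Invol.Checks

/-!
# Janko four type: the explicit model for the counts of pairs of involutions in `2 ^ 11 : M24`

An element of the complement is `(t, p)`: its table and the images of the basis of the cocode, packed
eleven bits each (`elOK`).  An element of the subgroup is a number below 2048.

* `zty s a`, `tty s a`: the pair `(a, s)`, with `s ^ 2 = 1`, is an involution of the class of `z`, of
  the other class;
* `tgt s s' a b`: with `r = s s'` of order `n`, the `n`-th power of the product of `(a, s)` and `(b, s')`;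
* `pairCount d s s'`, `total d L`: the numbers of pairs of involutions over `s`, `s'`, over the elements of
  a list, with `d` in the group generated by the product.
-/

set_option autoImplicit false

namespace Cfsg.Agent.J4Order.Model

open Cfsg Cfsg.Agent.Golay.Basic Cfsg.Agent.Golay.Design Cfsg.Agent.Golay.Perm Cfsg.Agent.Golay.M24
open Cfsg.Agent.Golay.Cert Cfsg.Agent.Golay.TabList
open Cfsg.Agent.M24CocodeSplit.Checks (imgChk)

/-- An element of the complement: a table with the packed images of the basis. -/
abbrev El := ℕ × ℕ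

/-- The images of the basis. -/
def im (s : El) : List ℕ :=
  [s.2 % 2048, (s.2 >>> 11) % 2048, (s.2 >>> 22) % 2048, (s.2 >>> 33) % 2048, (s.2 >>> 44) % 2048,
    (s.2 >>> 55) % 2048, (s.2 >>> 66) % 2048, (s.2 >>> 77) % 2048, (s.2 >>> 88) % 2048,
    (s.2 >>> 99) % 2048, (s.2 >>> 110) % 2048]

/-- The action on the subgroup of order `2 ^ 11`. -/
def ap (s : El) (x : ℕ) : ℕ := enc (im s) x

/-- The images belong to the table. -/
def elOK (s : El) : Bool := imgChk s.1 (im s)

/-- A table fixing eight points. -/
def fix8 (t : ℕ) : Bool := Nat.beq ((List.range 24).countP fun i => Nat.beq (tabAt t i) i) 8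

/-- The mask of the list of vectors. -/
def maskOf : List ℕ → ℕ
  | [] => 0
  | x :: xs => (1 <<< x) ||| maskOf xs

theorem testBit_maskOf : ∀ (L : List ℕ) (i : ℕ), (maskOf L).testBit i = L.contains i
  | [], i => by simp [maskOf]
  | x :: xs, i => by
    rw [maskOf, Nat.testBit_or, testBit_maskOf xs, Nat.one_shiftLeft, Nat.testBit_two_pow,
      List.contains_cons]
    congr 1
    by_cases h : x = i <;> simp [h, Ne.symm]

/-- The vectors. -/
def vecs : List ℕ := List.range 2048

/-- The mask of the image of `1 + s`. -/
def imMask (s : El) : ℕ := maskOf (vecs.map fun x => x ^^^ ap s x)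

/-- The mask of the pairs. -/
def dmask : ℕ := maskOf J4V.Invol.Checks.duads

/-- The pair `(a, s)` is an involution of the class of `z`. -/
def zty (s : El) (a : ℕ) : Bool :=
  cond (Nat.beq s.1 idTab) (!Nat.beq a 0 && !dmask.testBit a)
    (Nat.beq (ap s a) a && (imMask s).testBit a == fix8 s.1)

/-- The pair `(a, s)` is an involution not of the class of `z`. -/
def tty (s : El) (a : ℕ) : Bool :=
  cond (Nat.beq s.1 idTab) (dmask.testBit a)
    (Nat.beq (ap s a) a && (imMask s).testBit a != fix8 s.1)

/-- The vectors giving involutions of the class of `z`. -/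
def zList (s : El) : List ℕ := vecs.filter (zty s)

/-- The vectors giving the other involutions. -/
def tList (s : El) : List ℕ := vecs.filter (tty s)

/-- The order of a table, by iteration from `p = r ^ k`. -/
def ordAux (r : ℕ) : ℕ → ℕ → ℕ → ℕ
  | 0, _, k => k
  | fuel + 1, p, k => cond (Nat.beq p idTab) k (ordAux r fuel (mulTab r p) (k + 1))

/-- The order of a table. -/
def tOrd (r : ℕ) : ℕ := ordAux r 23 r 1

/-- The order of the product. -/
def nOf (s s' : El) : ℕ := tOrd (mulTab s.1 s'.1)

/-- `c + r c + ... + r ^ (k - 1) c` for `r = s s'`. -/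
def nrm (s s' : El) : ℕ → ℕ → ℕ
  | 0, _ => 0
  | k + 1, c => c ^^^ ap s (ap s' (nrm s s' k c))

/-- The vector of the power of the product of `(a, s)` and `(b, s')` lying in the subgroup. -/
def tgt (s s' : El) (a b : ℕ) : ℕ := nrm s s' (nOf s s') (a ^^^ ap s b)

/-- The pairs over `s`, `s'` with `d` in the group generated by the product. -/
def pairCount (d : ℕ) (s s' : El) : ℕ :=
  ((zList s).map fun a => (tList s').countP fun b => Nat.beq (tgt s s' a b) d).sum

/-- The pairs over the elements of a list. -/
def total (d : ℕ) (L : List El) : ℕ := (L.map fun s => (L.map (pairCount d s)).sum).sum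

/-- The sextet. -/
def zv : ℕ := J4V.Invol.Data.sigma

/-- The duad. -/
def tv : ℕ := J4V.Invol.Checks.vx 23 0

/-- The table fixes the two extra points as a set. -/
def fixDuad (t : ℕ) : Bool :=
  (Nat.beq (tabAt t 23) 23 && Nat.beq (tabAt t 0) 0) || (Nat.beq (tabAt t 23) 0 && Nat.beq (tabAt t 0) 23)

theorem ap_xor (s : El) (a b : ℕ) : ap s (a ^^^ b) = ap s a ^^^ ap s b := enc_xor _ a b

theorem nrm_xor (s s' : El) : ∀ (k a b : ℕ), nrm s s' k (a ^^^ b) = nrm s s' k a ^^^ nrm s s' k b
  | 0, a, b => by simp [nrm]
  | k + 1, a, b => by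
    simp only [nrm, nrm_xor s s' k, ap_xor]
    simp only [Nat.xor_assoc, Nat.xor_left_comm]

theorem mem_zList {s : El} {a : ℕ} : a ∈ zList s ↔ a < 2048 ∧ zty s a = true := by
  simp [zList, vecs]

theorem mem_tList {s : El} {a : ℕ} : a ∈ tList s ↔ a < 2048 ∧ tty s a = true := by
  simp [tList, vecs]

end Cfsg.Agent.J4Order.Model
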