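import Cfsg.Agent.Lib.J4Order.Types
import Cfsg.Agent.Lib.J4Order.Model

/-!
# Janko four type: the dictionary between the explicit model and the normaliser

An element `(a, s)` of the model is `elM M a s`, with the complement's element of the table of `s`.

* `zty_iff`, `tty_iff`: the classes;
* `mem_zpowers_iff_tgt`: the test for `d` in the group generated by a product.
-/

set_option autoImplicit false
set_option maxRecDepth 20000
set_option linter.style.haveILetI false
set_option linter.unusedSectionVars false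

namespace Cfsg.Agent.J4Order.Dict

open Subgroup
open Cfsg Cfsg.Agent.Golay.Basic Cfsg.Agent.Golay.Cert Cfsg.Agent.Golay.TabList
open Cfsg.Agent.Golay.M24 Cfsg.Agent.Golay.Design
open Cfsg.Agent.J4Local Cfsg.Agent.J4Eleven
open Cfsg.Agent.J4V.Split (NV VN)
open Cfsg.Agent.J4Order.Model
open Cfsg.Agent.J4V.Invol (enc_lt)
open Cfsg.Agent.J4V.Invol.Checks (duads vx)
open Cfsg.Agent.M24CocodeSplit.Checks (imgChk)
open scoped Pointwise

universe u

/-- The permutation of an element of the model. -/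
noncomputable def perm (s : El) : Equiv.Perm GolayPt := tabPerm s.1

theorem tabOK_of {s : El} (h : elOK s = true) : tabOK s.1 = true ∧ canon s.1 = true := by
  simp only [elOK, imgChk, Bool.and_eq_true] at h
  exact h.1.1

theorem im_lt (s : El) : ∀ y ∈ im s, y < 2048 := by
  intro y hy
  simp only [im, List.mem_cons, List.not_mem_nil, or_false] at hy
  rcases hy with rfl | rfl | rfl | rfl | rfl | rfl | rfl | rfl | rfl | rfl | rfl <;>
    exact Nat.mod_lt _ (by norm_num)

theorem ap_lt (s : El) (x : ℕ) : ap s x < 2048 := enc_lt _ (im_lt s) x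

theorem nrm_lt (s s' : El) : ∀ {k c : ℕ}, c < 2048 → nrm s s' k c < 2048
  | 0, _, _ => by simp [nrm]
  | k + 1, c, hc => Nat.xor_lt_two_pow (n := 11) hc (ap_lt _ _)

section

attribute [local irreducible] mulTab canon idTab tabPerm

theorem ordAux_spec {r : ℕ} {g : Equiv.Perm GolayPt} (hr : IsTab r g) : ∀ (fuel p k : ℕ),
    canon p = true → IsTab p (g ^ k) →
    k ≤ ordAux r fuel p k ∧ ∀ j, k ≤ j → j < ordAux r fuel p k → g ^ j ≠ 1
  | 0, p, k, _, _ => ⟨le_rfl, fun j h1 h2 => by simp only [ordAux] at h2; omega⟩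
  | fuel + 1, p, k, hc, hp => by
    cases hb : Nat.beq p idTab
    · simp only [ordAux, hb, cond_false]
      obtain ⟨h1, h2⟩ := ordAux_spec hr fuel (mulTab r p) (k + 1) (canon_mulTab _ _)
        (by rw [pow_succ']; exact isTab_mul hr hp)
      refine ⟨by omega, fun j hj hj' e => ?_⟩
      rcases Nat.lt_or_ge k j with h | h
      · exact h2 j h hj' e
      · obtain rfl : j = k := by omega
        rw [eq_of_isTab hc canon_idTab hp (e ▸ isTab_one)] at hb
        simp at hb
    · simp only [ordAux, hb, cond_true]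
      exact ⟨le_rfl, fun j h1 h2 => by omega⟩

/-- The order of the product, once the product to that power is one. -/
theorem nOf_spec {s s' : El} (hs : elOK s = true) (hs' : elOK s' = true) :
    1 ≤ nOf s s' ∧ ∀ j, 1 ≤ j → j < nOf s s' → (perm s * perm s') ^ j ≠ 1 :=
  by
  rw [nOf, tOrd]
  exact ordAux_spec (isTab_mul (isTab_tabPerm (tabOK_of hs).1) (isTab_tabPerm (tabOK_of hs').1)) 23 _ 1
    (canon_mulTab _ _) (by rw [pow_one]; exact isTab_mul (isTab_tabPerm (tabOK_of hs).1) (isTab_tabPerm (tabOK_of hs').1))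

end

/-- Every element of M24 has a good table. -/
theorem exists_tab {g : Equiv.Perm GolayPt} (hg : g ∈ Cfsg.M24) :
    ∃ t, (tabOK t = true ∧ canon t = true) ∧ IsTab t g := by
  have ht : IsTab (pack 24 fun i => ix (g (pt i))) g := by
    intro p
    rw [tabAt_pack 24 _ _ (ix_lt p), pt_ix, Nat.mod_eq_of_lt ((ix_lt _).trans (by norm_num))]
  refine ⟨_, ⟨?_, ?_⟩, ht⟩
  · simp only [tabOK, Bool.and_eq_true, List.all_eq_true, List.mem_range, decide_eq_true_eq, beq_iff_eq]
    refine ⟨⟨fun i hi => ?_, ?_⟩, fun b hb => ?_⟩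
    · rw [tabAt_pack 24 _ i hi, Nat.mod_eq_of_lt ((ix_lt _).trans (by norm_num))]; exact ix_lt _
    · have e : mask (Finset.univ : Finset GolayPt) = 16777215 := by decide +kernel
      rw [← e, imgTab_mask ht, Finset.smul_finset_univ]
    · have hb' : b < 2 ^ 24 := by revert b; decide +kernel
      have h0 : g • maskSet b ∈ codeSets := by
        have hc : maskSet b ∈ codeSets := by
          rw [mem_supports_iff, mask_maskSet hb']
          revert b; decide +kernel
        rw [← (show g • codeSets = codeSets from hg)]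
        exact Set.smul_mem_smul_set hc
      rw [← mask_maskSet hb', imgTab_mask ht]
      exact mem_supports_iff.1 h0
  · rw [canon]
    have : ∀ f f' : ℕ → ℕ, ∀ n, (∀ i < n, f i = f' i) → pack n f = pack n f' := by
      intro f f' n
      induction n generalizing f f' with
      | zero => intro _; rfl
      | succ n ih =>
        intro h
        simp only [pack]
        rw [h 0 (Nat.succ_pos n), ih (fun i => f (i + 1)) (fun i => f' (i + 1)) fun i hi => h (i + 1) (by omega)]
    rw [beq_iff_eq]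
    refine this _ _ 24 fun i hi => ?_
    rw [tabAt_pack 24 _ i hi, Nat.mod_eq_of_lt ((ix_lt _).trans (by norm_num))]

variable {G : Type u} [Group G] [Finite G] {z : G} {P : Subgroup G} {X : Chart z P} (M : J4V.Invol.Model X)

open _root_.Classical in
/-- The element of the complement with the table. -/
noncomputable def kE (s : El) : G := if h : tabOK s.1 = true then (M.exists_K h).choose else 1

/-- The element of the model in the normaliser. -/
noncomputable def elM (a : ℕ) (s : El) : G := M.iv a * kE M s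

theorem kE_mem {s : El} (hs : elOK s = true) : kE M s ∈ M.K ∧ M.Tab s.1 (kE M s) := by
  rw [kE, dif_pos (tabOK_of hs).1]
  exact (M.exists_K (tabOK_of hs).1).choose_spec

theorem kE_eq {s : El} (hs : elOK s = true) {k : G} (hk : k ∈ M.K) (ht : M.Tab s.1 k) : kE M s = k :=
  M.K_eq (kE_mem M hs).1 hk (kE_mem M hs).2 ht

theorem pr_kE {s : El} (hs : elOK s = true) :
    ((M.pr ⟨kE M s, M.hK (kE_mem M hs).1⟩ : ↥Cfsg.M24) : Equiv.Perm GolayPt) = perm s := by
  obtain ⟨h, ht⟩ := (kE_mem M hs).2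
  exact ht.unique (isTab_tabPerm (tabOK_of hs).1)

theorem conj_kE {s : El} (hs : elOK s = true) (x : ℕ) : kE M s * M.iv x * (kE M s)⁻¹ = M.iv (ap s x) :=
  M.conj_iv hs (kE_mem M hs).2 x

theorem elM_mem {s : El} (hs : elOK s = true) (a : ℕ) : elM M a s ∈ NV X.std :=
  mul_mem (M.iv_mem_NV a) (M.hK (kE_mem M hs).1)

theorem pr_elM {s : El} (hs : elOK s = true) (a : ℕ) :
    ((M.pr ⟨elM M a s, elM_mem M hs a⟩ : ↥Cfsg.M24) : Equiv.Perm GolayPt) = perm s := by
  rw [show (⟨elM M a s, elM_mem M hs a⟩ : ↥(NV X.std)) =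
      ⟨M.iv a, M.iv_mem_NV a⟩ * ⟨kE M s, M.hK (kE_mem M hs).1⟩ from rfl, map_mul,
    show M.pr ⟨M.iv a, M.iv_mem_NV a⟩ = 1 from
      (Cfsg.Agent.M24CocodeSplit.Split.proj_eq_one (VN X.std) M.φ).2 (M.iv_mem a), one_mul, pr_kE M hs]

theorem kE_eq_one {s : El} (hs : elOK s = true) : kE M s = 1 ↔ perm s = 1 := by
  constructor
  · intro e
    have h := pr_kE M hs
    simp only [e] at h
    rw [show (⟨1, _⟩ : ↥(NV X.std)) = 1 from rfl, map_one] at h
    exact h.symm
  · intro e
    refine kE_eq M hs (one_mem _) ⟨one_mem _, ?_⟩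
    rw [show (⟨1, _⟩ : ↥(NV X.std)) = 1 from rfl, map_one]
    have := isTab_tabPerm (tabOK_of hs).1
    rw [show tabPerm s.1 = 1 from e] at this
    exact this

theorem kE_sq {s : El} (hs : elOK s = true) (h2 : perm s * perm s = 1) : kE M s * kE M s = 1 := by
  obtain ⟨hk, ht⟩ := kE_mem M hs
  refine M.K_eq (mul_mem hk hk) (one_mem _) (ht.mul ht) ⟨one_mem _, ?_⟩
  rw [show (⟨1, _⟩ : ↥(NV X.std)) = 1 from rfl, map_one]
  have h := isTab_mul (isTab_tabPerm (tabOK_of hs).1) (isTab_tabPerm (tabOK_of hs).1)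
  rw [show tabPerm s.1 * tabPerm s.1 = 1 from h2] at h
  exact h

theorem elM_sq {s : El} (hs : elOK s = true) (h2 : perm s * perm s = 1) {a : ℕ} (ha : a < 2048) :
    elM M a s * elM M a s = 1 ↔ ap s a = a := by
  have e : elM M a s * elM M a s = M.iv (a ^^^ ap s a) := by
    rw [M.iv_xor, ← conj_kE M hs, elM]
    calc M.iv a * kE M s * (M.iv a * kE M s)
        = M.iv a * (kE M s * M.iv a * (kE M s)⁻¹) * (kE M s * kE M s) := by group
      _ = _ := by rw [kE_sq M hs h2, mul_one]
  rw [e]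
  constructor
  · intro h
    exact (Nat.xor_eq_zero_iff.1 (M.iv_inj (Nat.xor_lt_two_pow (n := 11) ha (ap_lt _ _)) (by norm_num)
      (h.trans M.iv_zero.symm))).symm
  · intro h; rw [h, Nat.xor_self, M.iv_zero]

theorem elM_inj {s s' : El} (hs : elOK s = true) (hs' : elOK s' = true) {a a' : ℕ} (ha : a < 2048)
    (ha' : a' < 2048) (e : elM M a s = elM M a' s') : a = a' ∧ s.1 = s'.1 := by
  obtain ⟨e1, e2⟩ := M.decomp_unique ha ha' (kE_mem M hs).1 (kE_mem M hs').1 e
  refine ⟨e1, eq_of_isTab (tabOK_of hs).2 (tabOK_of hs').2 (isTab_tabPerm (tabOK_of hs).1) ?_⟩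
  have h : perm s = perm s' := by rw [← pr_kE M hs, ← pr_kE M hs']; simp only [e2]
  rw [show tabPerm s.1 = tabPerm s'.1 from h]
  exact isTab_tabPerm (tabOK_of hs').1

theorem into_K_iff {s : El} (hs : elOK s = true) {a : ℕ} (ha : a < 2048) :
    (∃ v ∈ X.std, v * elM M a s * v⁻¹ ∈ M.K) ↔ (imMask s).testBit a = true := by
  have key : ∀ b, M.iv b * elM M a s * (M.iv b)⁻¹ = M.iv (b ^^^ a ^^^ ap s b) * kE M s := fun b => by
    rw [M.iv_xor, M.iv_xor, ← conj_kE M hs, M.iv_inv, elM]; group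
  simp only [imMask, testBit_maskOf, List.contains_iff_mem, List.mem_map, vecs, List.mem_range]
  constructor
  · rintro ⟨v, hv, hvK⟩
    obtain ⟨b, hb, rfl⟩ := M.exists_iv hv
    refine ⟨b, hb, ?_⟩
    rw [key] at hvK
    have h := (M.decomp_unique (Nat.xor_lt_two_pow (n := 11) (Nat.xor_lt_two_pow (n := 11) hb ha) (ap_lt _ _))
      (show (0 : ℕ) < 2048 by norm_num) (kE_mem M hs).1 hvK (by rw [M.iv_zero, one_mul])).1
    rwa [Nat.xor_right_comm, Nat.xor_eq_zero_iff] at h
  · rintro ⟨b, -, hb⟩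
    refine ⟨M.iv b, M.iv_mem b, ?_⟩
    rw [key, Nat.xor_right_comm, hb, Nat.xor_self, M.iv_zero, one_mul]
    exact (kE_mem M hs).1

theorem fix8_iff {s : El} (hs : elOK s = true) (h2 : perm s * perm s = 1) (h1 : perm s ≠ 1) :
    fix8 s.1 = true ↔ ∃ p, perm s p = p := by
  classical
  have hmem : perm s ∈ Cfsg.M24 := tabPerm_mem (tabOK_of hs).1
  have hord : orderOf (⟨perm s, hmem⟩ : ↥Cfsg.M24) = 2 := orderOf_eq_prime
    (by rw [pow_two]; exact Subtype.ext h2) (fun e => h1 (congrArg Subtype.val e))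
  have hcnt : (List.range 24).countP (fun i => Nat.beq (tabAt s.1 i) i) =
      (Finset.univ.filter fun p => perm s p = p).card := by
    have e : (Finset.univ.filter fun p => perm s p = p).map ⟨ix, ix_injective⟩ =
        ((List.range 24).filter fun i => Nat.beq (tabAt s.1 i) i).toFinset := by
      ext i
      simp only [Finset.mem_map, Finset.mem_filter, Finset.mem_univ, true_and, Function.Embedding.coeFn_mk,
        List.mem_toFinset, List.mem_filter, List.mem_range]
      constructor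
      · rintro ⟨p, hp, rfl⟩
        refine ⟨ix_lt p, ?_⟩
        rw [← isTab_tabPerm (tabOK_of hs).1 p, show tabPerm s.1 p = p from hp]
        exact Nat.beq_refl _
      · rintro ⟨hi, h⟩
        refine ⟨pt i, ix_injective ?_, ix_pt hi⟩
        show ix (tabPerm s.1 (pt i)) = _
        rw [isTab_tabPerm (tabOK_of hs).1, ix_pt hi, Nat.eq_of_beq_eq_true h]
    rw [← Finset.card_map ⟨ix, ix_injective⟩, e, List.toFinset_card_of_nodup (List.Nodup.filter _ List.nodup_range),
      List.countP_eq_length_filter]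
  rw [fix8, hcnt]
  rcases Cfsg.Agent.Golay.M24Involution.involution_cases hord with ⟨o, ho, hoq⟩ | ⟨c, hc⟩
  · have e : (Finset.univ.filter fun p => perm s p = p) = o := by
      ext p; simp [hoq p]
    rw [e, octad_card ho]
    obtain ⟨p, hp⟩ := Finset.card_pos.1 (show 0 < o.card by rw [octad_card ho]; norm_num)
    exact iff_of_true (Nat.beq_refl _) ⟨p, (hoq p).2 hp⟩
  · have hno : ∀ p, perm s p ≠ p := by
      intro p hp
      rw [show perm s = (c : Equiv.Perm GolayPt) * Cfsg.Agent.Golay.M24Involution.freeInv * (c : Equiv.Perm GolayPt)⁻¹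
        from congrArg Subtype.val hc, Equiv.Perm.mul_apply, Equiv.Perm.mul_apply, ← Equiv.Perm.eq_inv_iff_eq] at hp
      exact Cfsg.Agent.Golay.M24Involution.freeInv_ne _ hp
    rw [Finset.filter_false_of_mem fun p _ => hno p, Finset.card_empty]
    exact iff_of_false (by simp) (fun ⟨p, hp⟩ => hno p hp)

variable [IsSimpleGroup G] (hG : ¬ IsMulCommutative G) (hgood : ¬ IsConj z (M.elt (J4V.Invol.Checks.root 2)))

include hG hgood

theorem iv_class {a : ℕ} (ha : a < 2048) :
    (IsConj z (M.iv a) ↔ (!Nat.beq a 0 && !dmask.testBit a) = true) ∧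
      ((M.iv a ≠ 1 ∧ ¬ IsConj z (M.iv a)) ↔ dmask.testBit a = true) := by
  have hd : dmask.testBit a = true ↔ M.iv a ∈ {v | v ∈ X.std ∧ v ≠ 1 ∧ ¬ IsConj z v} := by
    rw [M.others_eq hG, dmask, testBit_maskOf, List.contains_iff_mem]
    refine ⟨fun h => ⟨a, h, rfl⟩, fun ⟨x, hx, e⟩ => ?_⟩
    exact M.iv_inj (J4V.Invol.duads_facts.2.2.2.2.2.2 x hx) ha e ▸ hx
  have h2 : (M.iv a ≠ 1 ∧ ¬ IsConj z (M.iv a)) ↔ dmask.testBit a = true := by
    rw [hd]; exact ⟨fun h => ⟨M.iv_mem a, h⟩, fun h => h.2⟩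
  refine ⟨?_, h2⟩
  simp only [Bool.and_eq_true, Bool.not_eq_true']
  constructor
  · intro hz
    refine ⟨?_, Bool.eq_false_iff.2 fun h => (h2.2 h).2 hz⟩
    cases hb : Nat.beq a 0
    · rfl
    · obtain rfl := Nat.eq_of_beq_eq_true hb
      rw [M.iv_zero] at hz
      exact absurd (isConj_one_left.1 hz) X.L.J.ctr.ne_one
  · rintro ⟨h0, hd0⟩
    by_contra hz
    have hne : M.iv a ≠ 1 := fun e => by
      obtain rfl := M.iv_inj ha (show (0 : ℕ) < 2048 by norm_num) (e.trans M.iv_zero.symm)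
      simp at h0
    rw [h2.1 ⟨hne, hz⟩] at hd0
    exact Bool.noConfusion hd0

theorem zty_iff {s : El} (hs : elOK s = true) (h2 : perm s * perm s = 1) {a : ℕ} (ha : a < 2048) :
    zty s a = true ↔ IsConj z (elM M a s) := by
  have hid : s.1 = idTab ↔ perm s = 1 := by
    refine ⟨fun e => by rw [perm, e]; exact tabPerm_idTab, fun e => ?_⟩
    exact eq_of_isTab (tabOK_of hs).2 canon_idTab (isTab_tabPerm (tabOK_of hs).1)
      (by rw [show tabPerm s.1 = 1 from e]; exact isTab_one)
  cases hb : Nat.beq s.1 idTab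
  · have h1 : perm s ≠ 1 := fun e => by rw [hid.2 e] at hb; simp at hb
    have hnV : elM M a s ∉ X.std := fun h => h1 ((kE_eq_one M hs).1 (M.inj _ (kE_mem M hs).1 (by
      simpa [elM] using mul_mem (inv_mem (M.iv_mem a)) h)))
    have hrule : ∀ hn : elM M a s * elM M a s = 1, IsConj z (elM M a s) ↔
        ((imMask s).testBit a = true ↔ fix8 s.1 = true) := fun hn => by
      rw [M.rule hG hgood (elM_mem M hs a) hnV hn, J4V.Invol.Model.Rule, into_K_iff M hs ha,
        pr_elM M hs a, fix8_iff hs h2 h1]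
    simp only [zty, hb, cond_false, Bool.and_eq_true, beq_iff_eq]
    constructor
    · rintro ⟨hfix, hr⟩
      exact (hrule ((elM_sq M hs h2 ha).2 (Nat.eq_of_beq_eq_true hfix))).2 (by rw [hr])
    · intro hz
      have hsq : elM M a s * elM M a s = 1 := by
        obtain ⟨g, hg⟩ := isConj_iff.1 hz
        rw [← hg, show g * z * g⁻¹ * (g * z * g⁻¹) = g * (z * z) * g⁻¹ by group, X.zz]
        group
      refine ⟨?_, ?_⟩
      · rw [(elM_sq M hs h2 ha).1 hsq]; exact Nat.beq_refl _
      · exact Bool.eq_iff_iff.2 ((hrule hsq).1 hz)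
  · have e := hid.1 (Nat.eq_of_beq_eq_true hb)
    simp only [zty, hb, cond_true]
    rw [elM, (kE_eq_one M hs).2 e, mul_one]
    exact ((iv_class M hG hgood ha).1).symm

theorem tty_iff {s : El} (hs : elOK s = true) (h2 : perm s * perm s = 1) {a : ℕ} (ha : a < 2048) :
    tty s a = true ↔ elM M a s * elM M a s = 1 ∧ elM M a s ≠ 1 ∧ ¬ IsConj z (elM M a s) := by
  cases hb : Nat.beq s.1 idTab
  · have h1 : kE M s ≠ 1 := fun e => by
      have h := eq_of_isTab (tabOK_of hs).2 canon_idTab (isTab_tabPerm (tabOK_of hs).1)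
        (by rw [show tabPerm s.1 = 1 from (kE_eq_one M hs).1 e]; exact isTab_one)
      rw [h] at hb; simp at hb
    have hne : elM M a s ≠ 1 := fun e => h1 (M.inj _ (kE_mem M hs).1 (by
      rw [show kE M s = (M.iv a)⁻¹ from eq_inv_of_mul_eq_one_right e]; exact inv_mem (M.iv_mem a)))
    rw [elM_sq M hs h2 ha, and_iff_right hne, ← zty_iff M hG hgood hs h2 ha]
    simp only [tty, zty, hb, cond_false, Bool.and_eq_true, bne_iff_ne, beq_iff_eq, ne_eq]
    constructor
    · rintro ⟨hf, hr⟩; exact ⟨Nat.eq_of_beq_eq_true hf, fun h => hr h.2⟩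
    · rintro ⟨hf, hr⟩
      have hf' : Nat.beq (ap s a) a = true := by rw [hf]; exact Nat.beq_refl _
      exact ⟨hf', fun h => hr ⟨hf', h⟩⟩
  · have e : perm s = 1 := by rw [perm, Nat.eq_of_beq_eq_true hb]; exact tabPerm_idTab
    simp only [tty, hb, cond_true]
    rw [elM, (kE_eq_one M hs).2 e, mul_one, ← (iv_class M hG hgood ha).2]
    exact ⟨fun h => ⟨M.iv_sq a, h⟩, fun h => h.2⟩

omit hgood

theorem mem_zpowers_iff_tgt {s s' : El} (hs : elOK s = true) (hs' : elOK s' = true)
    (hord : (perm s * perm s') ^ nOf s s' = 1) {a b d : ℕ} (ha : a < 2048) (hd : d < 2048) (hd0 : d ≠ 0) :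
    M.iv d ∈ zpowers (elM M a s * elM M b s') ↔ tgt s s' a b = d := by
  set n := nOf s s'
  set c := a ^^^ ap s b with hc
  set r := kE M s * kE M s' with hr
  have hy : elM M a s * elM M b s' = M.iv c * r := by
    rw [hc, M.iv_xor, ← conj_kE M hs, hr, elM, elM]; group
  have hrK : r ∈ M.K := mul_mem (kE_mem M hs).1 (kE_mem M hs').1
  have hpr : ((M.pr ⟨r, M.hK hrK⟩ : ↥Cfsg.M24) : Equiv.Perm GolayPt) = perm s * perm s' := by
    rw [show (⟨r, M.hK hrK⟩ : ↥(NV X.std)) =
      ⟨kE M s, M.hK (kE_mem M hs).1⟩ * ⟨kE M s', M.hK (kE_mem M hs').1⟩ from rfl, map_mul, Subgroup.coe_mul,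
      pr_kE M hs, pr_kE M hs']
  have hone : ∀ i, r ^ i = 1 ↔ (perm s * perm s') ^ i = 1 := by
    intro i
    have e : M.pr ⟨r ^ i, M.hK (pow_mem hrK i)⟩ = M.pr ⟨r, M.hK hrK⟩ ^ i := by rw [← map_pow]; rfl
    rw [← hpr, ← SubmonoidClass.coe_pow, ← e]
    constructor
    · intro h
      simp only [h]
      rw [show (⟨1, _⟩ : ↥(NV X.std)) = 1 from rfl, map_one, Subgroup.coe_one]
    · intro h
      exact M.inj _ (pow_mem hrK i)
        ((Cfsg.Agent.M24CocodeSplit.Split.proj_eq_one (VN X.std) M.φ).1 (Subtype.ext h))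
  have hconj : ∀ x, r * M.iv x * r⁻¹ = M.iv (ap s (ap s' x)) := fun x => by
    rw [← conj_kE M hs, ← conj_kE M hs', hr]; group
  have hpow : ∀ k, (M.iv c * r) ^ k = M.iv (nrm s s' k c) * r ^ k := by
    intro k
    induction k with
    | zero => rw [pow_zero, pow_zero, nrm, M.iv_zero, mul_one]
    | succ k ih =>
      rw [pow_succ', ih, nrm, M.iv_xor c, ← hconj, pow_succ']; group
  have hn : (M.iv c * r) ^ n = M.iv (tgt s s' a b) := by
    rw [hpow, (hone n).2 hord, mul_one, tgt, ← hc]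
  have hlt : tgt s s' a b < 2048 := nrm_lt _ _ (Nat.xor_lt_two_pow (n := 11) ha (ap_lt _ _))
  rw [hy]
  constructor
  · intro h
    obtain ⟨i, hi⟩ := (mem_powers_iff_mem_zpowers (x := M.iv c * r) (y := M.iv d)).2 h
    have hi' : (M.iv c * r) ^ i = M.iv d := hi
    rw [hpow] at hi'
    have hri : r ^ i = 1 := M.inj _ (pow_mem hrK i) (by
      rw [eq_inv_mul_of_mul_eq hi']; exact mul_mem (inv_mem (M.iv_mem _)) (M.iv_mem _))
    obtain ⟨hn1, hmin⟩ := nOf_spec hs hs'
    have hdvd : n ∣ i := by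
      rw [Nat.dvd_iff_mod_eq_zero]
      by_contra hne
      refine hmin (i % n) (Nat.one_le_iff_ne_zero.2 hne) (Nat.mod_lt _ hn1) ?_
      have h1 := (hone i).1 hri
      rwa [← Nat.mod_add_div i n, pow_add, pow_mul, hord, one_pow, mul_one] at h1
    obtain ⟨j, rfl⟩ := hdvd
    have h2 : M.iv (tgt s s' a b) ^ j = M.iv d := by rw [← hn, ← pow_mul]; exact hi
    rcases Nat.even_or_odd' j with ⟨k, rfl | rfl⟩
    · rw [pow_mul, pow_two, M.iv_sq, one_pow] at h2
      exact absurd (M.iv_inj hd (by norm_num) (h2.symm.trans M.iv_zero.symm)) hd0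
    · rw [pow_succ, pow_mul, pow_two, M.iv_sq, one_pow, one_mul] at h2
      exact M.iv_inj hlt hd h2
  · intro e
    exact mem_zpowers_iff.2 ⟨(n : ℤ), by rw [zpow_natCast, hn, e]⟩

end Cfsg.Agent.J4Order.Dict
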