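import Cfsg.Agent.Lib.J4Order.Act

/-!
# Janko four type: certificates for the counts of pairs of involutions

An orbit certificate for a list of elements `e 0, .., e (N - 1)` and generators lists, block by block, a root
and the edges `c + 4096 p + 16777216 k`: the element `c` is the conjugate of the element `p`, seen before, by
the generator `k`.

* `orbit_sum`: the sum of a function invariant under these conjugations;
* `pairCount_conj`, `row_conj`: the counts are invariant;
* `pairCount_eq_fast`: their fast evaluation;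
-/

set_option autoImplicit false
set_option maxRecDepth 20000

namespace Cfsg.Agent.J4Order.Model

open Cfsg Cfsg.Agent.Golay.Basic Cfsg.Agent.Golay.Design Cfsg.Agent.Golay.Perm Cfsg.Agent.Golay.M24
open Cfsg.Agent.Golay.Cert Cfsg.Agent.Golay.TabList

local notation "pG" => Equiv.Perm GolayPt

/-- A generator with its inverse, fixing `d`. -/
def genOK (d : ℕ) (g : El × El) : Bool :=
  elOK g.1 && elOK g.2 && Nat.beq (mulTab g.2.1 g.1.1) idTab && Nat.beq (ap g.1 d) d &&
    J4V.Invol.Checks.duads.all fun x => dmask.testBit (ap g.1 x) && dmask.testBit (ap g.2 x)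

/-- The edges of a block, from the mask of the elements seen and of those in the block. -/
def edgesOK (e : ℕ → El) (gs : List (El × El)) : List ℕ → ℕ → ℕ → Option ℕ
  | [], seen, _ => some seen
  | x :: xs, seen, here =>
    match x % 4096, x / 4096 % 4096, x / 16777216 with
    | c, p, k =>
      cond (here.testBit p && !seen.testBit c && Nat.blt k gs.length &&
          tabConj (gs.getD k ((0, 0), (0, 0))).1.1 (e p).1 (e c).1)
        (edgesOK e gs xs (seen ||| 1 <<< c) (here ||| 1 <<< c))
        none

/-- A certificate of the orbits. -/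
def blocksOK (e : ℕ → El) (gs : List (El × El)) : List (ℕ × List ℕ) → ℕ → Option ℕ
  | [], seen => some seen
  | (r, es) :: bs, seen =>
    cond (seen.testBit r) none
      (match edgesOK e gs es (seen ||| 1 <<< r) (1 <<< r) with
      | none => none
      | some seen' => blocksOK e gs bs seen')

/-- The count over a block decomposition. -/
def blocksVal (F : ℕ → ℕ) (bs : List (ℕ × List ℕ)) : ℕ := (bs.map fun b => (b.2.length + 1) * F b.1).sum

/-- The images of the elements under conjugation by `h`, as indices. -/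
def permChk (e : ℕ → El) (h : El) : List ℕ → ℕ → ℕ → Option ℕ
  | [], _, seen => some seen
  | c :: cs, i, seen =>
    cond (!seen.testBit c && tabConj h.1 (e i).1 (e c).1)
      (permChk e h cs (i + 1) (seen ||| 1 <<< c)) none

/-- The count, with the common data taken out. -/
def fastCount (d : ℕ) (s s' : El) : ℕ :=
  match nOf s s' with
  | n =>
    match (tList s').map fun b => nrm s s' n (ap s b) with
    | B => ((zList s).map fun a => B.countP fun y => Nat.beq (nrm s s' n a ^^^ y) d).sum

theorem pairCount_eq_fast (d : ℕ) (s s' : El) : pairCount d s s' = fastCount d s s' := by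
  simp only [pairCount, fastCount, tgt, List.countP_map, Function.comp_def, nrm_xor]

/-- The count, with the first list given. -/
def fastWith (d : ℕ) (s s' : El) (Z : List ℕ) : ℕ :=
  match nOf s s' with
  | n =>
    match (tList s').map fun b => nrm s s' n (ap s b) with
    | B => (Z.map fun a => B.countP fun y => Nat.beq (nrm s s' n a ^^^ y) d).sum

theorem fastCount_eq (d : ℕ) (s s' : El) : fastCount d s s' = fastWith d s s' (zList s) := rfl

theorem blocksVal_eq (F : ℕ → ℕ) (bs : List (ℕ × List ℕ)) :
    blocksVal F bs = ((bs.map fun b => (b.1, b.2.length + 1)).map fun q => q.2 * F q.1).sum := by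
  simp [blocksVal, List.map_map, Function.comp_def]

/-- The value of a decomposition from the values at the roots. -/
theorem blocksVal_congr (F : ℕ → ℕ) (bs : List (ℕ × List ℕ)) (qs : List (ℕ × ℕ)) (vs : List ℕ)
    (h : bs.map (fun b => (b.1, b.2.length + 1)) = qs) (hv : List.Forall₂ (fun q v => F q.1 = v) qs vs) :
    blocksVal F bs = ((qs.zip vs).map fun p => p.1.2 * p.2).sum := by
  rw [blocksVal_eq, h]
  clear h
  induction hv with
  | nil => rfl
  | cons hq _ ih => simp [hq, ih]

theorem sum_range_list (f : ℕ → ℕ) : ∀ N : ℕ, ((List.range N).map f).sum = ∑ i ∈ Finset.range N, f i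
  | 0 => rfl
  | N + 1 => by
    rw [List.range_succ, List.map_append, List.sum_append, sum_range_list f N, Finset.sum_range_succ]
    simp

/-- The sum over the bits of a mask. -/
def bitsum (N : ℕ) (F : ℕ → ℕ) (m : ℕ) : ℕ := ∑ i ∈ Finset.range N, if m.testBit i then F i else 0

theorem testBit_set (m c i : ℕ) : (m ||| 1 <<< c).testBit i = (m.testBit i || decide (c = i)) := by
  rw [Nat.testBit_or, Nat.one_shiftLeft, Nat.testBit_two_pow]

theorem bitsum_set {N : ℕ} (F : ℕ → ℕ) {m c : ℕ} (hc : c < N) (h : m.testBit c = false) :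
    bitsum N F (m ||| 1 <<< c) = bitsum N F m + F c := by
  rw [bitsum, bitsum, ← Finset.add_sum_erase _ _ (Finset.mem_range.2 hc),
    ← Finset.add_sum_erase _ (fun i => if m.testBit i then F i else 0) (Finset.mem_range.2 hc)]
  have e : ∀ i ∈ (Finset.range N).erase c, (if (m ||| 1 <<< c).testBit i then F i else 0) =
      (if m.testBit i then F i else 0) := fun i hi => by
    rw [testBit_set, decide_eq_false (Ne.symm (Finset.mem_erase.1 hi).1), Bool.or_false]
  rw [Finset.sum_congr rfl e, testBit_set, h]
  simp only [decide_true, Bool.or_true, if_true, Bool.false_eq_true, if_false, zero_add]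
  omega

theorem bitsum_full (N : ℕ) (F : ℕ → ℕ) : bitsum N F (2 ^ N - 1) = ∑ i ∈ Finset.range N, F i :=
  Finset.sum_congr rfl fun i hi => by simp [Nat.testBit_two_pow_sub_one, Finset.mem_range.1 hi]

theorem bitsum_zero (N : ℕ) (F : ℕ → ℕ) : bitsum N F 0 = 0 := by simp [bitsum]

section

attribute [local irreducible] tabConj

theorem edgesOK_mono {e : ℕ → El} {gs : List (El × El)} : ∀ {ys : List ℕ} {a b c : ℕ},
    edgesOK e gs ys a b = some c → ∀ i, a.testBit i = true → c.testBit i = true
  | [], a, b, c, h, i, hi => by simp only [edgesOK, Option.some.injEq] at h; exact h ▸ hi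
  | y :: ys, a, b, c, h, i, hi => by
    simp only [edgesOK] at h
    cases hb : (b.testBit (y / 4096 % 4096) && !a.testBit (y % 4096) && Nat.blt (y / 16777216) gs.length &&
          tabConj (gs.getD (y / 16777216) ((0, 0), (0, 0))).1.1 (e (y / 4096 % 4096)).1 (e (y % 4096)).1)
    · rw [hb] at h; simp at h
    · rw [hb, cond_true] at h
      exact edgesOK_mono h i (by rw [testBit_set, hi]; rfl)

theorem edgesOK_sound {N : ℕ} {e : ℕ → El} {gs : List (El × El)} {F : ℕ → ℕ}
    (hinv : ∀ g ∈ gs, ∀ p < N, ∀ c < N, tabConj g.1.1 (e p).1 (e c).1 = true → F c = F p) (v : ℕ) :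
    ∀ {es : List ℕ} {seen here seen' : ℕ}, edgesOK e gs es seen here = some seen' →
    (∀ i, seen'.testBit i = true → i < N) → (∀ i, here.testBit i = true → i < N ∧ F i = v) →
    (∀ i, seen.testBit i = true → seen'.testBit i = true) ∧
      bitsum N F seen' = bitsum N F seen + es.length * v
  | [], seen, here, seen', h, _, _ => by
    simp only [edgesOK, Option.some.injEq] at h
    subst h
    simp
  | x :: xs, seen, here, seen', h, hN, hh => by
    simp only [edgesOK] at h
    cases hb : (here.testBit (x / 4096 % 4096) && !seen.testBit (x % 4096) &&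
        Nat.blt (x / 16777216) gs.length &&
          tabConj (gs.getD (x / 16777216) ((0, 0), (0, 0))).1.1 (e (x / 4096 % 4096)).1 (e (x % 4096)).1)
    · rw [hb] at h; simp at h
    rw [hb, cond_true] at h
    simp only [Bool.and_eq_true, Bool.not_eq_true', Nat.blt_eq] at hb
    obtain ⟨⟨⟨h1, h2⟩, h3⟩, h4⟩ := hb
    rw [List.getD_eq_getElem _ _ h3] at h4
    have hsub : ∀ i, here.testBit i = true ∨ x % 4096 = i →
        (here ||| 1 <<< (x % 4096)).testBit i = true := by
      intro i hi
      rw [testBit_set]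
      rcases hi with hi | hi <;> simp [hi]
    by_cases hcN : x % 4096 < N
    · have hv : F (x % 4096) = v :=
        (hinv _ (List.getElem_mem h3) _ (hh _ h1).1 _ hcN h4).trans (hh _ h1).2
      obtain ⟨m1, m2⟩ := edgesOK_sound hinv v h hN fun i hi => by
        rw [testBit_set, Bool.or_eq_true, decide_eq_true_eq] at hi
        rcases hi with hi | rfl
        exacts [hh i hi, ⟨hcN, hv⟩]
      refine ⟨fun i hi => m1 i (by rw [testBit_set, hi]; rfl), ?_⟩
      rw [m2, bitsum_set F hcN h2, hv, List.length_cons]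
      ring
    · exfalso
      refine hcN (hN _ ?_)
      exact edgesOK_mono h _ (by rw [testBit_set]; simp)

theorem blocksOK_sound {N : ℕ} {e : ℕ → El} {gs : List (El × El)} {F : ℕ → ℕ}
    (hinv : ∀ g ∈ gs, ∀ p < N, ∀ c < N, tabConj g.1.1 (e p).1 (e c).1 = true → F c = F p) :
    ∀ {bs : List (ℕ × List ℕ)} {seen seen' : ℕ}, blocksOK e gs bs seen = some seen' →
    (∀ i, seen'.testBit i = true → i < N) →
    (∀ i, seen.testBit i = true → seen'.testBit i = true) ∧
      bitsum N F seen' = bitsum N F seen + blocksVal F bs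
  | [], seen, seen', h, _ => by
    simp only [blocksOK, Option.some.injEq] at h
    subst h
    simp [blocksVal]
  | (r, es) :: bs, seen, seen', h, hN => by
    simp only [blocksOK] at h
    cases hr : seen.testBit r
    · rw [hr, cond_false] at h
      cases hs : edgesOK e gs es (seen ||| 1 <<< r) (1 <<< r) with
      | none => rw [hs] at h; simp at h
      | some m =>
        rw [hs] at h
        obtain ⟨m1, m2⟩ := blocksOK_sound hinv h hN
        have hmN : ∀ i, m.testBit i = true → i < N := fun i hi => hN i (m1 i hi)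
        have hrN : r < N := by
          refine hN r (m1 r ?_)
          exact (edgesOK_mono hs) r (by rw [testBit_set]; simp)
        obtain ⟨e1, e2⟩ := edgesOK_sound hinv (F r) hs hmN fun i hi => by
          rw [Nat.one_shiftLeft, Nat.testBit_two_pow, decide_eq_true_eq] at hi
          subst hi
          exact ⟨hrN, rfl⟩
        refine ⟨fun i hi => m1 i (e1 i (by rw [testBit_set, hi]; rfl)), ?_⟩
        rw [m2, e2, bitsum_set F hrN hr]
        simp only [blocksVal, List.map_cons, List.sum_cons]
        ring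
    · rw [hr] at h; simp at h

/-- The sum of an invariant function over the list. -/
theorem orbit_sum {N : ℕ} {e : ℕ → El} {gs : List (El × El)} {bs : List (ℕ × List ℕ)}
    (h : blocksOK e gs bs 0 = some (2 ^ N - 1)) (F : ℕ → ℕ)
    (hinv : ∀ g ∈ gs, ∀ p < N, ∀ c < N, tabConj g.1.1 (e p).1 (e c).1 = true → F c = F p) :
    ∑ i ∈ Finset.range N, F i = blocksVal F bs := by
  have := (blocksOK_sound hinv h fun i hi => by
    rw [Nat.testBit_two_pow_sub_one, decide_eq_true_eq] at hi; exact hi).2
  rwa [bitsum_full, bitsum_zero, zero_add] at this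

theorem permChk_sound {N : ℕ} {e : ℕ → El} {h : El} {F E : ℕ → ℕ}
    (hFE : ∀ i < N, ∀ c < N, tabConj h.1 (e i).1 (e c).1 = true → F c = E i) :
    ∀ {cs : List ℕ} {i seen seen' : ℕ}, permChk e h cs i seen = some seen' → i + cs.length ≤ N →
    (∀ j, seen'.testBit j = true → j < N) →
    (∀ j, seen.testBit j = true → seen'.testBit j = true) ∧
      bitsum N F seen' = bitsum N F seen + ∑ j ∈ Finset.range cs.length, E (i + j)
  | [], i, seen, seen', h, _, _ => by
    simp only [permChk, Option.some.injEq] at h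
    subst h
    simp
  | c :: cs, i, seen, seen', hh, hlen, hN => by
    simp only [permChk] at hh
    cases hb : (!seen.testBit c && tabConj h.1 (e i).1 (e c).1)
    · rw [hb] at hh; simp at hh
    rw [hb, cond_true] at hh
    rw [List.length_cons] at hlen
    obtain ⟨m1, m2⟩ := permChk_sound hFE hh (by omega) hN
    simp only [Bool.and_eq_true, Bool.not_eq_true'] at hb
    have hcN : c < N := hN c (m1 c (by rw [testBit_set]; simp))
    refine ⟨fun j hj => m1 j (by rw [testBit_set, hj]; rfl), ?_⟩
    rw [m2, bitsum_set F hcN hb.1, hFE i (by omega) c hcN hb.2, List.length_cons, Finset.sum_range_succ',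
      Nat.add_zero]
    rw [Finset.sum_congr rfl fun j _ => congrArg E (show i + (j + 1) = i + 1 + j by omega)]
    ring_nf

theorem perm_sum {N : ℕ} {e : ℕ → El} {h : El} {cs : List ℕ} (hchk : permChk e h cs 0 0 = some (2 ^ N - 1))
    (hlen : cs.length = N) {F E : ℕ → ℕ}
    (hFE : ∀ i < N, ∀ c < N, tabConj h.1 (e i).1 (e c).1 = true → F c = E i) :
    ∑ i ∈ Finset.range N, F i = ∑ i ∈ Finset.range N, E i := by
  have := (permChk_sound hFE hchk (by omega) fun i hi => by
    rw [Nat.testBit_two_pow_sub_one, decide_eq_true_eq] at hi; exact hi).2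
  simpa [bitsum_full, bitsum_zero, hlen] using this

end

/-- What a generator with its inverse gives. -/
structure GenSpec (d : ℕ) (h hi : El) : Prop where
  ok : elOK h = true
  oki : elOK hi = true
  inv : perm hi * perm h = 1
  fix : ap h d = d
  dm : ∀ x < 2048, dmask.testBit (ap h x) = dmask.testBit x

theorem genOK_spec {d : ℕ} {h hi : El} (hc : genOK d (h, hi) = true) : GenSpec d h hi := by
  simp only [genOK, Bool.and_eq_true, List.all_eq_true] at hc
  obtain ⟨⟨⟨⟨h1, h2⟩, h3⟩, h4⟩, h5⟩ := hc
  have hinv : perm hi * perm h = 1 := by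
    have := isTab_mul (isTab_perm h2) (isTab_perm h1)
    rw [Nat.eq_of_beq_eq_true h3] at this
    exact this.unique isTab_one
  refine ⟨h1, h2, hinv, Nat.eq_of_beq_eq_true h4, fun x hx => ?_⟩
  rw [dmask, testBit_maskOf, testBit_maskOf, Bool.eq_iff_iff, List.contains_iff_mem, List.contains_iff_mem]
  have key : ∀ y ∈ J4V.Invol.Checks.duads, ap h y ∈ J4V.Invol.Checks.duads ∧ ap hi y ∈ J4V.Invol.Checks.duads :=
    fun y hy => by
      have := h5 y hy
      rw [dmask, testBit_maskOf, testBit_maskOf, List.contains_iff_mem, List.contains_iff_mem] at this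
      exact this
  refine ⟨fun hm => ?_, fun hm => (key x hm).1⟩
  have := (key _ hm).2
  rwa [ap_inv h2 h1 hinv hx] at this

/-- The row of counts. -/
def row (d : ℕ) (N : ℕ) (e : ℕ → El) (s : El) : ℕ := ∑ i ∈ Finset.range N, pairCount d s (e i)

theorem nrm_lt (s s' : El) : ∀ {k c : ℕ}, c < 2048 → nrm s s' k c < 2048
  | 0, _, _ => by simp [nrm]
  | k + 1, c, hc => Nat.xor_lt_two_pow (n := 11) hc (ap_lt _ _)

section

variable {d : ℕ} {h hi : El} (H : GenSpec d h hi) {s s' u u' : El}
  (hs : elOK s = true) (hs' : elOK s' = true) (hu : elOK u = true) (hu' : elOK u' = true)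
  (hsu : tabConj h.1 s.1 u.1 = true) (hsu' : tabConj h.1 s'.1 u'.1 = true)

include H

theorem ap_bij : ∀ x < 2048, ap hi (ap h x) = x ∧ ap h (ap hi x) = x := fun _ hx =>
  ⟨ap_inv H.oki H.ok H.inv hx, ap_inv H.ok H.oki (mul_eq_one_comm.1 H.inv) hx⟩

include hs hu hsu

theorem ap_conj (x : ℕ) : ap h (ap s x) = ap u (ap h x) :=
  ap_comp H.ok hs hu H.ok (by rw [tabConj_spec H.ok hs hu hsu, inv_mul_cancel_right]) x

theorem beq_id_conj : Nat.beq u.1 idTab = Nat.beq s.1 idTab := by
  rw [Bool.eq_iff_iff, beq_idTab hu, beq_idTab hs, tabConj_spec H.ok hs hu hsu, conj_eq_one_iff]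

theorem imMask_conj {a : ℕ} (ha : a < 2048) : (imMask u).testBit (ap h a) = (imMask s).testBit a := by
  simp only [imMask, testBit_maskOf]
  rw [Bool.eq_iff_iff]
  simp only [List.contains_iff_mem, List.mem_map, vecs, List.mem_range]
  constructor
  · rintro ⟨y, hy, e⟩
    refine ⟨ap hi y, ap_lt _ _, ?_⟩
    have h1 := congrArg (ap hi) e
    rw [(ap_bij H a ha).1, ap_xor] at h1
    conv_lhs at h1 => arg 2; rw [← (ap_bij H y hy).2, ← ap_conj H hs hu hsu, (ap_bij H _ (ap_lt _ _)).1]
    exact h1
  · rintro ⟨x, hx, rfl⟩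
    exact ⟨ap h x, ap_lt _ _, by rw [ap_xor, ap_conj H hs hu hsu]⟩

theorem beq_fix_conj {a : ℕ} (ha : a < 2048) : Nat.beq (ap u (ap h a)) (ap h a) = Nat.beq (ap s a) a := by
  rw [Bool.eq_iff_iff, Nat.beq_eq, Nat.beq_eq, ← ap_conj H hs hu hsu]
  refine ⟨fun e => ?_, fun e => by rw [e]⟩
  rw [← (ap_bij H _ (ap_lt _ _)).1, e, (ap_bij H a ha).1]

theorem zty_conj {a : ℕ} (ha : a < 2048) : zty u (ap h a) = zty s a := by
  have h0 : Nat.beq (ap h a) 0 = Nat.beq a 0 := by
    rw [Bool.eq_iff_iff, Nat.beq_eq, Nat.beq_eq]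
    have hz : ∀ g : El, ap g 0 = 0 := fun g => enc_zero _
    exact ⟨fun e => by rw [← (ap_bij H a ha).1, e, hz], fun e => by rw [e, hz]⟩
  rw [zty, zty, beq_id_conj H hs hu hsu, h0, H.dm a ha, beq_fix_conj H hs hu hsu ha,
    imMask_conj H hs hu hsu ha, fix8_eq hs hu (tabConj_spec H.ok hs hu hsu)]

theorem tty_conj {a : ℕ} (ha : a < 2048) : tty u (ap h a) = tty s a := by
  rw [tty, tty, beq_id_conj H hs hu hsu, H.dm a ha, beq_fix_conj H hs hu hsu ha,
    imMask_conj H hs hu hsu ha, fix8_eq hs hu (tabConj_spec H.ok hs hu hsu)]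

omit hs hu hsu in
theorem filter_conj {P Q : ℕ → Bool} (hPQ : ∀ a < 2048, Q (ap h a) = P a) :
    ((vecs.filter P).map (ap h)).Perm (vecs.filter Q) := by
  have hnd : ((vecs.filter P).map (ap h)).Nodup := by
    refine List.Nodup.map_on (fun x hx y hy e => ?_) (List.nodup_range.filter _)
    simp only [List.mem_filter, vecs, List.mem_range] at hx hy
    rw [← (ap_bij H x hx.1).1, e, (ap_bij H y hy.1).1]
  refine (List.perm_ext_iff_of_nodup hnd (List.nodup_range.filter _)).2 fun y => ?_
  simp only [List.mem_map, List.mem_filter, vecs, List.mem_range]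
  constructor
  · rintro ⟨x, ⟨hx, hp⟩, rfl⟩
    exact ⟨ap_lt _ _, by rw [hPQ x hx]; exact hp⟩
  · rintro ⟨hy, hq⟩
    exact ⟨ap hi y, ⟨ap_lt _ _, by rw [← hPQ _ (ap_lt _ _), (ap_bij H y hy).2]; exact hq⟩, (ap_bij H y hy).2⟩

include hs' hu' hsu'

theorem nrm_conj : ∀ (k c : ℕ), nrm u u' k (ap h c) = ap h (nrm s s' k c)
  | 0, _ => (enc_zero _).symm
  | k + 1, c => by
    rw [nrm, nrm, nrm_conj k c, ap_xor, ap_conj H hs hu hsu, ap_conj H hs' hu' hsu']

theorem nOf_conj : nOf u u' = nOf s s' :=
  nOf_eq hs hs' hu hu' (tabConj_spec H.ok hs hu hsu) (tabConj_spec H.ok hs' hu' hsu')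

/-- Conjugate pairs have the same count. -/
theorem pairCount_conj (hd : d < 2048) : pairCount d u u' = pairCount d s s' := by
  have pz := filter_conj H (Q := zty u) (P := zty s) fun a ha => zty_conj H hs hu hsu ha
  have pt := filter_conj H (Q := tty u') (P := tty s') fun a ha => tty_conj H hs' hu' hsu' ha
  rw [pairCount, zList, tList, ← (pz.map _).sum_eq, List.map_map, pairCount]
  refine congrArg List.sum (List.map_congr_left fun a ha => ?_)
  have ha' : a < 2048 := (mem_zList.1 ha).1
  rw [Function.comp_apply, ← pt.countP_eq, List.countP_map]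
  refine List.countP_congr fun b hb => ?_
  simp only [Function.comp_apply, tgt, nOf_conj H hs hs' hu hu' hsu hsu', Nat.beq_eq]
  rw [← ap_conj H hs hu hsu, ← ap_xor, nrm_conj H hs hs' hu hu' hsu hsu']
  conv_lhs => rw [← H.fix]
  refine ⟨fun e => ?_, fun e => by rw [e]⟩
  rw [← (ap_bij H _ (nrm_lt _ _ (Nat.xor_lt_two_pow (n := 11) ha' (ap_lt _ _)))).1, e, (ap_bij H d hd).1]

end

theorem row_conj {d N : ℕ} {e : ℕ → El} (he : ∀ i < N, elOK (e i) = true) (hd : d < 2048) {g : El × El}
    (hg : genOK d g = true) {cs : List ℕ} (hchk : permChk e g.1 cs 0 0 = some (2 ^ N - 1))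
    (hlen : cs.length = N) {s u : El} (hs : elOK s = true) (hu : elOK u = true)
    (hsu : tabConj g.1.1 s.1 u.1 = true) : row d N e u = row d N e s :=
  perm_sum hchk hlen fun i hi c hc hic =>
    pairCount_conj (genOK_spec (h := g.1) (hi := g.2) hg) hs (he i hi) hu (he c hc) hsu hic hd

theorem pairCount_inv {d N : ℕ} {e : ℕ → El} (he : ∀ i < N, elOK (e i) = true) (hd : d < 2048) {g : El × El}
    (hg : genOK d g = true) {s : El} (hs : elOK s = true) (hfix : tabConj g.1.1 s.1 s.1 = true) :
    ∀ p < N, ∀ c < N, tabConj g.1.1 (e p).1 (e c).1 = true → pairCount d s (e c) = pairCount d s (e p) :=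
  fun p hp c hc h =>
    pairCount_conj (genOK_spec (h := g.1) (hi := g.2) hg) hs (he p hp) hs (he c hc) hfix h hd

end Cfsg.Agent.J4Order.Model
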