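import Cfsg.Agent.Lib.J4Order.Order
import Cfsg.Agent.Lib.J4Order.CountZ

/-!
# Janko four type: the order of the group

* `card_eq`: `|G| = 86775571046077562880`.
-/

set_option autoImplicit false
set_option linter.style.haveILetI false

namespace Cfsg.Agent.J4Order

open Cfsg Cfsg.Agent.J4Eleven

universe u

/-- The order of a simple group of Janko four type. -/
theorem card_eq {G : Type u} [Group G] [Finite G] [IsSimpleGroup G] {z : G} {P : Subgroup G}
    (hG : ¬ IsMulCommutative G) (X : Chart z P) : Nat.card G = 86775571046077562880 :=
  card_eq_of_hist (fun hinv _ hk => CountZ.hist_total hinv hk) hG X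

end Cfsg.Agent.J4Order
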