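import Cfsg.Agent.Lib.J4V.Classify
import Cfsg.Agent.Lib.J4V.M22Sub

/-!
# Janko four type: the 77 elementary subgroups of order `2 ^ 11` through `z`

Their stabilisers in `H` are the conjugates of the normaliser part; `E` and `P` fix all of them.
-/

set_option autoImplicit false
set_option linter.style.haveILetI false
set_option linter.unusedSectionVars false

namespace Cfsg.Agent.J4Order

open Subgroup
open Cfsg.Agent.J4Local
open Cfsg.Agent.J4Eleven

universe u

variable {G : Type u} [Group G] [Finite G] {z : G} {P : Subgroup G}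

/-- Those fixed by an element. -/
def Fix (z g : G) : Set (Subgroup G) := {A | Eleven z A ∧ g ∈ normalizer (A : Set G)}

/-- Their number. -/
noncomputable def fixc (z g : G) : ℕ := (Fix z g).ncard

theorem mem_cjS_normalizer {d g : G} {A : Subgroup G} :
    g ∈ normalizer (cjS d A : Set G) ↔ d⁻¹ * g * d ∈ normalizer (A : Set G) := by
  rw [← cjS_normalizer, mem_cjS]

theorem cjS_cjS (a b : G) (A : Subgroup G) : cjS a (cjS b A) = cjS (a * b) A := by
  ext x
  rw [mem_cjS, mem_cjS, mem_cjS, show b⁻¹ * (a⁻¹ * x * a) * b = (a * b)⁻¹ * x * (a * b) by group]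

theorem cjS_one (A : Subgroup G) : cjS 1 A = A := by ext x; simp

theorem cjS_eq_self {g : G} {A : Subgroup G} (h : g ∈ normalizer (A : Set G)) : cjS g A = A := by
  refine eq_of_le_of_card_ge ?_ (card_cjS _ _).ge
  rintro _ ⟨a, ha, rfl⟩
  exact M22Order.conj_mem_of_mem_normalizer h ha

theorem mem_normalizer_of_cjS {g : G} {A : Subgroup G} (h : cjS g A = A) : g ∈ normalizer (A : Set G) :=
  M22Order.mem_normalizer_of_conj fun a ha => by
    have h' : g * a * g⁻¹ ∈ cjS g A := ⟨a, ha, rfl⟩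
    rwa [h] at h'

theorem fixc_conj {d : G} (hd : d ∈ HH z) (g : G) : fixc z (d * g * d⁻¹) = fixc z g := by
  have e : Fix z (d * g * d⁻¹) = (fun A => cjS d A) '' Fix z g := by
    ext A
    constructor
    · rintro ⟨hA, hg⟩
      refine ⟨cjS d⁻¹ A, ⟨hA.conj (inv_mem hd), ?_⟩, ?_⟩
      · rw [mem_cjS_normalizer, inv_inv]; exact hg
      · show cjS d (cjS d⁻¹ A) = A
        rw [cjS_cjS, mul_inv_cancel, cjS_one]
    · rintro ⟨B, ⟨hB, hg⟩, rfl⟩
      refine ⟨hB.conj hd, ?_⟩
      show d * g * d⁻¹ ∈ normalizer (cjS d B : Set G)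
      rw [mem_cjS_normalizer]
      simpa [mul_assoc] using hg
  rw [fixc, fixc, e, Set.ncard_image_of_injective]
  exact fun A B h => by
    have h' := congrArg (cjS d⁻¹) (h : cjS d A = cjS d B)
    rwa [cjS_cjS, cjS_cjS, inv_mul_cancel, cjS_one, cjS_one] at h'

variable (X : Chart z P)

include X in
theorem card_all : {A : Subgroup G | Eleven z A}.ncard = 77 := by
  classical
  have hJ := X.L.J
  let T := {A : Subgroup G // Eleven z A}
  letI : MulAction ↥(HH z) T :=
    { smul := fun h A => ⟨cjS (h : G) A.1, A.2.conj h.2⟩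
      one_smul := fun A => Subtype.ext (cjS_one A.1)
      mul_smul := fun a b A => Subtype.ext (cjS_cjS (a : G) b A.1).symm }
  set B : T := ⟨X.std, X.std_eleven⟩
  have hst : MulAction.stabilizer ↥(HH z) B = (normalizer (X.std : Set G)).subgroupOf (HH z) := by
    ext h
    rw [MulAction.mem_stabilizer_iff, mem_subgroupOf]
    exact ⟨fun e => mem_normalizer_of_cjS (congrArg Subtype.val e), fun e => Subtype.ext (cjS_eq_self e)⟩
  have horb : MulAction.orbit ↥(HH z) B = Set.univ := Set.eq_univ_of_forall fun A => by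
    obtain ⟨d, hd, e⟩ := X.exists_conj_std A.2
    refine ⟨⟨d⁻¹, inv_mem hd.1⟩, Subtype.ext ?_⟩
    show cjS d⁻¹ X.std = A.1
    rw [← e, cjS_cjS, inv_mul_cancel, cjS_one]
  have hc := (MulAction.stabilizer ↥(HH z) B).card_mul_index
  rw [MulAction.index_stabilizer, horb, Set.ncard_univ, hst, ← inf_subgroupOf_right,
    Nat.card_congr (subgroupOfEquivOfLe inf_le_right).toEquiv, X.card_normalizer_HH, X.L.cardH] at hc
  show {A : Subgroup G | Eleven z A}.ncard = 77
  rw [← Nat.card_coe_set_eq]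
  change Nat.card T = 77
  omega

theorem exists_std {A : Subgroup G} (hA : Eleven z A) : ∃ d ∈ CC z P, A = cjS d X.std := by
  obtain ⟨d, hd, e⟩ := X.exists_conj_std hA
  exact ⟨d⁻¹, inv_mem hd, by rw [← e, cjS_cjS, inv_mul_cancel, cjS_one]⟩

include X in
theorem EE_fix {A : Subgroup G} (hA : Eleven z A) {e : G} (he : e ∈ EE z) : e ∈ normalizer (A : Set G) := by
  obtain ⟨d, hd, rfl⟩ := exists_std X hA
  rw [mem_cjS_normalizer]
  exact M22Order.mem_normalizer_of_conj fun a ha => X.EE_conj_std (conj_mem_EE' hd.1 he) ha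

include X in
theorem P_fix {A : Subgroup G} (hA : Eleven z A) {p : G} (hp : p ∈ P) : p ∈ normalizer (A : Set G) := by
  obtain ⟨d, hd, rfl⟩ := exists_std X hA
  rw [mem_cjS_normalizer, show d⁻¹ * p * d = d⁻¹ * (p * d) by group, ← commute_CC_P hd hp, inv_mul_cancel_left]
  exact X.NC_normalizer (X.P_le_NC hp)

/-- Equal images, equal fixed sets. -/
theorem fix_of_psi {a b : G} (ha : a ∈ H0 z P) (hb : b ∈ H0 z P) (h : X.psi ⟨a, ha⟩ = X.psi ⟨b, hb⟩)
    {A : Subgroup G} (hA : Eleven z A) (haA : a ∈ normalizer (A : Set G)) : b ∈ normalizer (A : Set G) := by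
  obtain ⟨c, hc, e, he, hce⟩ := exists_dec (mul_mem (inv_mem ha) hb)
  have h1 : X.π ⟨c, hc⟩ = 1 := by
    have hce0 : c * e ∈ H0 z P := hce ▸ mul_mem (inv_mem ha) hb
    rw [← X.psi_eq hc he hce0, show (⟨c * e, hce0⟩ : ↥(H0 z P)) = ⟨a, ha⟩⁻¹ * ⟨b, hb⟩ from Subtype.ext hce.symm,
      map_mul, map_inv, h, inv_mul_cancel]
  have h6 : P ⊔ zpowers z ≤ normalizer (A : Set G) :=
    sup_le (fun p hp => P_fix X hA hp) (zpowers_le.2 (EE_fix X hA X.z_mem_EE))
  have hb' : b = a * (c * e) := by rw [← hce, mul_inv_cancel_left]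
  rw [hb']
  exact mul_mem haA (mul_mem (h6 ((X.mem_ker_iff _).1 h1)) (EE_fix X hA he))

include X in
theorem exists_sq_mem {h : G} (hh : h ∈ HH z) : h * h ∈ H0 z P := by
  by_cases h0 : h ∈ H0 z P
  · exact mul_mem h0 h0
  · exact outer_mul X.L hh hh h0 h0

include X in
theorem mem_H0_of_odd {r : G} (hr : r ∈ HH z) (ho : Odd (orderOf r)) : r ∈ H0 z P := by
  obtain ⟨k, hk⟩ := ho
  have e : r = (r * r) ^ (k + 1) := by
    rw [← pow_two, ← pow_mul, show 2 * (k + 1) = orderOf r + 1 by omega, pow_succ, pow_orderOf_eq_one, one_mul]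
  rw [e]
  exact pow_mem (exists_sq_mem X hr) _

end Cfsg.Agent.J4Order
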