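import Cfsg.Agent.Lib.J4Order.Sides
import Cfsg.Agent.Lib.J4Order.BridgeT
import Cfsg.Agent.Lib.J4Order.Engine

/-!
# Janko four type: the histogram of the pairs with `z` in the group of the product

* `cell_card`: `histCount` counts the pairs over two elements with so many common fixed subgroups;
* `hist_conj`: so it is invariant under conjugation by an element fixing the sextet;
* `hist_card`: over a list.
-/

set_option autoImplicit false
set_option maxRecDepth 20000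
set_option linter.style.haveILetI false
set_option linter.unusedSectionVars false

namespace Cfsg.Agent.J4Order.Dict

open Subgroup
open Cfsg Cfsg.Agent.Golay.Basic Cfsg.Agent.Golay.Cert Cfsg.Agent.Golay.TabList
open Cfsg.Agent.Golay.M24
open Cfsg.Agent.J4Local Cfsg.Agent.J4Eleven
open Cfsg.Agent.J4V.Split (NV VN)
open Cfsg.Agent.J4Order.Model
open Cfsg.Agent.J4Order.Part
open Cfsg.Agent.J4V.Invol.Checks (root)

universe u

variable {G : Type u} [Group G] [Finite G] {z : G} {P : Subgroup G} {X : Chart z P} (M : J4V.Invol.Model X)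

/-- The pairs over two elements with `z` in the group of the product and `k` common fixed subgroups. -/
def cell (k : ℕ) (s s' : El) : Set (G × G) :=
  {p | (∃ a < 2048, p.1 = elM M a s) ∧ (∃ b < 2048, p.2 = elM M b s') ∧ IsConj z p.1 ∧
    (p.2 * p.2 = 1 ∧ p.2 ≠ 1 ∧ ¬ IsConj z p.2) ∧ z ∈ zpowers (p.1 * p.2) ∧
    (Fix z p.1 ∩ Fix z p.2).ncard = k}

variable [IsSimpleGroup G]

theorem fix2_conj {d : G} (hd : d ∈ HH z) (g h : G) :
    (Fix z (d * g * d⁻¹) ∩ Fix z (d * h * d⁻¹)).ncard = (Fix z g ∩ Fix z h).ncard := by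
  have key : ∀ g : G, Fix z (d * g * d⁻¹) = (fun A => cjS d A) '' Fix z g := by
    intro g
    ext A
    constructor
    · rintro ⟨hA, hg⟩
      refine ⟨cjS d⁻¹ A, ⟨hA.conj (inv_mem hd), ?_⟩, ?_⟩
      · rw [mem_cjS_normalizer, inv_inv]; exact hg
      · show cjS d (cjS d⁻¹ A) = A
        rw [cjS_cjS, mul_inv_cancel, cjS_one]
    · rintro ⟨B, ⟨hB, hg⟩, rfl⟩
      refine ⟨hB.conj hd, ?_⟩
      show d * g * d⁻¹ ∈ normalizer (cjS d B : Set G)
      rw [mem_cjS_normalizer]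
      simpa [mul_assoc] using hg
  have hinj : Function.Injective (fun A : Subgroup G => cjS d A) := fun A B h => by
    have h' := congrArg (cjS d⁻¹) (h : cjS d A = cjS d B)
    rwa [cjS_cjS, cjS_cjS, inv_mul_cancel, cjS_one, cjS_one] at h'
  rw [key, key, ← Set.image_inter hinj, Set.ncard_image_of_injective _ hinj]

theorem kE_conj {h s u : El} (hh : elOK h = true) (hs : elOK s = true) (hu : elOK u = true)
    (hc : tabConj h.1 s.1 u.1 = true) : kE M u = kE M h * kE M s * (kE M h)⁻¹ := by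
  refine kE_eq M hu (mul_mem (mul_mem (kE_mem M hh).1 (kE_mem M hs).1) (inv_mem (kE_mem M hh).1))
    ⟨M.hK (mul_mem (mul_mem (kE_mem M hh).1 (kE_mem M hs).1) (inv_mem (kE_mem M hh).1)), ?_⟩
  have h' := tabConj_spec hh hs hu hc
  rw [show (⟨kE M h * kE M s * (kE M h)⁻¹,
      M.hK (mul_mem (mul_mem (kE_mem M hh).1 (kE_mem M hs).1) (inv_mem (kE_mem M hh).1))⟩ : ↥(NV X.std)) =
      ⟨kE M h, M.hK (kE_mem M hh).1⟩ * ⟨kE M s, M.hK (kE_mem M hs).1⟩ * ⟨kE M h, M.hK (kE_mem M hh).1⟩⁻¹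
      from rfl, map_mul, map_mul, map_inv, Subgroup.coe_mul, Subgroup.coe_mul, Subgroup.coe_inv,
    pr_kE M hh, pr_kE M hs]
  rw [show Dict.perm h * Dict.perm s * (Dict.perm h)⁻¹ = tabPerm u.1 from h'.symm]
  exact isTab_tabPerm (tabOK_of hu).1

theorem cell_conj {h hi : El} (H : GenSpec zv h hi) {s s' u u' : El} (hs : elOK s = true) (hs' : elOK s' = true)
    (hu : elOK u = true) (hu' : elOK u' = true) (hsu : tabConj h.1 s.1 u.1 = true)
    (hsu' : tabConj h.1 s'.1 u'.1 = true) (k : ℕ) : (cell M k u u').ncard = (cell M k s s').ncard := by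
  set g := kE M h with hg
  have hgH : g ∈ HH z := by
    have := (elM_HH M H.ok (a := 0)).2 H.fix
    rwa [elM, M.iv_zero, one_mul] at this
  have hmove : ∀ {t w : El}, elOK t = true → elOK w = true → tabConj h.1 t.1 w.1 = true → ∀ a,
      g * elM M a t * g⁻¹ = elM M (ap h a) w := fun ht hw hc a => by
    rw [elM, elM, ← conj_kE M H.ok, kE_conj M H.ok ht hw hc, ← hg]; group
  have hback : ∀ {t w : El}, elOK t = true → elOK w = true → tabConj h.1 t.1 w.1 = true → ∀ b,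
      ∃ a < 2048, g⁻¹ * elM M b w * g = elM M a t := fun {t w} ht hw hc b => by
    obtain ⟨a, ha, e⟩ := M.exists_iv (a := g⁻¹ * M.iv b * g) (by
      have := M22Order.conj_mem_of_mem_normalizer (inv_mem (M.hK (kE_mem M H.ok).1)) (M.iv_mem b)
      rwa [inv_inv] at this)
    refine ⟨a, ha, ?_⟩
    rw [elM, elM, e, kE_conj M H.ok ht hw hc, ← hg]; group
  have hiff : ∀ x y : G, (IsConj z (g * x * g⁻¹) ↔ IsConj z x) ∧
      ((z ∈ zpowers (g * x * g⁻¹ * (g * y * g⁻¹))) ↔ z ∈ zpowers (x * y)) := by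
    intro x y
    refine ⟨⟨fun h => h.trans (isConj_iff.2 ⟨g, rfl⟩).symm, fun h => h.trans (isConj_iff.2 ⟨g, rfl⟩)⟩, ?_⟩
    rw [show g * x * g⁻¹ * (g * y * g⁻¹) = g * (x * y) * g⁻¹ by group]
    have hz : g * z * g⁻¹ = z := by rw [mem_HH.1 hgH, mul_inv_cancel_right]
    simp only [mem_zpowers_iff]
    refine exists_congr fun i => ?_
    rw [conj_zpow]
    exact ⟨fun e => mul_left_cancel (mul_right_cancel (e.trans hz.symm)), fun e => by rw [e, hz]⟩
  have hT : ∀ y : G, (g * y * g⁻¹ * (g * y * g⁻¹) = 1 ∧ g * y * g⁻¹ ≠ 1) ↔ (y * y = 1 ∧ y ≠ 1) := fun y => by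
    rw [show g * y * g⁻¹ * (g * y * g⁻¹) = g * (y * y) * g⁻¹ by group, conj_eq_one_iff, ne_eq, ne_eq,
      conj_eq_one_iff]
  rw [show cell M k u u' = (fun p : G × G => (g * p.1 * g⁻¹, g * p.2 * g⁻¹)) '' cell M k s s' from ?_,
    Set.ncard_image_of_injective]
  · rintro ⟨x, y⟩ ⟨x', y'⟩ e
    simp only [Prod.mk.injEq] at e
    rw [mul_left_cancel (mul_right_cancel e.1), mul_left_cancel (mul_right_cancel e.2)]
  ext ⟨x, y⟩
  constructor
  · rintro ⟨⟨a, ha, e1⟩, ⟨b, hb, e2⟩, h3, ⟨h4, h5, h6⟩, h7, h8⟩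
    dsimp only at e1 e2 h3 h4 h5 h6 h7 h8
    have ex : x = g * (g⁻¹ * x * g) * g⁻¹ := by group
    have ey : y = g * (g⁻¹ * y * g) * g⁻¹ := by group
    refine ⟨(g⁻¹ * x * g, g⁻¹ * y * g), ⟨?_, ?_, ?_, ⟨?_, ?_, ?_⟩, ?_, ?_⟩, by simp [mul_assoc]⟩
    · rw [e1]; exact hback hs hu hsu a
    · rw [e2]; exact hback hs' hu' hsu' b
    · rw [ex] at h3; exact (hiff _ y).1.1 h3
    · rw [ey] at h4 h5; exact ((hT _).1 ⟨h4, h5⟩).1
    · rw [ey] at h4 h5; exact ((hT _).1 ⟨h4, h5⟩).2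
    · intro hz; apply h6; rw [ey]; exact (hiff _ x).1.2 hz
    · rw [ex, ey] at h7; exact (hiff _ _).2.1 h7
    · rw [ex, ey, fix2_conj hgH] at h8; exact h8
  · rintro ⟨⟨x', y'⟩, ⟨⟨a, ha, e1⟩, ⟨b, hb, e2⟩, h3, ⟨h4, h5, h6⟩, h7, h8⟩, e⟩
    simp only [Prod.mk.injEq] at e
    obtain ⟨rfl, rfl⟩ := e
    dsimp only at e1 e2 h3 h4 h5 h6 h7 h8
    refine ⟨⟨ap h a, Dict.ap_lt _ _, ?_⟩, ⟨ap h b, Dict.ap_lt _ _, ?_⟩, (hiff x' y').1.2 h3,
      ⟨((hT y').2 ⟨h4, h5⟩).1, ((hT y').2 ⟨h4, h5⟩).2, fun hz => h6 ((hiff y' x').1.1 hz)⟩,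
      (hiff x' y').2.2 h7, ?_⟩
    · show g * x' * g⁻¹ = _
      rw [e1, hmove hs hu hsu]
    · show g * y' * g⁻¹ = _
      rw [e2, hmove hs' hu' hsu']
    · show (Fix z (g * x' * g⁻¹) ∩ Fix z (g * y' * g⁻¹)).ncard = k
      rw [fix2_conj hgH, h8]

variable (hG : ¬ IsMulCommutative G) (hgood : ¬ IsConj z (M.elt (root 2)))

include hG hgood

theorem cell_card {s s' : El} (hs : elOK s = true) (h2 : Dict.perm s * Dict.perm s = 1) (hs' : elOK s' = true)
    (h2' : Dict.perm s' * Dict.perm s' = 1) (hord : (Dict.perm s * Dict.perm s') ^ nOf s s' = 1) (k : ℕ) :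
    (cell M k s s').ncard = histCount k s s' := by
  classical
  have hzv : M.iv zv = z := M.hz
  have hzlt : zv < 2048 := J4V.Invol.duads_facts.2.2.2.2.1
  have hz0 : zv ≠ 0 := J4V.Invol.duads_facts.2.2.2.2.2.1
  have hiff : ∀ a < 2048, ∀ b < 2048, (elM M a s, elM M b s') ∈ cell M k s s' ↔
      (zty s a = true ∧ tty s' b = true) ∧ tgt s s' a b = zv ∧ common s a s' b = k := by
    intro a ha b hb
    constructor
    · rintro ⟨-, -, h3, h4, h5, h6⟩
      dsimp only at h3 h4 h5 h6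
      have h5' : M.iv zv ∈ zpowers (elM M a s * elM M b s') := by rw [hzv]; exact h5
      have hu2 : elM M a s * elM M a s = 1 := by
        obtain ⟨g, hg⟩ := isConj_iff.1 h3
        rw [← hg, show g * z * g⁻¹ * (g * z * g⁻¹) = g * (z * z) * g⁻¹ by group, X.zz]; group
      obtain ⟨cu, cv⟩ := centralize_of_mem_zpowers hu2 h4.1 X.zz h5
      rw [common_spec M hG hgood hs hs' ha hb (mem_HH.2 cu) (mem_HH.2 cv)] at h6
      exact ⟨⟨(zty_iff M hG hgood hs h2 ha).2 h3, (tty_iff M hG hgood hs' h2' hb).2 h4⟩,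
        (mem_zpowers_iff_tgt M hG hs hs' hord ha hzlt hz0).1 h5', h6⟩
    · rintro ⟨⟨hz, ht⟩, e, hk⟩
      have h3 := (zty_iff M hG hgood hs h2 ha).1 hz
      have h4 := (tty_iff M hG hgood hs' h2' hb).1 ht
      have h5 : z ∈ zpowers (elM M a s * elM M b s') := by
        have := (mem_zpowers_iff_tgt M hG hs hs' hord ha (b := b) hzlt hz0).2 e
        rwa [hzv] at this
      have hu2 : elM M a s * elM M a s = 1 := by
        obtain ⟨g, hg⟩ := isConj_iff.1 h3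
        rw [← hg, show g * z * g⁻¹ * (g * z * g⁻¹) = g * (z * z) * g⁻¹ by group, X.zz]; group
      obtain ⟨cu, cv⟩ := centralize_of_mem_zpowers hu2 h4.1 X.zz h5
      exact ⟨⟨a, ha, rfl⟩, ⟨b, hb, rfl⟩, h3, h4, h5,
        by rw [common_spec M hG hgood hs hs' ha hb (mem_HH.2 cu) (mem_HH.2 cv)]; exact hk⟩
  set T := ((zList s).toFinset ×ˢ (tList s').toFinset).filter fun q =>
    (Nat.beq (tgt s s' q.1 q.2) zv && Nat.beq (common s q.1 s' q.2) k) = true with hT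
  have e : cell M k s s' = (fun q : ℕ × ℕ => (elM M q.1 s, elM M q.2 s')) '' (↑T : Set (ℕ × ℕ)) := by
    ext ⟨x, y⟩
    simp only [hT, Set.mem_image, Finset.coe_filter, Set.mem_ofPred_eq, Finset.mem_product,
      List.mem_toFinset, Bool.and_eq_true, Nat.beq_eq, Prod.mk.injEq, mem_zList, mem_tList]
    constructor
    · intro hm
      obtain ⟨⟨a, ha, e1⟩, ⟨b, hb, e2⟩, -⟩ := id hm
      dsimp only at e1 e2
      subst e1 e2
      obtain ⟨⟨hz, ht⟩, he, hk⟩ := (hiff a ha b hb).1 hm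
      exact ⟨(a, b), ⟨⟨⟨ha, hz⟩, hb, ht⟩, he, hk⟩, rfl, rfl⟩
    · rintro ⟨⟨a, b⟩, ⟨⟨⟨ha, hz⟩, hb, ht⟩, he, hk⟩, rfl, rfl⟩
      exact (hiff a ha b hb).2 ⟨⟨hz, ht⟩, he, hk⟩
  rw [e, Set.InjOn.ncard_image, Set.ncard_coe_finset, histCount, hT,
    sum_countP (zList s) (tList s') (List.nodup_range.filter _) (List.nodup_range.filter _)]
  rintro ⟨a, b⟩ hq ⟨a', b'⟩ hq' he
  simp only [hT, Finset.coe_filter, Set.mem_ofPred_eq, Finset.mem_product, List.mem_toFinset, mem_zList,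
    mem_tList] at hq hq'
  simp only [Prod.mk.injEq] at he
  rw [(elM_inj M hs hs hq.1.1.1 hq'.1.1.1 he.1).1, (elM_inj M hs' hs' hq.1.2.1 hq'.1.2.1 he.2).1]

theorem hist_conj {L : List El} (h : Spec L) (k : ℕ) {g : El × El} (hg : genOK zv g = true) {s s' u u' : El}
    (hs : s ∈ L) (hs' : s' ∈ L) (hu : u ∈ L) (hu' : u' ∈ L) (hsu : tabConj g.1.1 s.1 u.1 = true)
    (hsu' : tabConj g.1.1 s'.1 u'.1 = true) : histCount k u u' = histCount k s s' := by
  rw [← cell_card M hG hgood (h.ok s hs) (h.sq s hs) (h.ok s' hs') (h.sq s' hs') (h.ord s hs s' hs') k,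
    ← cell_card M hG hgood (h.ok u hu) (h.sq u hu) (h.ok u' hu') (h.sq u' hu') (h.ord u hu u' hu') k]
  exact cell_conj M (genOK_spec (h := g.1) (hi := g.2) hg) (h.ok s hs) (h.ok s' hs') (h.ok u hu) (h.ok u' hu') hsu
    hsu' k

/-- The pairs over a list. -/
def histSet (L : List El) (k : ℕ) : Set (G × G) := {p | ∃ s ∈ L, ∃ s' ∈ L, p ∈ cell M k s s'}

theorem hist_card {L : List El} (h : Spec L) (k : ℕ) : (histSet M L k).ncard = histTotal k L := by
  classical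
  have hLn : L.Nodup := h.nodup.of_map _
  haveI : Fintype G := Fintype.ofFinite G
  set f : El × El → Finset (G × G) := fun p => (cell M k p.1 p.2).toFinset with hf
  have e : histSet M L k = ↑((L.toFinset ×ˢ L.toFinset).biUnion f) := by
    ext p
    simp only [histSet, Set.mem_ofPred_eq, hf, Finset.coe_biUnion, Finset.mem_coe, Finset.mem_product,
      List.mem_toFinset, Set.coe_toFinset, Set.mem_iUnion, exists_prop]
    exact ⟨fun ⟨s, hs, s', hs', hp⟩ => ⟨(s, s'), ⟨hs, hs'⟩, hp⟩, fun ⟨q, ⟨hs, hs'⟩, hp⟩ => ⟨q.1, hs, q.2, hs', hp⟩⟩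
  rw [e, Set.ncard_coe_finset, Finset.card_biUnion, Finset.sum_product, histTotal, ← List.sum_toFinset _ hLn]
  · refine Finset.sum_congr rfl fun s hs => ?_
    rw [← List.sum_toFinset _ hLn]
    refine Finset.sum_congr rfl fun s' hs' => ?_
    rw [List.mem_toFinset] at hs hs'
    rw [hf, ← Set.ncard_eq_toFinset_card',
      cell_card M hG hgood (h.ok s hs) (h.sq s hs) (h.ok s' hs') (h.sq s' hs') (h.ord s hs s' hs')]
  · rintro ⟨s, s'⟩ hp ⟨r, r'⟩ hr hne
    simp only [Finset.coe_product, Set.mem_prod, List.coe_toFinset, Set.mem_ofPred_eq] at hp hr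
    rw [Function.onFun, Finset.disjoint_left]
    intro x hx hy
    simp only [hf, Set.mem_toFinset] at hx hy
    obtain ⟨⟨a, ha, e1⟩, ⟨b, hb, e2⟩, -⟩ := hx
    obtain ⟨⟨a', ha', f1⟩, ⟨b', hb', f2⟩, -⟩ := hy
    exact hne (Prod.ext
      (fst_inj h hp.1 hr.1 (elM_inj M (h.ok s hp.1) (h.ok r hr.1) ha ha' (e1.symm.trans f1)).2)
      (fst_inj h hp.2 hr.2 (elM_inj M (h.ok s' hp.2) (h.ok r' hr.2) hb hb' (e2.symm.trans f2)).2))

end Cfsg.Agent.J4Order.Dict
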