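import Cfsg.Agent.Lib.J4V.Inst
import Cfsg.Agent.Lib.Golay.Trans

/-!
# Janko four type: the normaliser of the standard subgroup in coordinates

`Ident X q`: the even cocode and `M24` mapped onto the normaliser of the standard subgroup, a set `q` of four
points going to `z` and the pairs to the others.

* `exists_ident`: there is one.
-/

set_option autoImplicit false
set_option linter.style.haveILetI false
set_option linter.unusedSectionVars false

namespace Cfsg.Agent.J4Order

open Subgroup Finset
open Cfsg (GolayPt golayCode M24)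
open Cfsg.Agent.J4Local
open Cfsg.Agent.J4Eleven
open Cfsg.Agent.Golay.Basic (word)
open scoped Pointwise

universe u

variable {G : Type u} [Group G] [Finite G] {z : G} {P : Subgroup G}

/-- Words. -/
abbrev Word : Type := GolayPt → ZMod 2

/-- The coordinates. -/
structure Ident (X : Chart z P) (q : Finset GolayPt) where
  emb : Word → G
  act : ↥M24 →* G
  add : ∀ v w : Word, ∑ p, v p = 0 → ∑ p, w p = 0 → emb (v + w) = emb v * emb w
  mem : ∀ w : Word, ∑ p, w p = 0 → emb w ∈ X.std
  surj : ∀ v ∈ X.std, ∃ w : Word, ∑ p, w p = 0 ∧ emb w = v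
  eq_one : ∀ w : Word, ∑ p, w p = 0 → (emb w = 1 ↔ w ∈ golayCode)
  conj : ∀ (σ : ↥M24) (w : Word), ∑ p, w p = 0 →
    act σ * emb w * (act σ)⁻¹ = emb (fun p => w ((σ : Equiv.Perm GolayPt)⁻¹ p))
  act_mem : ∀ σ, act σ ∈ normalizer (X.std : Set G)
  act_std : ∀ σ, act σ ∈ X.std → σ = 1
  dec : ∀ n ∈ normalizer (X.std : Set G), ∃ w : Word, ∃ σ : ↥M24, ∑ p, w p = 0 ∧ n = emb w * act σ
  z_eq : emb (word q) = z
  duad : ∀ a b : GolayPt, a ≠ b → emb (word {a, b}) ∈ X.DD

variable (X : Chart z P) [IsSimpleGroup G] (hG : ¬ IsMulCommutative G)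

include hG

theorem exists_phi_eps :
    ∃ φ : ↥(J4V.Split.NV X.std) ⧸ J4V.Split.VN X.std ≃* ↥M24, ∃ ε : Word → ↥(J4V.Split.NV X.std),
      (∀ v w, ∑ p, v p = 0 → ∑ p, w p = 0 → ε (v + w) = ε v * ε w) ∧
      (∀ w, ∑ p, w p = 0 → ε w ∈ J4V.Split.VN X.std) ∧
      (∀ n ∈ J4V.Split.VN X.std, ∃ w, ∑ p, w p = 0 ∧ ε w = n) ∧
      (∀ w ∈ golayCode, ε w = 1) ∧
      ∀ (g : ↥(J4V.Split.NV X.std)) (w : Word), ∑ p, w p = 0 → g * ε w * g⁻¹ =
        ε (fun p => w ((((φ (QuotientGroup.mk g) : ↥M24) : Equiv.Perm GolayPt))⁻¹ p)) := by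
  classical
  have hV := X.std_eleven
  letI : CommGroup ↥X.std :=
    { (inferInstance : Group ↥X.std) with mul_comm := fun a b => Subtype.ext (hV.comm a a.2 b b.2) }
  haveI : Fintype (Additive ↥X.std) := Fintype.ofFinite _
  let val : Additive ↥X.std → G := fun w => ((Additive.toMul w : ↥X.std) : G)
  have val_inj : Function.Injective val := fun a b h => Additive.toMul.injective (Subtype.ext h)
  have val_mem : ∀ w, val w ∈ X.std := fun w => (Additive.toMul w : ↥X.std).2
  have val_sur : ∀ g ∈ X.std, ∃ w, val w = g := fun g hg => ⟨Additive.ofMul ⟨g, hg⟩, rfl⟩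
  have val_add : ∀ a b, val (a + b) = val a * val b := fun a b => rfl
  have val_zero : val 0 = 1 := rfl
  have hcount : ∀ (p : G → Prop), (∀ g, p g → g ∈ X.std) →
      (univ.filter fun w => p (val w)).card = {g | p g}.ncard := by
    intro p hp
    rw [← Set.ncard_coe_finset, ← Set.ncard_image_of_injective _ val_inj]
    congr 1
    ext g
    simp only [coe_filter, mem_univ, true_and, Set.mem_image, Set.mem_ofPred_eq]
    exact ⟨fun ⟨w, hw, e⟩ => e ▸ hw, fun h => (val_sur g (hp g h)).elim fun w e => ⟨w, e ▸ h, e⟩⟩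
  let cj : ↥(J4V.Split.NV X.std) → Additive ↥X.std ≃+ Additive ↥X.std := fun n =>
    { toFun := fun w => Additive.ofMul
        ⟨(n : G) * val w * (n : G)⁻¹, M22Order.conj_mem_of_mem_normalizer n.2 (val_mem w)⟩
      invFun := fun w => Additive.ofMul
        ⟨(n : G)⁻¹ * val w * (n : G)⁻¹⁻¹, M22Order.conj_mem_of_mem_normalizer (inv_mem n.2) (val_mem w)⟩
      left_inv := fun w => val_inj (by simp [val, mul_assoc])
      right_inv := fun w => val_inj (by simp [val, mul_assoc])
      map_add' := fun a b => val_inj (by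
        show (n : G) * val (a + b) * (n : G)⁻¹ = (n : G) * val a * (n : G)⁻¹ * ((n : G) * val b * (n : G)⁻¹)
        rw [val_add]; group) }
  have cj_val : ∀ n w, val (cj n w) = (n : G) * val w * (n : G)⁻¹ := fun n w => rfl
  set D : Finset (Additive ↥X.std) := univ.filter fun w => val w ∈ X.DD with hDdef
  have memD : ∀ w, w ∈ D ↔ val w ∈ X.DD := fun w => by simp [hDdef]
  have cj_D : ∀ n w, cj n w ∈ D ↔ w ∈ D := fun n w => by
    rw [memD, memD, cj_val, X.mem_DD_conj n.2]
  have zt_of : ∀ w, w ≠ 0 → w ∉ D → IsConj z (val w) := by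
    intro w h0 hD
    by_contra h
    exact hD ((memD w).2 ⟨val_mem w, fun e => h0 (val_inj (e.trans val_zero.symm)), h⟩)
  let A : J4V.Points.Data (Additive ↥X.std) :=
    { D := D
      two := fun w => val_inj (by rw [val_add, val_zero]; exact hV.sq _ (val_mem w))
      cardW := by
        rw [← Nat.card_eq_fintype_card, Nat.card_congr (Additive.toMul), hV.card]; norm_num
      cardD := (hcount (fun g => g ∈ X.DD) fun g h => h.1).trans (X.others_ncard hG)
      zero := fun h => ((memD 0).1 h).2.1 val_zero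
      gen := by
        rw [eq_top_iff]
        intro w _
        have h := val_mem w
        rw [← X.closure_DD hG] at h
        have key : ∀ g ∈ Subgroup.closure X.DD, ∀ w, val w = g →
            w ∈ AddSubgroup.closure (D : Set (Additive ↥X.std)) := by
          intro g hg
          induction hg using Subgroup.closure_induction with
          | mem x hx => exact fun w e => AddSubgroup.subset_closure ((memD w).2 (e ▸ hx))
          | one => exact fun w e => (val_inj (e.trans val_zero.symm)) ▸ zero_mem _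
          | mul a b ha hb iha ihb =>
            intro w e
            have ha' : a ∈ X.std := X.closure_DD hG ▸ ha
            have hb' : b ∈ X.std := X.closure_DD hG ▸ hb
            obtain ⟨a', rfl⟩ := val_sur a ha'
            obtain ⟨b', rfl⟩ := val_sur b hb'
            rw [val_inj (e.trans (val_add a' b').symm)]
            exact add_mem (iha a' rfl) (ihb b' rfl)
          | inv a ha iha =>
            intro w e
            refine iha w ?_
            rw [e]
            exact inv_eq_of_mul_eq_one_right (hV.sq a (X.closure_DD hG ▸ ha))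
        exact key _ h w rfl
      trans := by
        intro d hd d' hd'
        obtain ⟨h1, h2, h3⟩ := (memD d).1 hd
        obtain ⟨h1', h2', h3'⟩ := (memD d').1 hd'
        obtain ⟨n, hn, e⟩ := X.others_conj hG h1 h2 h3 h1' h2' h3'
        exact ⟨cj ⟨n, hn⟩, cj_D _, val_inj (by rw [cj_val]; exact e)⟩
      o36 := by
        intro y hy0 hyD
        rw [← X.local36 hG (val_mem y) (zt_of y hy0 hyD),
          ← hcount (fun g => g ∈ X.DD ∧ g * val y ∈ X.DD) fun g h => h.1.1]
        congr 1
        ext w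
        simp only [mem_filter, mem_univ, true_and, memD, val_add]
      four := by
        intro y hy0 hyD d hd hdy
        rw [← X.local4 hG (val_mem y) (zt_of y hy0 hyD) ((memD d).1 hd)
            (val_add d y ▸ (memD _).1 hdy),
          ← hcount (fun g => (g ∈ X.DD ∧ g * val y ∈ X.DD) ∧ g ≠ val d ∧ g ≠ val d * val y ∧
            val d * g ∈ X.DD ∧ val d * g * val y ∈ X.DD) fun g h => h.1.1.1]
        congr 1
        ext w
        simp only [mem_filter, mem_univ, true_and, memD, ← val_add, val_inj.ne_iff, and_assoc] }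
  have hle : X.std ≤ J4V.Split.NV X.std := le_normalizer
  have hcard : Nat.card (↥(J4V.Split.NV X.std) ⧸ J4V.Split.VN X.std) = 244823040 := by
    have h := Subgroup.card_eq_card_quotient_mul_card_subgroup (J4V.Split.VN X.std)
    rw [Nat.card_congr (Subgroup.subgroupOfEquivOfLe hle).toEquiv, hV.card, (X.params hG).1] at h
    omega
  obtain ⟨φ, ε, e1, e2, e3, e4, e5⟩ := J4V.Points.recognise (J4V.Split.VN X.std) A
    (fun w => (⟨val w, hle (val_mem w)⟩ : ↥(J4V.Split.NV X.std)))
    (fun a b => Subtype.ext (val_add a b)) (fun a b h => val_inj (congrArg (fun x : ↥(J4V.Split.NV X.std) => (x : G)) h))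
    (fun n => by
      rw [Subgroup.mem_subgroupOf]
      exact ⟨fun h => (val_sur _ h).elim fun w e => ⟨w, Subtype.ext e⟩, fun ⟨w, e⟩ => e ▸ val_mem w⟩)
    cj (fun g w => Subtype.ext (cj_val g w).symm) cj_D
    (fun g hg => by
      rw [Subgroup.mem_subgroupOf]
      refine X.centralizer_std (Subgroup.mem_centralizer_iff.2 fun a ha => ?_)
      exact (congrArg Subtype.val (hg ⟨a, hle ha⟩ (Subgroup.mem_subgroupOf.2 ha))).symm)
    hcard
  exact ⟨φ, ε, e1, e2, e3, e4, e5⟩

theorem exists_ident (q : Finset GolayPt) (hq : q.card = 4) : Nonempty (Ident X q) := by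
  classical
  obtain ⟨φ, ε, hadd, hmem, hsurj, hcode, hconj⟩ := exists_phi_eps X hG
  obtain ⟨K, hKN, hKi, hKs, -⟩ := J4V.Split.exists_complement X φ ε hadd hmem hsurj hcode hconj
  have hle : X.std ≤ J4V.Split.NV X.std := le_normalizer
  -- the even cocode has the order of the standard subgroup
  have hmemG : ∀ w, ∑ p, w p = 0 → ((ε w : ↥(J4V.Split.NV X.std)) : G) ∈ X.std := fun w hw => hmem w hw
  have hone : ∀ w, ∑ p, w p = 0 → (ε w = 1 ↔ w ∈ golayCode) := by
    intro w hw
    refine ⟨fun h => ?_, hcode w⟩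
    open M24CocodeSplit.Split in
    have hcongr : ∀ v u, IsEven v → IsEven u → v + u ∈ golayCode → ε v = ε u := by
      intro v u hv hu hvu
      have h := hadd (v + u) u (isEven_add hv hu) hu
      rwa [add_assoc, add_self₂, add_zero, hcode _ hvu, one_mul] at h
    open M24CocodeSplit.Split in
    have hbij : Function.Bijective (fun x : M24CocodeSplit.Collect.V =>
        (⟨ε (repWord x), hmem _ (isEven_repWord x)⟩ : ↥(J4V.Split.VN X.std))) := by
      rw [Nat.bijective_iff_surjective_and_card]
      refine ⟨fun n => ?_, ?_⟩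
      · obtain ⟨v, hv, e⟩ := hsurj n.1 n.2
        exact ⟨coord v, Subtype.ext
          ((hcongr _ _ hv (isEven_repWord _) (coord_congr hv)).symm.trans e)⟩
      · rw [Nat.card_congr (subgroupOfEquivOfLe hle).toEquiv, X.std_eleven.card]; simp
    open M24CocodeSplit.Split in
    have h1 : ε (repWord (coord w)) = ε (repWord 0) := by
      rw [← hcongr _ _ hw (isEven_repWord _) (coord_congr hw), h]
      exact (hcode _ (by simp [repWord])).symm
    open M24CocodeSplit.Split in
    have h2 := coord_congr hw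
    rw [hbij.1 (Subtype.ext h1)] at h2
    simpa [M24CocodeSplit.Split.repWord] using h2
  -- the complement
  let ψ : ↥K →* ↥M24 := φ.toMonoidHom.comp ((QuotientGroup.mk' (J4V.Split.VN X.std)).comp (inclusion hKN))
  have hψ : Function.Bijective ψ := by
    refine φ.bijective.comp ⟨(injective_iff_map_eq_one _).2 fun k hk => ?_, fun y => ?_⟩
    · have h1 : (k : G) ∈ X.std := ((QuotientGroup.eq_one_iff _).1 hk : inclusion hKN k ∈ J4V.Split.VN X.std)
      exact Subtype.ext (mem_bot.1 (hKi ▸ mem_inf.2 ⟨k.2, h1⟩))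
    · obtain ⟨n, rfl⟩ := QuotientGroup.mk_surjective y
      have hn : (n : G) ∈ X.std ⊔ K := by rw [sup_comm, hKs]; exact n.2
      rw [← SetLike.mem_coe, coe_mul_of_right_le_normalizer_left _ _ (show K ≤ normalizer (X.std : Set G) from hKN),
        Set.mem_mul] at hn
      obtain ⟨v, hv, k, hk, e⟩ := hn
      refine ⟨⟨k, hk⟩, QuotientGroup.eq.2 ?_⟩
      rw [mem_subgroupOf]
      show k⁻¹ * (n : G) ∈ X.std
      rw [← e, ← mul_assoc]
      simpa using M22Order.conj_mem_of_mem_normalizer (inv_mem (show k ∈ normalizer (X.std : Set G) from hKN hk)) hv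
  let act0 : ↥M24 →* G := K.subtype.comp (MulEquiv.ofBijective ψ hψ).symm.toMonoidHom
  have hact : ∀ σ, act0 σ ∈ normalizer (X.std : Set G) := fun σ => hKN ((MulEquiv.ofBijective ψ hψ).symm σ).2
  have hφ : ∀ σ, φ (QuotientGroup.mk (⟨act0 σ, hact σ⟩ : ↥(J4V.Split.NV X.std))) = σ := fun σ =>
    (MulEquiv.ofBijective ψ hψ).apply_symm_apply σ
  let emb0 : Word → G := fun w => ((ε w : ↥(J4V.Split.NV X.std)) : G)
  have hconj0 : ∀ (σ : ↥M24) (w : Word), ∑ p, w p = 0 →
      act0 σ * emb0 w * (act0 σ)⁻¹ = emb0 (fun p => w ((σ : Equiv.Perm GolayPt)⁻¹ p)) := by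
    intro σ w hw
    have h := congrArg Subtype.val (hconj ⟨act0 σ, hact σ⟩ w hw)
    rw [hφ] at h
    exact h
  have heven : ∀ s : Finset GolayPt, Even s.card → ∑ p, word s p = 0 := fun s hs => by
    rw [M24Module.Basic.sum_word, ZMod.natCast_eq_zero_iff_even]; exact hs
  have hword : ∀ (σ : ↥M24) (s : Finset GolayPt),
      (fun p => word s ((σ : Equiv.Perm GolayPt)⁻¹ p)) = word ((σ : Equiv.Perm GolayPt) • s) := fun σ s =>
    M24Module.Basic.permW_word _ _
  have hne : ∀ s : Finset GolayPt, 1 ≤ s.card → s.card ≤ 4 → word s ∉ golayCode := by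
    intro s h1 h4 h
    rcases Golay.Basic.weights_supports (M24Module.Basic.word_mem_code.1 h) with e | e | e | e | e <;> omega
  -- pairs are others
  have hzt : {v | v ∈ X.std ∧ IsConj z v}.ncard = 1771 := (X.params hG).2.1
  have hduad : ∀ a b : GolayPt, a ≠ b → emb0 (word {a, b}) ∈ X.DD := by
    intro a b hab
    have he := heven {a, b} (by rw [card_pair hab]; decide)
    refine ⟨hmemG _ he, fun e => hne {a, b} (by rw [card_pair hab]; norm_num)
      (by rw [card_pair hab]; norm_num) ((hone _ he).1 (Subtype.ext e)), fun hz => ?_⟩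
    have hsub : {v | v ∈ X.std ∧ IsConj z v} ⊆
        ↑((powersetCard 2 (univ : Finset GolayPt)).image fun s => emb0 (word s)) := by
      intro v hv
      obtain ⟨n₀, hn₀, e₀⟩ : emb0 (word {a, b}) ∈ {x | ∃ n ∈ normalizer (X.std : Set G), n * z * n⁻¹ = x} := by
        rw [X.zt_orbit hG]; exact ⟨hmemG _ he, hz⟩
      obtain ⟨n₁, hn₁, e₁⟩ : v ∈ {x | ∃ n ∈ normalizer (X.std : Set G), n * z * n⁻¹ = x} := by
        rw [X.zt_orbit hG]; exact hv
      set σ : ↥M24 := φ (QuotientGroup.mk (⟨n₁ * n₀⁻¹, mul_mem hn₁ (inv_mem hn₀)⟩ : ↥(J4V.Split.NV X.std)))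
      refine mem_coe.2 (mem_image.2 ⟨(σ : Equiv.Perm GolayPt) • {a, b}, ?_, ?_⟩)
      · rw [mem_powersetCard, card_smul_finset, card_pair hab]; exact ⟨subset_univ _, rfl⟩
      · have h := congrArg Subtype.val (hconj ⟨n₁ * n₀⁻¹, mul_mem hn₁ (inv_mem hn₀)⟩ _ he)
        rw [show (fun p => word {a, b} ((σ : Equiv.Perm GolayPt)⁻¹ p)) = _ from hword σ _] at h
        rw [← e₁]
        refine h.symm.trans ?_
        show n₁ * n₀⁻¹ * emb0 (word {a, b}) * (n₁ * n₀⁻¹)⁻¹ = _
        rw [← e₀]; group
    have h := Set.ncard_le_ncard hsub (Finset.finite_toSet _)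
    rw [hzt, Set.ncard_coe_finset] at h
    have := h.trans card_image_le
    rw [card_powersetCard, card_univ, show Fintype.card GolayPt = 24 by decide,
      show Nat.choose 24 2 = 276 from rfl] at this
    omega
  -- a set of four is a conjugate of z
  have hqe := heven q (by rw [hq]; decide)
  have hqz : IsConj z (emb0 (word q)) := by
    by_contra hn
    have hDD : emb0 (word q) ∈ X.DD := ⟨hmemG _ hqe,
      fun e => hne q (by omega) (by omega) ((hone _ hqe).1 (Subtype.ext e)), hn⟩
    have hinj : Set.InjOn (fun s => emb0 (word s)) ↑(powersetCard 2 (univ : Finset GolayPt)) := by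
      intro s hs t ht e
      have hs2 := (mem_powersetCard.1 hs).2
      have ht2 := (mem_powersetCard.1 ht).2
      by_contra hst
      have hse := heven s (by rw [hs2]; decide)
      have hte := heven t (by rw [ht2]; decide)
      have h1 : ε (word (symmDiff s t)) = 1 := by
        rw [Golay.Basic.word_symmDiff, hadd _ _ hse hte, Subtype.ext e, ← hadd _ _ hte hte,
          M24Module.Basic.add_self_word]
        exact hcode _ (zero_mem _)
      have hc : (symmDiff s t).card ≤ 4 := by
        refine (card_le_card (show symmDiff s t ⊆ s ∪ t from symmDiff_le_sup)).trans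
          ((card_union_le s t).trans ?_)
        omega
      refine hne _ (card_pos.2 (nonempty_of_ne_empty fun h => hst (symmDiff_eq_bot.1 h))) hc ((hone _ ?_).1 h1)
      rw [Golay.Basic.word_symmDiff]
      simp only [Pi.add_apply, sum_add_distrib, hse, hte, add_zero]
    have himg : ↑((powersetCard 2 (univ : Finset GolayPt)).image fun s => emb0 (word s)) = X.DD := by
      refine Set.eq_of_subset_of_ncard_le ?_ ?_
      · intro v hv
        obtain ⟨s, hs, rfl⟩ := mem_image.1 (mem_coe.1 hv)
        obtain ⟨a, b, hab, rfl⟩ := card_eq_two.1 (mem_powersetCard.1 hs).2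
        exact hduad a b hab
      · rw [Set.ncard_coe_finset, card_image_of_injOn hinj, card_powersetCard, card_univ,
          show Fintype.card GolayPt = 24 by decide]
        exact (X.others_ncard hG).le
    rw [← himg, mem_coe, mem_image] at hDD
    obtain ⟨s, hs, e⟩ := hDD
    have hs2 := (mem_powersetCard.1 hs).2
    have hse := heven s (by rw [hs2]; decide)
    have h1 : ε (word (symmDiff s q)) = 1 := by
      rw [Golay.Basic.word_symmDiff, hadd _ _ hse hqe, Subtype.ext e, ← hadd _ _ hqe hqe,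
        M24Module.Basic.add_self_word]
      exact hcode _ (zero_mem _)
    have hc : (symmDiff s q).card ≤ 6 := by
      refine (card_le_card (show symmDiff s q ⊆ s ∪ q from symmDiff_le_sup)).trans
        ((card_union_le s q).trans ?_)
      omega
    have hpos : 0 < (symmDiff s q).card :=
      card_pos.2 (nonempty_of_ne_empty fun h => by rw [symmDiff_eq_bot.1 h] at hs2; omega)
    have hev : ∑ p, word (symmDiff s q) p = 0 := by
      rw [Golay.Basic.word_symmDiff]; simp only [Pi.add_apply, sum_add_distrib, hse, hqe, add_zero]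
    rcases Golay.Basic.weights_supports (M24Module.Basic.word_mem_code.1 ((hone _ hev).1 h1)) with
      e' | e' | e' | e' | e' <;> omega
  obtain ⟨n, hn, hnz⟩ : emb0 (word q) ∈ {x | ∃ n ∈ normalizer (X.std : Set G), n * z * n⁻¹ = x} := by
    rw [X.zt_orbit hG]; exact ⟨hmemG _ hqe, hqz⟩
  have hni := inv_mem hn
  refine ⟨{
    emb := fun w => n⁻¹ * emb0 w * n
    act := (MulAut.conj n⁻¹).toMonoidHom.comp act0
    add := fun v w hv hw => by
      show n⁻¹ * ((ε (v + w) : ↥(J4V.Split.NV X.std)) : G) * n = _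
      rw [hadd v w hv hw, Subgroup.coe_mul]; simp only [emb0]; group
    mem := fun w hw => by
      have h := M22Order.conj_mem_of_mem_normalizer hni (hmemG w hw)
      rwa [inv_inv] at h
    surj := fun v hv => by
      obtain ⟨w, hw, e⟩ := hsurj ⟨n * v * n⁻¹, mul_mem (mul_mem hn (hle hv)) hni⟩
        (M22Order.conj_mem_of_mem_normalizer hn hv)
      refine ⟨w, hw, ?_⟩
      show n⁻¹ * ((ε w : ↥(J4V.Split.NV X.std)) : G) * n = v
      rw [e]; group
    eq_one := fun w hw => by
      rw [← hone w hw]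
      exact ⟨fun h => Subtype.ext (by
          calc emb0 w = n * (n⁻¹ * emb0 w * n) * n⁻¹ := by group
            _ = _ := by rw [h, mul_one, mul_inv_cancel]; rfl),
        fun h => by show n⁻¹ * ((ε w : ↥(J4V.Split.NV X.std)) : G) * n = 1; rw [h]; simp⟩
    conj := fun σ w hw => by
      show n⁻¹ * act0 σ * n⁻¹⁻¹ * (n⁻¹ * emb0 w * n) * (n⁻¹ * act0 σ * n⁻¹⁻¹)⁻¹ = _
      rw [← hconj0 σ w hw]; group
    act_mem := fun σ => mul_mem (mul_mem hni (hact σ)) (inv_mem hni)
    act_std := fun σ h => by
      have h' : act0 σ ∈ X.std := by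
        have h2 := M22Order.conj_mem_of_mem_normalizer hn
          (show n⁻¹ * act0 σ * n⁻¹⁻¹ ∈ X.std from h)
        rwa [show n * (n⁻¹ * act0 σ * n⁻¹⁻¹) * n⁻¹ = act0 σ by group] at h2
      have h1 : act0 σ = 1 := mem_bot.1 (hKi ▸ mem_inf.2 ⟨((MulEquiv.ofBijective ψ hψ).symm σ).2, h'⟩)
      exact (MulEquiv.ofBijective ψ hψ).symm.injective ((Subtype.ext h1).trans (map_one _).symm)
    dec := fun g hg => by
      set m : ↥(J4V.Split.NV X.std) := ⟨n * g * n⁻¹, mul_mem (mul_mem hn hg) hni⟩ with hm
      set σ : ↥M24 := φ (QuotientGroup.mk m)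
      obtain ⟨w, hw, e⟩ := hsurj (m * (⟨act0 σ, hact σ⟩ : ↥(J4V.Split.NV X.std))⁻¹) (by
        rw [← QuotientGroup.eq_one_iff, QuotientGroup.mk_mul, QuotientGroup.mk_inv, mul_inv_eq_one]
        exact φ.injective (hφ σ).symm)
      refine ⟨w, σ, hw, ?_⟩
      show g = n⁻¹ * ((ε w : ↥(J4V.Split.NV X.std)) : G) * n * (n⁻¹ * act0 σ * n⁻¹⁻¹)
      rw [e]
      show g = n⁻¹ * ((n * g * n⁻¹) * (act0 σ)⁻¹) * n * (n⁻¹ * act0 σ * n⁻¹⁻¹)
      group
    z_eq := by
      show n⁻¹ * emb0 (word q) * n = z
      rw [← hnz]; group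
    duad := fun a b hab => by
      have h := (X.mem_DD_conj hni).2 (hduad a b hab)
      rwa [inv_inv] at h }⟩

end Cfsg.Agent.J4Order
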