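import Cfsg.Agent.Lib.J4Order.Model

/-!
# Janko four type: certificates for the fixed vectors and the image of `1 + s`

`kernOK s c`: a basis of the subgroup whose first members span the fixed vectors of `s` and whose very
first span the image of `1 + s`, with the coordinates in it.
-/

set_option autoImplicit false

namespace Cfsg.Agent.J4Order.Model

open Cfsg Cfsg.Agent.Golay.Basic Cfsg.Agent.Golay.Cert

/-- A certificate: the dimensions of the fixed vectors and of the image, a basis, the coordinates,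
preimages of the image basis, and coordinates of the images of the standard basis. -/
structure Kern where
  d : ℕ
  r : ℕ
  bas : List ℕ
  crd : List ℕ
  pre : List ℕ
  imc : List ℕ

/-- The check of a certificate. -/
def kernOK (s : El) (c : Kern) : Bool :=
  Nat.beq c.bas.length 11 && Nat.beq c.crd.length 11 && Nat.ble c.r c.d && Nat.ble c.d 11 &&
  c.crd.all (fun x => Nat.blt x 2048) && c.bas.all (fun x => Nat.blt x 2048) &&
  (List.range 11).all (fun j =>
    Nat.beq (enc c.bas (c.crd.getD j 0)) (2 ^ j) &&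
      Nat.blt (c.imc.getD j 0) (2 ^ c.r) && Nat.beq (2 ^ j ^^^ ap s (2 ^ j)) (enc c.bas (c.imc.getD j 0))) &&
  (List.range c.d).all (fun i => Nat.beq (ap s (enc c.bas (2 ^ i))) (enc c.bas (2 ^ i))) &&
  (List.range c.r).all (fun i => Nat.blt (c.pre.getD i 0) 2048 &&
    Nat.beq (c.pre.getD i 0 ^^^ ap s (c.pre.getD i 0)) (enc c.bas (2 ^ i))) &&
  (List.range (2 ^ (11 - c.d))).all fun u => Nat.beq u 0 ||
    !Nat.beq (ap s (enc c.bas (u * 2 ^ c.d))) (enc c.bas (u * 2 ^ c.d))

theorem enc_lt_of {L : List ℕ} (h : ∀ x ∈ L, x < 2048) : ∀ a, enc L a < 2048 := by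
  induction L with
  | nil => intro a; simp [enc]
  | cons b bs ih =>
    intro a
    rw [enc]
    refine Nat.xor_lt_two_pow (n := 11) ?_ (ih (fun y hy => h y (List.mem_cons_of_mem _ hy)) _)
    rcases Nat.mod_two_eq_zero_or_one a with e | e <;> rw [e]
    · simp
    · simpa using h b List.mem_cons_self

theorem enc_two_pow : ∀ (L : List ℕ) (i : ℕ), enc L (2 ^ i) = L.getD i 0
  | [], i => by simp [enc]
  | b :: bs, 0 => by simp [enc, enc_zero]
  | b :: bs, i + 1 => by
    rw [enc, Nat.pow_succ', Nat.mul_mod_right, zero_mul, Nat.zero_xor, Nat.mul_div_cancel_left _ (by norm_num),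
      enc_two_pow bs i, List.getD_cons_succ]

/-- A property closed under sums holds below a power of two. -/
theorem xor_induction {n : ℕ} (Q : ℕ → Prop) (h0 : Q 0) (hx : ∀ a b, Q a → Q b → Q (a ^^^ b))
    (hb : ∀ i < n, Q (2 ^ i)) : ∀ a < 2 ^ n, Q a := by
  induction n with
  | zero => intro a ha; rw [show a = 0 by omega]; exact h0
  | succ n ih =>
    intro a ha
    have ih' := ih fun i hi => hb i (by omega)
    by_cases h : a < 2 ^ n
    · exact ih' a h
    · have e : a ^^^ 2 ^ n < 2 ^ n := by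
        refine Nat.lt_pow_two_of_testBit _ fun i hi => ?_
        rw [Nat.testBit_xor, Nat.testBit_two_pow]
        by_cases hin : i = n
        · subst hin
          have : a.testBit i = true := by
            obtain ⟨j, hj, hj'⟩ := Nat.exists_ge_and_testBit_of_ge_two_pow (Nat.le_of_not_lt h)
            rcases eq_or_lt_of_le hj with rfl | hlt
            · exact hj'
            · rw [Nat.testBit_lt_two_pow (lt_of_lt_of_le ha (Nat.pow_le_pow_right (by norm_num) hlt))] at hj'
              exact absurd hj' (by simp)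
          simp [this]
        · rw [Nat.testBit_lt_two_pow (lt_of_lt_of_le ha (Nat.pow_le_pow_right (by norm_num) (by omega)))]
          simp [Ne.symm hin]
      have := hx _ _ (ih' _ e) (hb n (by omega))
      rwa [Nat.xor_assoc, Nat.xor_self, Nat.xor_zero] at this

theorem kern_spec {s : El} {c : Kern} (h : kernOK s c = true) {a : ℕ} (ha : a < 2048) :
    enc c.bas (enc c.crd a) = a ∧
      (ap s a = a ↔ enc c.crd a < 2 ^ c.d) ∧ ((imMask s).testBit a = true ↔ enc c.crd a < 2 ^ c.r) := by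
  simp only [kernOK, Bool.and_eq_true, List.all_eq_true, List.mem_range, Nat.blt_eq, Nat.ble_eq,
    Bool.or_eq_true, Bool.not_eq_true'] at h
  obtain ⟨⟨⟨⟨⟨⟨⟨⟨⟨hlb, hlc⟩, hrd⟩, hd⟩, hcl⟩, hbl⟩, hj⟩, hfix⟩, hpre⟩, hout⟩ := h
  have hsec : ∀ x < 2 ^ 11, enc c.bas (enc c.crd x) = x := xor_induction _ (by rw [enc_zero, enc_zero])
    (fun p q hp hq => by rw [enc_xor, enc_xor, hp, hq]) fun i hi => by
      have e := Nat.eq_of_beq_eq_true (hj i hi).1.1
      have hs : enc c.crd (2 ^ i) = c.crd.getD i 0 := enc_two_pow _ _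
      rw [hs]; exact e
  have hbij : Function.Bijective (fun m : Fin 2048 => (⟨enc c.bas m.1, enc_lt_of hbl _⟩ : Fin 2048)) := by
    rw [← Finite.surjective_iff_bijective]
    intro x
    exact ⟨⟨enc c.crd x.1, enc_lt_of hcl _⟩, Fin.ext (hsec x.1 x.2)⟩
  have hinj : ∀ m < 2048, ∀ m' < 2048, enc c.bas m = enc c.bas m' → m = m' := fun m hm m' hm' e =>
    congrArg Fin.val (hbij.1 (a₁ := ⟨m, hm⟩) (a₂ := ⟨m', hm'⟩) (Fin.ext e))
  have hfx : ∀ k < 2 ^ c.d, ap s (enc c.bas k) = enc c.bas k := xor_induction _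
    (by rw [enc_zero, show ap s 0 = 0 from enc_zero _])
    (fun p q hp hq => by rw [enc_xor, ap_xor, hp, hq]) fun i hi => Nat.eq_of_beq_eq_true (hfix i hi)
  set m := enc c.crd a with hm
  have hm2 : m < 2048 := enc_lt_of hcl a
  have ea : enc c.bas m = a := hsec a ha
  refine ⟨ea, ⟨fun hap => ?_, fun hlt => by rw [← ea]; exact hfx m hlt⟩, ?_, ?_⟩
  · by_contra hge
    push Not at hge
    have hu0 : m / 2 ^ c.d ≠ 0 := Nat.div_ne_zero_iff.2 ⟨(Nat.two_pow_pos _).ne', hge⟩
    have hu : m / 2 ^ c.d < 2 ^ (11 - c.d) := by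
      rw [Nat.div_lt_iff_lt_mul (Nat.two_pow_pos _), ← pow_add, Nat.sub_add_cancel hd]
      exact hm2
    have hlo : m % 2 ^ c.d < 2 ^ c.d := Nat.mod_lt _ (Nat.two_pow_pos _)
    have hsplit : m = m % 2 ^ c.d ^^^ m / 2 ^ c.d * 2 ^ c.d := by
      refine Nat.eq_of_testBit_eq fun i => ?_
      rw [Nat.testBit_xor, Nat.testBit_mod_two_pow, Nat.testBit_mul_two_pow, Nat.testBit_div_two_pow]
      by_cases hi : i < c.d
      · simp [hi, Nat.not_le.2 hi]
      · simp [hi, Nat.le_of_not_lt hi, show i - c.d + c.d = i by omega]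
    rcases hout _ hu with h0 | h1
    · exact hu0 (Nat.eq_of_beq_eq_true h0)
    · have e1 := hfx _ hlo
      rw [← ea, hsplit, enc_xor, ap_xor, e1] at hap
      rw [Nat.xor_right_inj.1 hap, Nat.beq_refl] at h1
      exact Bool.noConfusion h1
  · intro ht
    rw [imMask, testBit_maskOf, List.contains_iff_mem, List.mem_map] at ht
    obtain ⟨x, hx, e⟩ := ht
    have hq : ∀ y < 2 ^ 11, ∃ q < 2 ^ c.r, y ^^^ ap s y = enc c.bas q := xor_induction _
      ⟨0, Nat.two_pow_pos _, by simp [ap, enc_zero]⟩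
      (fun p q ⟨u, hu, eu⟩ ⟨v, hv, ev⟩ => ⟨u ^^^ v, Nat.xor_lt_two_pow hu hv, by
        rw [enc_xor, ← eu, ← ev, ap_xor]
        ac_rfl⟩) fun i hi => ⟨_, (hj i hi).1.2, Nat.eq_of_beq_eq_true (hj i hi).2⟩
    obtain ⟨q, hq, eq⟩ := hq x (List.mem_range.1 hx)
    have hq2 : q < 2048 := lt_of_lt_of_le hq (Nat.pow_le_pow_right (by norm_num) (le_trans hrd hd))
    rw [hinj m hm2 q hq2 (ea.trans (e ▸ eq))]
    exact hq
  · intro hlt
    have hall : ∀ k < 2 ^ c.r, ∃ x < 2048, x ^^^ ap s x = enc c.bas k := xor_induction _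
      ⟨0, by norm_num, by simp [ap, enc_zero]⟩
      (fun p q ⟨u, hu, eu⟩ ⟨v, hv, ev⟩ => ⟨u ^^^ v, Nat.xor_lt_two_pow (n := 11) hu hv, by
        rw [enc_xor, ← eu, ← ev, ap_xor]
        ac_rfl⟩) fun i hi => ⟨_, (hpre i hi).1, Nat.eq_of_beq_eq_true (hpre i hi).2⟩
    obtain ⟨x, hx, e⟩ := hall m hlt
    rw [imMask, testBit_maskOf, List.contains_iff_mem, List.mem_map]
    exact ⟨x, List.mem_range.2 hx, e.trans ea⟩

end Cfsg.Agent.J4Order.Model
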