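import Cfsg.Agent.Lib.J4Order.Types
import Cfsg.Agent.Lib.J4Order.Hexads
import Cfsg.Agent.Lib.J4V.Local

/-!
# Janko four type: the element of order three of `O(2, 3)(H)` in the model

Modulo `E` it acts as the listed element of order three fixing the tetrads, or its inverse.

* `five_form`: the vectors of degree five in the model;
* `exists_line_eq`.
-/

set_option autoImplicit false
set_option maxRecDepth 20000
set_option linter.style.haveILetI false
set_option linter.unusedSectionVars false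

namespace Cfsg.Agent.J4V.Invol

open Subgroup
open Cfsg Cfsg.Agent.Golay.Basic Cfsg.Agent.Golay.Cert Cfsg.Agent.Golay.TabList
open Cfsg.Agent.Golay.M24
open Cfsg.Agent.J4Local Cfsg.Agent.J4Eleven
open Cfsg.Agent.J4V.Split (NV VN)
open Cfsg.Agent.M24CocodeSplit.Checks (imgChk)
open Checks

universe u

/-- Elements of odd order fixing the sextet, commuting with the one of order three and moving the first tetrad. -/
def movers : List (ℕ × List ℕ × ℕ) := [
  (0x6390aa9ec36c449012f32c25433d61, [391, 1159, 1287, 1240, 1415, 682, 1915, 969, 1086, 1479, 615], 3),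
  (0x1a893952b6025ac5c10eb98b13bc22, [3, 6, 2, 1143, 10, 1839, 820, 130, 258, 443, 1026], 3),
  (0x92ad31d68409c4c5de2e818a84bc0d, [430, 1630, 2039, 571, 1400, 355, 1606, 1742, 1870, 1614, 590], 5),
  (0x3caa9716267a9b414d901a2c4b802b, [5, 4, 6, 445, 1411, 2020, 68, 727, 12, 347, 36], 3),
  (0x3c232a4c8a121ac5d9c9198b5b802f, [5, 4, 6, 20, 1137, 2020, 1950, 132, 260, 727, 1028], 3)]

/-- The pairs in tetrads. -/
def fives : List ℕ := duads.filter fun x => duads.contains (x ^^^ Data.sigma)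

/-- The first of them. -/
def fiveZero : ℕ :=
  match Data.tet.getD 0 (0, 0, 0, 0) with | (a, b, _, _) => vx a b

/-- The three of the first tetrad. -/
def fiveBase : List ℕ := [fiveZero, enc Data.rI fiveZero, enc Data.rI (enc Data.rI fiveZero)]

/-- The powers of a table. -/
def powT (t : ℕ) : ℕ → ℕ
  | 0 => idTab
  | n + 1 => mulTab t (powT t n)

/-- The movers are as said. -/
def moverOK : Bool :=
  movers.all fun m => imgChk m.1 m.2.1 && Nat.beq (enc m.2.1 Data.sigma) Data.sigma &&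
    Nat.beq (m.2.2 % 2) 1 && Nat.beq (powT m.1 m.2.2) idTab && Nat.beq (mulTab m.1 Data.rT) (mulTab Data.rT m.1)

theorem moverOK_eq : moverOK = true := by decide +kernel

/-- The movers reach all pairs in tetrads from the first tetrad. -/
def moverCover : Bool :=
  fives.all fun x => fiveBase.any fun y => same x y || movers.any fun m => same x (enc m.2.1 y)

theorem moverCover_eq : moverCover = true := by decide +kernel

/-- The first tetrad's pairs are as said. -/
def baseOK : Bool :=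
  Nat.beq (powT Data.rT 3) idTab && imgChk Data.rT Data.rI && fiveBase.all (fun y => fives.contains y) &&
    fives.contains fiveZero && !same fiveZero (enc Data.rI fiveZero) &&
    fives.contains (fiveZero ^^^ enc Data.rI fiveZero)

theorem baseOK_eq : baseOK = true := by decide +kernel

theorem fives_lt {x : ℕ} (hx : x ∈ fives) : x < 2048 :=
  duads_facts.2.2.2.2.2.2 x (List.mem_filter.1 hx).1

namespace Model

variable {G : Type u} [Group G] [Finite G] {z : G} {P : Subgroup G} {X : Chart z P} (M : Model X)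

theorem tab_pow {t : ℕ} {g : G} (h : M.Tab t g) : ∀ n, M.Tab (powT t n) (g ^ n)
  | 0 => by rw [pow_zero, powT]; exact M.tab_one
  | n + 1 => by rw [pow_succ', powT]; exact h.mul (tab_pow h n)

/-- The element of order three fixing the tetrads. -/
noncomputable def kR : G := (M.exists_K (show tabOK Data.rT = true by decide +kernel)).choose

theorem kR_mem : M.kR ∈ M.K ∧ M.Tab Data.rT M.kR :=
  (M.exists_K (show tabOK Data.rT = true by decide +kernel)).choose_spec

theorem rI_chk : imgChk Data.rT Data.rI = true := by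
  have h := baseOK_eq
  simp only [baseOK, Bool.and_eq_true] at h
  exact h.1.1.1.1.2

theorem kR_pow : M.kR ^ 3 = 1 := by
  have h := baseOK_eq
  simp only [baseOK, Bool.and_eq_true] at h
  have ht := M.tab_pow M.kR_mem.2 3
  rw [Nat.eq_of_beq_eq_true h.1.1.1.1.1] at ht
  exact M.K_eq (pow_mem M.kR_mem.1 3) (one_mem _) ht M.tab_one

variable [IsSimpleGroup G] (hG : ¬ IsMulCommutative G)

theorem kR_HH : M.kR ∈ HH z := by
  have h := threeOK_eq
  simp only [threeOK, Bool.and_eq_true] at h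
  exact M.conj_EE_of_fix h.1.1.1 M.kR_mem.2 (Nat.eq_of_beq_eq_true h.1.1.2)

theorem kR_H0 : M.kR ∈ H0 z P :=
  J4Order.mem_H0_of_odd X M.kR_HH (Odd.of_dvd_nat (by decide) (orderOf_dvd_of_pow_eq_one M.kR_pow))

include hG

theorem five_lift {x : ℕ} (hx : x ∈ fives) :
    M.iv x ∈ preV X.L.J X.WV ∧ vk z (M.iv x) ∈ X.five := by
  refine (X.pair_z hG).1 ?_
  obtain ⟨h1, h2⟩ := List.mem_filter.1 hx
  have key : ∀ y ∈ duads, M.iv y ∈ X.DD := fun y hy => by
    have h : M.iv y ∈ M.duadSet := ⟨y, hy, rfl⟩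
    rw [← M.others_eq hG] at h
    exact h
  refine ⟨key x h1, ?_⟩
  rw [show M.iv x * z = M.iv (x ^^^ Data.sigma) by rw [M.iv_xor, M.hz]]
  exact key _ (by simpa using h2)

theorem five_form {w : VV z} (hw : w ∈ X.five) : ∃ x ∈ fives, vk z (M.iv x) = w := by
  obtain ⟨y, hy, rfl⟩ := vk_surj w
  have hyW : y ∈ preV X.L.J X.WV := ⟨hy, hw.1⟩
  obtain ⟨h1, h2⟩ := (X.pair_z hG).2 ⟨hyW, hw⟩
  have hset : ∀ v ∈ X.DD, ∃ x ∈ duads, M.iv x = v := fun v hv => by
    have h : v ∈ {v | v ∈ X.std ∧ v ≠ 1 ∧ ¬ IsConj z v} := hv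
    rw [M.others_eq hG] at h
    exact h
  obtain ⟨x, hx, rfl⟩ := hset y h1
  obtain ⟨x', hx', e⟩ := hset _ h2
  rw [show M.iv x * z = M.iv (x ^^^ Data.sigma) by rw [M.iv_xor, M.hz]] at e
  have := M.iv_inj (duads_facts.2.2.2.2.2.2 x' hx')
    (Nat.xor_lt_two_pow (n := 11) (duads_facts.2.2.2.2.2.2 x hx) duads_facts.2.2.2.2.1) e
  exact ⟨x, List.mem_filter.2 ⟨hx, by simpa [← this] using hx'⟩, rfl⟩

theorem vk_same {x y : ℕ} (hy : M.iv y ∈ EE z) (h : same x y = true) : vk z (M.iv x) = vk z (M.iv y) := by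
  simp only [same, Bool.or_eq_true] at h
  rcases h with h | h
  · rw [Nat.eq_of_beq_eq_true h]
  · rw [Nat.eq_of_beq_eq_true h, M.iv_xor, M.hz, X.vk_mul_z hy]

theorem act_kR (x : ℕ) (hx : M.iv x ∈ EE z) : act z M.kR (vk z (M.iv x)) = vk z (M.iv (enc Data.rI x)) := by
  rw [act_vk M.kR_HH hx, M.conj_iv rI_chk M.kR_mem.2]

set_option maxHeartbeats 600000 in
theorem fixes_of_act {y : G} (hy : y ∈ NV X.std) (hyH : y ∈ HH z)
    (hact : ∀ w ∈ X.five, act z y w = w) : Fixes (pim ((M.pr ⟨y, hy⟩ : ↥M24) : Equiv.Perm GolayPt)) := by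
  rintro ⟨a, b, c, d⟩ hq
  obtain ⟨q1, q2, q3, w1, w2, w3⟩ := tet_spec hq
  set f := pim ((M.pr ⟨y, hy⟩ : ↥M24) : Equiv.Perm GolayPt) with hf
  have key : ∀ {p q r s}, quadOK p q r s = true → inW (vx p q) = true →
      (f p = p ∧ f q = q) ∨ (f p = q ∧ f q = p) ∨ (f p = r ∧ f q = s) ∨ (f p = s ∧ f q = r) := by
    intro p q r s h hw
    obtain ⟨hp, hq, hr, hs, hpq, hrs, he'⟩ := quadOK_spec h
    have hne : f p ≠ f q := fun e' => hpq (pim_inj _ hp hq e')
    have hfive : vx p q ∈ fives := List.mem_filter.2 ⟨mem_duads hp hq hpq, by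
      show duads.contains (vx p q ^^^ Data.sigma) = true
      rw [he']; exact List.contains_iff_mem.2 (mem_duads hr hs hrs)⟩
    have hE := M.iv_EE hG hw
    have h0 := hact _ (M.five_lift hG hfive).2
    rw [act_vk hyH hE] at h0
    have h1 := (vk_eq_vk_iff X.L.J (conj_mem_EE hyH hE) hE).1 h0
    rw [M.conj_pair hy hp hq] at h1
    have hlt : vx (f p) (f q) < 2048 := duads_facts.2.2.2.2.2.2 _ (mem_duads (ix_lt _) (ix_lt _) hne)
    have hlt' : vx p q < 2048 := fives_lt hfive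
    rcases h1 with h1 | h1
    · rcases pair_inj (ix_lt _) (ix_lt _) hp hq hne hpq (M.iv_inj hlt hlt' h1) with h' | h'
      exacts [Or.inl h', Or.inr (Or.inl h')]
    · rw [show M.iv (vx p q) * z = M.iv (vx p q ^^^ Data.sigma) by rw [M.iv_xor, M.hz], he'] at h1
      rcases pair_inj (ix_lt _) (ix_lt _) hr hs hne hrs
        (M.iv_inj hlt (duads_facts.2.2.2.2.2.2 _ (mem_duads hr hs hrs)) h1) with h' | h'
      exacts [Or.inr (Or.inr (Or.inl h')), Or.inr (Or.inr (Or.inr h'))]
  obtain ⟨ha, hb, hc, hd, hab, hcd, -⟩ := quadOK_spec q1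
  obtain ⟨-, -, -, -, hac, hbd, -⟩ := quadOK_spec q2
  obtain ⟨-, -, -, -, had, hbc, -⟩ := quadOK_spec q3
  apply v4_of_cases
  rcases key q1 w1 with ⟨x1, x2⟩ | ⟨x1, x2⟩ | ⟨x1, x2⟩ | ⟨x1, x2⟩ <;>
    rcases key q2 w2 with ⟨y1, y2⟩ | ⟨y1, y2⟩ | ⟨y1, y2⟩ | ⟨y1, y2⟩ <;>
    rcases key q3 w3 with ⟨u1, u2⟩ | ⟨u1, u2⟩ | ⟨u1, u2⟩ | ⟨u1, u2⟩ <;> omega

/-- The two agree modulo `E`. -/
theorem exists_line_eq : ∃ e : ℕ, (e = 1 ∨ e = 2) ∧ ∀ v : VV z, act z X.pp v = act z (M.kR ^ e) v := by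
  have hJ := X.L.J
  obtain ⟨hb1, hb2⟩ : (fiveBase.all fun y => fives.contains y) = true ∧
      ((!same fiveZero (enc Data.rI fiveZero)) = true ∧
        fives.contains (fiveZero ^^^ enc Data.rI fiveZero) = true ∧ fives.contains fiveZero = true) := by
    have h := baseOK_eq
    simp only [baseOK, Bool.and_eq_true] at h
    exact ⟨h.1.1.1.2, h.1.2, h.2, h.1.1.2⟩
  obtain ⟨hne, hsum, h0m⟩ := hb2
  simp only [List.all_eq_true, List.contains_iff_mem] at hb1
  have h0 : fiveZero ∈ fives := by simpa using h0m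
  have hy1 : enc Data.rI fiveZero ∈ fives := hb1 _ (by simp [fiveBase])
  have hy2 : enc Data.rI (enc Data.rI fiveZero) ∈ fives := hb1 _ (by simp [fiveBase])
  have hE : ∀ {x}, x ∈ fives → M.iv x ∈ EE z := fun hx => (M.five_lift hG hx).1.1
  set w0 := vk z (M.iv fiveZero) with hw0
  have hw5 : w0 ∈ X.five := (M.five_lift hG h0).2
  set π := M.kR with hπ
  set p := X.pp with hpdef
  have hπH := M.kR_HH
  have hpH : p ∈ HH z := hJ.P_le_HH X.pp_mem
  have hcomm : ∀ v, act z π (act z p v) = act z p (act z π v) := fun v =>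
    act_inner hJ M.kR_H0 X.pp_mem v
  have h1 : act z π w0 = vk z (M.iv (enc Data.rI fiveZero)) := M.act_kR hG _ (hE h0)
  have hne1 : act z π w0 ≠ w0 := fun e => by
    rw [h1] at e
    rcases (vk_eq_vk_iff hJ (hE hy1) (hE h0)).1 e with r | r
    · have := M.iv_inj (fives_lt hy1) (fives_lt h0) r
      rw [this] at hne
      simp [same] at hne
    · rw [show M.iv fiveZero * z = M.iv (fiveZero ^^^ Data.sigma) by rw [M.iv_xor, M.hz]] at r
      have := M.iv_inj (fives_lt hy1)
        (Nat.xor_lt_two_pow (n := 11) (fives_lt h0) duads_facts.2.2.2.2.1) r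
      simp only [same, Bool.not_eq_true', Bool.or_eq_false_iff] at hne
      rw [this, Nat.xor_assoc, Nat.xor_self, Nat.xor_zero] at hne
      simp at hne
  have hπ5 : act z π w0 ∈ X.five := by rw [h1]; exact (M.five_lift hG hy1).2
  have hln : act z π w0 ∈ X.ln w0 := by
    by_contra hnot
    refine X.five_add hw5 hπ5 hnot ?_
    rw [hw0, ← hw0, h1, hw0, ← vk_mul (hE h0) (hE hy1), ← M.iv_xor]
    exact (M.five_lift hG (by simpa using hsum)).2
  have h3π : ∀ v, act z π (act z π (act z π v)) = v := fun v => by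
    rw [← act_mul hπH hπH, ← act_mul (mul_mem hπH hπH) hπH, ← pow_two, ← pow_succ, M.kR_pow, act_one]
  have h3p : ∀ v, act z p (act z p (act z p v)) = v := fun v => by
    rw [← act_mul hpH hpH, ← act_mul (mul_mem hpH hpH) hpH, ← pow_two, ← pow_succ, pow_three_eq_one hJ X.pp_mem, act_one]
  have hpne : act z p w0 ≠ w0 := fun e => hw5.2.1 (act_fpf hJ X.pp_mem X.pp_ne e)
  -- agreement on the first vector
  obtain ⟨e, he, hew⟩ : ∃ e : ℕ, (e = 1 ∨ e = 2) ∧ act z p w0 = act z (π ^ e) w0 := by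
    rcases (mem_line hJ).1 hln with r | r | r | r
    · exact absurd r (hπ5.2.1)
    · exact absurd r hne1
    · exact ⟨1, Or.inl rfl, by rw [pow_one, r]⟩
    · refine ⟨2, Or.inr rfl, ?_⟩
      have hpp : act z p (act z p w0) = act z π w0 := by
        rw [r, act_act hJ X.pp_mem X.pp_ne]
      rw [pow_two, act_mul hπH hπH, ← hpp, hcomm, hcomm, ← hpp, h3p]
  refine ⟨e, he, ?_⟩
  set y := π ^ e * p * p with hy
  have hπeH : π ^ e ∈ HH z := pow_mem hπH e
  have hyH : y ∈ HH z := mul_mem (mul_mem hπeH hpH) hpH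
  have hyN : y ∈ NV X.std :=
    mul_mem (mul_mem (pow_mem (M.hK M.kR_mem.1) e) (X.NC_normalizer (X.P_le_NC X.pp_mem)))
      (X.NC_normalizer (X.P_le_NC X.pp_mem))
  have hyH0 : y ∈ H0 z P := mul_mem (mul_mem (pow_mem M.kR_H0 e) (CC_le_H0 z P (hJ.P_le_CC X.pp_mem)))
    (CC_le_H0 z P (hJ.P_le_CC X.pp_mem))
  have hyact : ∀ v, act z y v = act z (π ^ e) (act z p (act z p v)) := fun v => by
    rw [hy, act_mul (mul_mem hπeH hpH) hpH, act_mul hπeH hpH]
  have hy0 : act z y w0 = w0 := by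
    rw [hyact, act_inner hJ (pow_mem M.kR_H0 e) X.pp_mem, act_inner hJ (pow_mem M.kR_H0 e) X.pp_mem, ← hew, h3p]
  have hcy : ∀ v, act z y (act z π v) = act z π (act z y v) := fun v => by
    have hpe : ∀ v, act z (π ^ e) (act z π v) = act z π (act z (π ^ e) v) := fun v => by
      rw [← act_mul hπeH hπH, ← act_mul hπH hπeH, ← pow_succ, ← pow_succ']
    rw [hyact, hyact, ← hcomm, ← hcomm, hpe]
  have hbase : ∀ x ∈ fiveBase, act z y (vk z (M.iv x)) = vk z (M.iv x) := by
    intro x hx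
    simp only [fiveBase, List.mem_cons, List.not_mem_nil, or_false] at hx
    rcases hx with rfl | rfl | rfl
    · exact hy0
    · rw [← M.act_kR hG _ (hE h0), hcy, hy0]
    · rw [← M.act_kR hG _ (hE hy1), hcy, ← M.act_kR hG _ (hE h0), hcy, hy0]
  have hfive : ∀ w ∈ X.five, act z y w = w := by
    intro w hw
    obtain ⟨x, hx, rfl⟩ := M.five_form hG hw
    have hc := moverCover_eq
    simp only [moverCover, List.all_eq_true, List.any_eq_true, Bool.or_eq_true] at hc
    obtain ⟨b, hb, hsame⟩ := hc x hx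
    have hbf := hb1 b hb
    rcases hsame with hs | ⟨m, hm, hs⟩
    · rw [M.vk_same hG (hE hbf) hs]; exact hbase b hb
    · have hmo := moverOK_eq
      simp only [moverOK, List.all_eq_true, Bool.and_eq_true] at hmo
      obtain ⟨⟨⟨⟨hc1, hc2⟩, hc3⟩, hc4⟩, hc5⟩ := hmo m hm
      obtain ⟨g, hgK, hgT⟩ := M.exists_K (t := m.1) (by
        simp only [imgChk, Bool.and_eq_true] at hc1; exact hc1.1.1.1)
      have hgH := M.conj_EE_of_fix hc1 hgT (Nat.eq_of_beq_eq_true hc2)
      have hgn : g ^ m.2.2 = 1 := by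
        have ht := M.tab_pow hgT m.2.2
        rw [Nat.eq_of_beq_eq_true hc4] at ht
        exact M.K_eq (pow_mem hgK _) (one_mem _) ht M.tab_one
      have hg0 : g ∈ H0 z P := J4Order.mem_H0_of_odd X hgH
        (Odd.of_dvd_nat (Nat.odd_iff.2 (Nat.eq_of_beq_eq_true hc3)) (orderOf_dvd_of_pow_eq_one hgn))
      have hgπ : g * π = π * g := M.K_eq (mul_mem hgK M.kR_mem.1) (mul_mem M.kR_mem.1 hgK)
        (hgT.mul M.kR_mem.2) (by rw [Nat.eq_of_beq_eq_true hc5]; exact M.kR_mem.2.mul hgT)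
      have hgE : M.iv (enc m.2.1 b) ∈ EE z := by
        rw [← M.conj_iv hc1 hgT]; exact conj_mem_EE hgH (hE hbf)
      rw [M.vk_same hG hgE hs, ← M.conj_iv hc1 hgT, ← act_vk hgH (hE hbf)]
      have hge : ∀ v, act z (π ^ e) (act z g v) = act z g (act z (π ^ e) v) := fun v => by
        rw [← act_mul hπeH hgH, ← act_mul hgH hπeH, (show Commute g π from hgπ).pow_right e |>.eq]
      have hgy : ∀ v, act z y (act z g v) = act z g (act z y v) := fun v => by
        rw [hyact, hyact, ← act_inner hJ hg0 X.pp_mem, ← act_inner hJ hg0 X.pp_mem, hge]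
      rw [hgy, hbase b hb]
  have hfix := M.fixes_of_act hG hyN hyH hfive
  have hm : M.pr ⟨y, hyN⟩ ∈ fixSet := hfix
  rw [fixSet_eq] at hm
  obtain ⟨i, hi, hT⟩ := hm
  obtain ⟨a, -, k, hk, hyk⟩ := M.decomp hyN
  have hkT : M.Tab (oT i) (M.iv a * k) := hyk ▸ ⟨hyN, hT⟩
  have hkE := M.fix_mem_EE hG hi hk (M.tab_right hk hkT)
  have haH : M.iv a ∈ HH z := mem_HH.2 (X.std_eleven.comm _ (M.iv_mem a) _ X.z_mem_std)
  have hsq : ∀ v, act z y (act z y v) = v := fun v => by
    rw [hyk, act_mul_EE hJ haH hkE, act_mul_EE hJ haH hkE, ← act_mul haH haH, M.iv_sq, act_one]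
  have hcube : ∀ v, act z y (act z y (act z y v)) = v := fun v => by
    have hp_e : ∀ v, act z p (act z (π ^ e) v) = act z (π ^ e) (act z p v) := fun v =>
      (act_inner hJ (pow_mem M.kR_H0 e) X.pp_mem v).symm
    have he3 : ∀ v, act z (π ^ e) (act z (π ^ e) (act z (π ^ e) v)) = v := fun v => by
      rw [← act_mul hπeH hπeH, ← act_mul (mul_mem hπeH hπeH) hπeH, ← pow_two, ← pow_succ, ← pow_mul, mul_comm, pow_mul,
        M.kR_pow, one_pow, act_one]
    simp only [hyact, hp_e]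
    rw [he3, h3p, h3p]
  intro v
  have hv : act z y (act z p v) = act z p v := by
    have := hcube (act z p v)
    rwa [hsq] at this
  rw [hyact, h3p] at hv
  exact hv.symm

end Model

end Cfsg.Agent.J4V.Invol
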