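import Cfsg.Agent.Lib.J4Order.SiChecks

/-!
# Janko four type: the elements of the list are good
-/

set_option autoImplicit false
set_option maxRecDepth 20000

namespace Cfsg.Agent.J4Order.SiSpec

theorem listOK_eq : listOK = true := by decide +kernel

end Cfsg.Agent.J4Order.SiSpec
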