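import Cfsg.Agent.Lib.J4Order.Complete
import Cfsg.Agent.Lib.J4Order.Dict
import Cfsg.Agent.Lib.J4Order.BridgeT
import Cfsg.Agent.Lib.J4Order.SiListOK

/-!
# Janko four type: the elements of order at most two of the stabiliser of the sextet in the model

* `spec_Si`: the list is as the dictionary asks;
* `pair_sum`: a sum over pairs of a function invariant under the stabiliser, from 253 values.
-/

set_option autoImplicit false
set_option maxRecDepth 20000

namespace Cfsg.Agent.J4Order.SiSpec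

open Cfsg Cfsg.Agent.Golay.Basic Cfsg.Agent.Golay.Cert Cfsg.Agent.Golay.TabList
open Cfsg.Agent.Golay.M24
open Cfsg.Agent.J4Order.Model

theorem e_mem {i : ℕ} (hi : i < num) : e i ∈ Si := List.mem_map.2 ⟨i, List.mem_range.2 hi, rfl⟩

theorem mem_Si {s : El} : s ∈ Si ↔ ∃ i < num, e i = s := by
  simp [Si]

theorem list_facts {i : ℕ} (hi : i < num) :
    elOK (e i) = true ∧ Nat.beq (mulTab (e i).1 (e i).1) idTab = true ∧ (i + 1 < num → (e i).1 < (e (i + 1)).1) := by
  have h := listOK_eq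
  simp only [listOK, List.all_eq_true, List.mem_range, Bool.and_eq_true, Bool.or_eq_true, Nat.blt_eq] at h
  obtain ⟨⟨h1, h2⟩, h3⟩ := h i hi
  refine ⟨h1, h2, fun hlt => ?_⟩
  rcases h3 with h3 | h3
  · have := Nat.eq_of_beq_eq_true h3; omega
  · exact h3

theorem e_ok {i : ℕ} (hi : i < num) : elOK (e i) = true := (list_facts hi).1

theorem e_mono : ∀ {j : ℕ}, j < num → ∀ i < j, (e i).1 < (e j).1
  | 0, _, i, h => absurd h (Nat.not_lt_zero i)
  | j + 1, hj, i, hi => by
    have h := (list_facts (i := j) (by omega)).2.2 hj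
    rcases Nat.lt_succ_iff_lt_or_eq.1 hi with h' | rfl
    · exact (e_mono (by omega) i h').trans h
    · exact h

/-- What invariance is asked. -/
def Inv (Φ : El → El → ℕ) : Prop :=
  ∀ g : El × El, genOK zv g = true → ∀ s ∈ Si, ∀ s2 ∈ Si, ∀ u ∈ Si, ∀ u2 ∈ Si,
    tabConj g.1.1 s.1 u.1 = true → tabConj g.1.1 s2.1 u2.1 = true → Φ u u2 = Φ s s2

/-- A sum over pairs from the roots. -/
theorem pair_sum {Φ : El → El → ℕ} (h : Inv Φ) :
    ∑ i ∈ Finset.range num, ∑ j ∈ Finset.range num, Φ (e i) (e j) = pairVal Φ := by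
  have hg := genCert_eq
  simp only [genCert, Bool.and_eq_true, List.all_eq_true] at hg
  obtain ⟨⟨⟨⟨hgen, hblk⟩, hlen⟩, hlen'⟩, hpim⟩ := hg
  have hlen2 := Nat.eq_of_beq_eq_true hlen
  have hlen3 := Nat.eq_of_beq_eq_true hlen'
  rw [orbit_sum (isFull_eq hblk) (fun i => ∑ j ∈ Finset.range num, Φ (e i) (e j)) ?_]
  · have e1 : SiData.outer = (SiData.outer.zip inners).map Prod.fst :=
      (List.map_fst_zip (le_of_eq hlen3)).symm
    rw [blocksVal, pairVal]
    conv_lhs => rw [e1, List.map_map]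
    refine congrArg List.sum (List.map_congr_left fun q hq => ?_)
    have hi := innerCert_eq
    simp only [innerCert, List.all_eq_true, Bool.and_eq_true, Nat.blt_eq] at hi
    obtain ⟨⟨hr, hgs⟩, hb⟩ := hi q hq
    show _ * _ = _ * _
    rw [orbit_sum (isFull_eq hb) (fun j => Φ (e q.1.1) (e j)) ?_]
    intro g hg' p hp c hc hc'
    exact h g (hgs g hg').1 _ (e_mem hr) _ (e_mem hp) _ (e_mem hr) _ (e_mem hc) (hgs g hg').2 hc'
  · intro g hg' p hp c hc hc'
    obtain ⟨k, hk, rfl⟩ := List.mem_iff_getElem.1 hg'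
    have hk' : k < SiData.pims.length := hlen2 ▸ hk
    have hz : (SiData.gens[k], SiData.pims[k]) ∈ SiData.gens.zip SiData.pims :=
      List.mem_iff_getElem.2 ⟨k, by simp only [List.length_zip]; omega, List.getElem_zip⟩
    obtain ⟨hl, hchk⟩ := hpim _ hz
    refine perm_sum (isFull_eq hchk) (Nat.eq_of_beq_eq_true hl) fun i hi c' hc'' hcc => ?_
    exact h _ (hgen _ hg') _ (e_mem hp) _ (e_mem hi) _ (e_mem hc) _ (e_mem hc'') hc' hcc

theorem Si_ok {s : El} (hs : s ∈ Si) : elOK s = true := by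
  obtain ⟨i, hi, rfl⟩ := mem_Si.1 hs
  exact e_ok hi

theorem ranOut_inv : Inv ranOut := fun g hg s hs s2 hs2 u hu u2 hu2 h1 h2 => by
  have H := genOK_spec (h := g.1) (hi := g.2) hg
  rw [ranOut, ranOut, nOf_eq (Si_ok hs) (Si_ok hs2) (Si_ok hu) (Si_ok hu2)
    (tabConj_spec H.ok (Si_ok hs) (Si_ok hu) h1) (tabConj_spec H.ok (Si_ok hs2) (Si_ok hu2) h2)]

/-- The list is as the dictionary asks. -/
theorem spec_Si : Dict.Spec Si where
  ok := fun _ => Si_ok
  sq := fun s hs => by
    obtain ⟨i, hi, rfl⟩ := mem_Si.1 hs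
    have h := isTab_mul (isTab_perm (e_ok hi)) (isTab_perm (e_ok hi))
    rw [Nat.eq_of_beq_eq_true (list_facts hi).2.1] at h
    exact h.unique isTab_one
  nodup := by
    rw [Si, List.map_map]
    refine List.Nodup.map_on (fun a ha b hb hab => ?_) List.nodup_range
    rw [List.mem_range] at ha hb
    rcases Nat.lt_trichotomy a b with h | h | h
    · exact absurd hab (ne_of_lt (e_mono hb a h))
    · exact h
    · exact absurd hab (ne_of_gt (e_mono ha b h))
  ord := fun s hs s' hs' => by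
    obtain ⟨i, hi, rfl⟩ := mem_Si.1 hs
    obtain ⟨j, hj, rfl⟩ := mem_Si.1 hs'
    refine nOf_pow (e_ok hi) (e_ok hj) fun he => ?_
    have h1 := (Finset.single_le_sum (f := fun j => ranOut (e i) (e j)) (fun _ _ => Nat.zero_le _)
      (Finset.mem_range.2 hj)).trans (Finset.single_le_sum
        (f := fun i => ∑ j ∈ Finset.range num, ranOut (e i) (e j)) (fun _ _ => Nat.zero_le _)
        (Finset.mem_range.2 hi))
    rw [pair_sum ranOut_inv, ranOut_val, ranOut, he] at h1
    simp at h1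

end Cfsg.Agent.J4Order.SiSpec
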