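import Cfsg.Agent.Lib.J4Order.SiList
import Cfsg.Agent.Lib.J4Order.SiStabData
import Cfsg.Agent.Lib.Golay.SextetTrioStab

/-!
# Janko four type: the stabiliser of the sextet in M24, and the list is complete

* `fixSig`: a table fixes the sextet;
* `Si_complete`: an element of order at most two fixing the sextet is in the list;
* `over_Si`: so the involutions of the normaliser centralising `z` are over the list.
-/

set_option autoImplicit false
set_option maxRecDepth 20000
set_option linter.unusedSectionVars false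

namespace Cfsg.Agent.J4Order.SiSpec

open Subgroup
open Cfsg Cfsg.Agent.Golay.Basic Cfsg.Agent.Golay.Cert Cfsg.Agent.Golay.TabList Cfsg.Agent.Golay.StabStruct Cfsg.Agent.Golay.Trans
open Cfsg.Agent.Golay.M24 Cfsg.Agent.Golay.Suborbit Cfsg.Agent.Golay.Perm
open Cfsg.Agent.J4Order.Model
open Cfsg.Agent.Golay.SubData Cfsg.Agent.Golay.SextetTrioStab
open Cfsg.Agent.J4V.Invol.Checks (vx duads)
open scoped Pointwise

local notation "pG" => Equiv.Perm GolayPt

/-- The image of a pair. -/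
def vt (t a b : ℕ) : ℕ := vx (tabAt t a) (tabAt t b)

/-- The table fixes the sextet. -/
def fixSig (t : ℕ) : Bool :=
  J4V.Invol.Data.tet.all fun q => Nat.beq (vt t q.1 q.2.1 ^^^ vt t q.2.2.1 q.2.2.2) J4V.Invol.Data.sigma

/-- The points of a tetrad. -/
def tetSet (q : ℕ × ℕ × ℕ × ℕ) : Finset GolayPt := {pt q.1, pt q.2.1, pt q.2.2.1, pt q.2.2.2}

/-- The tetrads. -/
def fam : Finset (Finset GolayPt) := (J4V.Invol.Data.tet.map tetSet).toFinset

/-- Two pairs adding up to the sextet make up a tetrad. -/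
def pairTet : Bool :=
  (List.range 24).all fun a => (List.range 24).all fun b =>
    Nat.beq a b || !duads.contains (vx a b ^^^ J4V.Invol.Data.sigma) ||
      J4V.Invol.Data.tet.any fun q =>
        [q.1, q.2.1, q.2.2.1, q.2.2.2].contains a && [q.1, q.2.1, q.2.2.1, q.2.2.2].contains b

theorem pairTet_eq : pairTet = true := by decide +kernel

/-- The complementary pairs of a tetrad. -/
def compTet : Bool :=
  J4V.Invol.Data.tet.all fun q => [q.1, q.2.1, q.2.2.1, q.2.2.2].all fun a =>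
    [q.1, q.2.1, q.2.2.1, q.2.2.2].all fun b => Nat.beq a b ||
      [q.1, q.2.1, q.2.2.1, q.2.2.2].any fun c => [q.1, q.2.1, q.2.2.1, q.2.2.2].any fun d =>
        !Nat.beq c d && Nat.beq (vx c d) (vx a b ^^^ J4V.Invol.Data.sigma)

theorem compTet_eq : compTet = true := by decide +kernel

theorem tet_mem (q : ℕ × ℕ × ℕ × ℕ) (hq : q ∈ J4V.Invol.Data.tet) :
    q.1 < 24 ∧ q.2.1 < 24 ∧ q.2.2.1 < 24 ∧ q.2.2.2 < 24 ∧ q.1 ≠ q.2.1 ∧ q.2.2.1 ≠ q.2.2.2 ∧
      (tetSet q).card = 4 ∧ tetSet q ∈ fam := by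
  refine ⟨?_, ?_, ?_, ?_, ?_, ?_, ?_, List.mem_toFinset.2 (List.mem_map_of_mem hq)⟩ <;>
    revert q <;> decide +kernel

theorem smul_fam_mem {t : ℕ} (ht : tabOK t = true) (hf : fixSig t = true) :
    ∀ T ∈ fam, tabPerm t • T ∈ fam := by
  intro T hT
  obtain ⟨⟨a, b, c, d⟩, hq, rfl⟩ := List.mem_map.1 (List.mem_toFinset.1 hT)
  obtain ⟨ha, hb, hc, hd, hab, hcd, h4, -⟩ := tet_mem _ hq
  have hI := isTab_tabPerm ht
  have himg : ∀ {i : ℕ}, i < 24 → tabAt t i = ix (tabPerm t (pt i)) := fun hi => by rw [hI, ix_pt hi]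
  have hlt : ∀ {i : ℕ}, i < 24 → tabAt t i < 24 := fun hi => himg hi ▸ ix_lt _
  have hinj : ∀ {i j : ℕ}, i < 24 → j < 24 → tabAt t i = tabAt t j → i = j := fun hi hj e => by
    rw [himg hi, himg hj] at e
    have := congrArg ix ((tabPerm t).injective (ix_injective e))
    rwa [ix_pt hi, ix_pt hj] at this
  have hpt : ∀ {i : ℕ}, i < 24 → tabPerm t (pt i) = pt (tabAt t i) := fun hi => by rw [himg hi, pt_ix]
  have hv := Nat.eq_of_beq_eq_true (List.all_eq_true.1 hf _ hq)
  have hne1 : tabAt t a ≠ tabAt t b := fun e => hab (hinj ha hb e)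
  have hne2 : tabAt t c ≠ tabAt t d := fun e => hcd (hinj hc hd e)
  have e2 : vt t a b ^^^ J4V.Invol.Data.sigma = vt t c d := by
    rw [← hv, ← Nat.xor_assoc, Nat.xor_self, Nat.zero_xor]
  have hp := pairTet_eq
  simp only [pairTet, List.all_eq_true, List.mem_range, Bool.or_eq_true, Bool.not_eq_true', List.any_eq_true] at hp
  have hm : duads.contains (vt t a b ^^^ J4V.Invol.Data.sigma) = true := by
    rw [e2, List.contains_iff_mem]
    exact J4V.Invol.mem_duads (hlt hc) (hlt hd) hne2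
  rcases hp _ (hlt ha) _ (hlt hb) with (h | h) | ⟨⟨p, r, u, w⟩, hq', h⟩
  · exact absurd (Nat.eq_of_beq_eq_true h) hne1
  · rw [vt] at hm; rw [hm] at h; exact absurd h (by simp)
  simp only [Bool.and_eq_true, List.contains_iff_mem] at h
  have hk := compTet_eq
  simp only [compTet, List.all_eq_true, Bool.or_eq_true, List.any_eq_true, Bool.and_eq_true,
    Bool.not_eq_true', Nat.beq_eq] at hk
  rcases hk _ hq' _ h.1 _ h.2 with h' | ⟨c', hc', d', hd', hcd', hv'⟩
  · exact absurd h' hne1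
  obtain ⟨hp1, hp2, hp3, hp4, -, -, -, hmem⟩ := tet_mem _ hq'
  have h24 : ∀ i ∈ [p, r, u, w], i < 24 := by
    intro i hi
    simp only [List.mem_cons, List.not_mem_nil, or_false] at hi
    rcases hi with rfl | rfl | rfl | rfl <;> assumption
  have hvcd : vx c' d' = vx (tabAt t c) (tabAt t d) := by rw [hv', ← vt, e2, vt]
  have hfin : ∀ i ∈ [p, r, u, w], pt i ∈ tetSet (p, r, u, w) := by
    intro i hi
    simp only [List.mem_cons, List.not_mem_nil, or_false] at hi
    rcases hi with rfl | rfl | rfl | rfl <;> simp [tetSet]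
  have hcdm : tabAt t c ∈ [p, r, u, w] ∧ tabAt t d ∈ [p, r, u, w] := by
    have hcd'' : c' ≠ d' := fun e => by simp [e] at hcd'
    rcases J4V.Invol.pair_inj (h24 _ hc') (h24 _ hd') (hlt hc) (hlt hd) hcd'' hne2 hvcd with ⟨e, e'⟩ | ⟨e, e'⟩
    · exact ⟨e ▸ hc', e' ▸ hd'⟩
    · exact ⟨e' ▸ hd', e ▸ hc'⟩
  have hsub : tabPerm t • tetSet (a, b, c, d) ⊆ tetSet (p, r, u, w) := by
    intro x hx
    obtain ⟨y, hy, rfl⟩ := Finset.mem_smul_finset.1 hx
    simp only [tetSet, Finset.mem_insert, Finset.mem_singleton] at hy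
    rw [Equiv.Perm.smul_def]
    rcases hy with rfl | rfl | rfl | rfl <;> rw [hpt (by assumption)] <;> apply hfin
    exacts [h.1, h.2, hcdm.1, hcdm.2]
  rw [Finset.eq_of_subset_of_card_le hsub (by
    rw [Finset.card_smul_finset, h4, (tet_mem _ hq').2.2.2.2.2.2.1])]
  exact hmem

theorem tabPerm_mem_stab {t : ℕ} (ht : tabOK t = true) (hf : fixSig t = true) : tabPerm t ∈ FamK fam := by
  refine ⟨tabPerm_mem ht, ?_⟩
  show tabPerm t • fam = fam
  refine Finset.eq_of_subset_of_card_le (fun x hx => ?_) (by rw [Finset.card_smul_finset])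
  obtain ⟨T, hT, rfl⟩ := Finset.mem_smul_finset.1 hx
  exact smul_fam_mem ht hf T hT

/-- The masks of the tetrads. -/
def tetMasks : List ℕ := [6240, 328193, 574464, 2236432, 5243140, 8388746]

theorem fam_eq : fam = famSet tetMasks := by decide +kernel

theorem move_eq : tabOK SiData.mvT = true ∧ actFam SiData.mvT tetMasks = sextetRoot 0 ∧
    tetMasks.Pairwise (· < ·) ∧ ∀ m ∈ tetMasks, m < 2 ^ 24 := by decide +kernel

theorem card_stab_fam : Nat.card ↥(FamK fam) = 138240 := by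
  obtain ⟨hok, hact, hpw, hlt⟩ := move_eq
  have hS : tabPerm SiData.mvT • fam = sextetRep 0 := encFam_injective <| by
    rw [← actFam_enc _ _ (isTab_tabPerm hok), fam_eq, encFam_famSet hpw hlt, hact, sextet_enc]
  rw [← card_FamK_sextet]
  refine card_eq_of_conj (tabPerm SiData.mvT) fun g => ?_
  have ha := tabPerm_mem hok
  constructor
  · rintro ⟨hg, hs⟩
    refine ⟨Cfsg.M24.mul_mem (Cfsg.M24.mul_mem ha hg) (Cfsg.M24.inv_mem ha), ?_⟩
    show (tabPerm SiData.mvT * g * (tabPerm SiData.mvT)⁻¹) • sextetRep 0 = sextetRep 0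
    rw [← hS, mul_smul, mul_smul, inv_smul_smul, show g • fam = fam from hs]
  · rintro ⟨hg, hs⟩
    refine ⟨?_, ?_⟩
    · have := Cfsg.M24.mul_mem (Cfsg.M24.mul_mem (Cfsg.M24.inv_mem ha) hg) ha
      simpa [mul_assoc] using this
    · show g • fam = fam
      have h' : (tabPerm SiData.mvT * g * (tabPerm SiData.mvT)⁻¹) • sextetRep 0 = sextetRep 0 := hs
      rw [← hS, mul_smul, mul_smul, inv_smul_smul, smul_left_cancel_iff] at h'
      exact h'

/-- The tables of the generators. -/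
def genT : List ℕ := SiData.gens.map fun g => g.1.1

theorem genT_ok : genT.all tabOK = true ∧ genT.all fixSig = true ∧ chainOK genT [] SiData.chain = true ∧
    chainProd SiData.chain = 138240 := by decide +kernel

theorem sylPc_ok : SiData.sylPc.all (fun t => tabOK t && fixSig t) = true ∧ SiData.sylPc.length = 10 := by
  decide +kernel

theorem syl_list : Cfsg.Agent.Golay.TabList.listOK SiData.sylPc SiData.sylL Cfsg.Agent.Golay.SylowTwoData.s24Idx = true := by
  decide +kernel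

theorem syl_in : sylOK e num SiData.sylL SiData.sylIx = true := by decide +kernel

theorem tabGroup_stab : tabGroup genT = FamK fam :=
  tabGroup_eq genT_ok.1 genT_ok.2.2.1
    (fun t ht => tabPerm_mem_stab (List.all_eq_true.1 genT_ok.1 t ht) (List.all_eq_true.1 genT_ok.2.1 t ht))
    (by rw [card_stab_fam, genT_ok.2.2.2])

theorem factorization_stab : (138240 : ℕ).factorization 2 = 10 := by
  rw [show (138240 : ℕ) = 2 ^ 10 * 135 by norm_num, Nat.factorization_mul (by norm_num) (by norm_num),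
    Finsupp.add_apply, Nat.Prime.factorization_pow Nat.prime_two, Finsupp.single_eq_same,
    Nat.factorization_eq_zero_of_not_dvd (by norm_num)]

theorem gens_closed : ∀ t ∈ genT, ∀ x ∈ listSet num e, tabPerm t * x * (tabPerm t)⁻¹ ∈ listSet num e := by
  intro t ht
  obtain ⟨g, hgm, rfl⟩ := List.mem_map.1 ht
  have hg := genCert_eq
  simp only [genCert, Bool.and_eq_true, List.all_eq_true] at hg
  obtain ⟨⟨⟨⟨hgen, -⟩, hlen⟩, -⟩, hpim⟩ := hg
  have hlen2 := Nat.eq_of_beq_eq_true hlen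
  obtain ⟨k, hk, rfl⟩ := List.mem_iff_getElem.1 hgm
  have hk' : k < SiData.pims.length := hlen2 ▸ hk
  have hz : (SiData.gens[k], SiData.pims[k]) ∈ SiData.gens.zip SiData.pims :=
    List.mem_iff_getElem.2 ⟨k, by simp only [List.length_zip]; omega, List.getElem_zip⟩
  obtain ⟨hl, hchk⟩ := hpim _ hz
  exact closed_of_perm (fun i hi => e_ok hi) (genOK_spec (h := (SiData.gens[k]).1) (hi := (SiData.gens[k]).2)
    (hgen _ hgm)).ok (isFull_eq hchk) (Nat.eq_of_beq_eq_true hl)

/-- The list is complete. -/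
theorem Si_complete {t : ℕ} (ht : tabOK t = true) (hf : fixSig t = true) (h2 : tabPerm t * tabPerm t = 1) :
    ∃ s ∈ Si, Dict.perm s = tabPerm t := by
  obtain ⟨i, hi, e'⟩ := complete_of_cert gens_closed tabGroup_stab syl_list (fun x hx => by
      have := List.all_eq_true.1 sylPc_ok.1 x hx
      simp only [Bool.and_eq_true] at this
      exact tabPerm_mem_stab this.1 this.2)
    (by rw [card_stab_fam, factorization_stab]; exact sylPc_ok.2) syl_in (tabPerm_mem_stab ht hf) h2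
  exact ⟨e i, e_mem hi, e'⟩

open Cfsg.Agent.J4Local Cfsg.Agent.J4Eleven
open Cfsg.Agent.J4V.Split (NV VN)

universe u

variable {G : Type u} [Group G] [Finite G] {z : G} {P : Subgroup G} {X : Chart z P} (M : J4V.Invol.Model X)

/-- The involutions of the normaliser centralising `z` are over the list. -/
theorem over_Si {u : G} (hu : u ∈ HH z) (huN : u ∈ NV X.std) (h2 : u * u = 1) : Dict.Over M Si u := by
  obtain ⟨a, ha, k, hk, rfl⟩ := M.decomp huN
  set σ : ↥Cfsg.M24 := M.pr ⟨k, M.hK hk⟩ with hσ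
  obtain ⟨t, ⟨htk, -⟩, htI⟩ := Dict.exists_tab σ.2
  have hperm : tabPerm t = ((σ : ↥Cfsg.M24) : pG) := (isTab_tabPerm htk).unique htI
  have hσ2 : σ * σ = 1 := by
    have e : M.pr ⟨M.iv a * k, huN⟩ = σ := by
      rw [show (⟨M.iv a * k, huN⟩ : ↥(NV X.std)) = ⟨M.iv a, M.iv_mem_NV a⟩ * ⟨k, M.hK hk⟩ from rfl, map_mul,
        show M.pr ⟨M.iv a, M.iv_mem_NV a⟩ = 1 from
          (Cfsg.Agent.M24CocodeSplit.Split.proj_eq_one (VN X.std) M.φ).2 (M.iv_mem a), one_mul]
    rw [← e, ← map_mul, show (⟨M.iv a * k, huN⟩ * ⟨M.iv a * k, huN⟩ : ↥(NV X.std)) = 1 from Subtype.ext h2,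
      map_one]
  have hkz : k * M.iv J4V.Invol.Data.sigma * k⁻¹ = M.iv J4V.Invol.Data.sigma := by
    have hc : M.iv a * k * M.iv J4V.Invol.Data.sigma = M.iv J4V.Invol.Data.sigma * (M.iv a * k) := by
      rw [M.hz]; exact mem_HH.1 hu
    calc k * M.iv J4V.Invol.Data.sigma * k⁻¹
        = (M.iv a)⁻¹ * (M.iv a * k * M.iv J4V.Invol.Data.sigma) * k⁻¹ := by group
      _ = (M.iv a)⁻¹ * M.iv J4V.Invol.Data.sigma * M.iv a := by rw [hc]; group
      _ = M.iv J4V.Invol.Data.sigma := by rw [mul_assoc, M.iv_comm _ a, inv_mul_cancel_left]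
  have himg : ∀ i < 24, M.im ⟨k, M.hK hk⟩ i = tabAt t i := fun i hi => by
    rw [J4V.Invol.Ident.im, ← hσ, htI (pt i), ix_pt hi]
  have hinj : ∀ i < 24, ∀ j < 24, i ≠ j → tabAt t i ≠ tabAt t j := fun i hi j hj hne e => by
    rw [← himg i hi, ← himg j hj] at e
    exact hne (J4V.Invol.pim_inj ((σ : ↥Cfsg.M24) : pG) hi hj (by simpa [J4V.Invol.Ident.im, hσ, J4V.Invol.pim] using e))
  have hlt : ∀ i < 24, tabAt t i < 24 := fun i hi => himg i hi ▸ ix_lt _
  have hf : fixSig t = true := by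
    rw [fixSig, List.all_eq_true]
    rintro ⟨p, q, r, w⟩ hq
    obtain ⟨hp, hq2, hr, hw, hpq, hrw, hv⟩ := J4V.Invol.quadOK_spec (J4V.Invol.tet_spec hq).1
    have hs : vx p q ^^^ vx r w = J4V.Invol.Data.sigma := by
      rw [← hv, ← Nat.xor_assoc, Nat.xor_self, Nat.zero_xor]
    have e := hkz
    rw [← hs, M.iv_xor, show k * (M.iv (vx p q) * M.iv (vx r w)) * k⁻¹ =
      (k * M.iv (vx p q) * k⁻¹) * (k * M.iv (vx r w) * k⁻¹) by group, M.conj_pair (M.hK hk) hp hq2,
      M.conj_pair (M.hK hk) hr hw, ← M.iv_xor, himg p hp, himg q hq2, himg r hr, himg w hw, ← M.iv_xor, hs] at e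
    show Nat.beq (vt t p q ^^^ vt t r w) J4V.Invol.Data.sigma = true
    rw [Nat.beq_eq]
    refine M.iv_inj ?_ J4V.Invol.duads_facts.2.2.2.2.1 e
    exact Nat.xor_lt_two_pow (n := 11)
      (J4V.Invol.duads_facts.2.2.2.2.2.2 _ (J4V.Invol.mem_duads (hlt p hp) (hlt q hq2) (hinj p hp q hq2 hpq)))
      (J4V.Invol.duads_facts.2.2.2.2.2.2 _ (J4V.Invol.mem_duads (hlt r hr) (hlt w hw) (hinj r hr w hw hrw)))
  obtain ⟨s, hs, e⟩ := Si_complete htk hf (by rw [hperm, ← Subgroup.coe_mul, hσ2, Subgroup.coe_one])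
  refine ⟨s, hs, a, ha, ?_⟩
  rw [Dict.elM, Dict.kE_eq M (spec_Si.ok s hs) hk ⟨M.hK hk, ?_⟩]
  rw [← hperm, ← e]
  exact isTab_tabPerm (Dict.tabOK_of (spec_Si.ok s hs)).1

end Cfsg.Agent.J4Order.SiSpec
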