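import Cfsg.Agent.Lib.J4Order.StabInv
import Cfsg.Agent.Lib.J4Order.SiStab
import Cfsg.Agent.Lib.J4Order.Hist

/-!
# Janko four type: the facts about the stabiliser of one of the 77

* `stabFacts`.
-/

set_option autoImplicit false
set_option maxRecDepth 20000
set_option linter.style.haveILetI false
set_option linter.unusedSectionVars false

namespace Cfsg.Agent.J4Order.Dict

open Subgroup
open Cfsg Cfsg.Agent.Golay.Basic Cfsg.Agent.Golay.Cert Cfsg.Agent.Golay.TabList
open Cfsg.Agent.Golay.M24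
open Cfsg.Agent.J4Local Cfsg.Agent.J4Eleven
open Cfsg.Agent.J4V.Split (NV VN)
open Cfsg.Agent.J4Order.Model
open Cfsg.Agent.J4Order.Part
open Cfsg.Agent.J4Order.SiSpec (e num Si)
open Cfsg.Agent.J4V.Invol.Checks (root)

universe u

/-- The roots of the orbits are the classes. -/
def rootsSame : Bool :=
  SiData.outer.all fun b => Nat.blt b.1 num &&
    (StabData.evenR ++ StabData.oddR).any fun r => Nat.beq r.1.1 (e b.1).1

theorem rootsSame_eq : rootsSame = true := by decide +kernel

/-- The inverting elements of the list are as said. -/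
def invFound : Bool :=
  (List.range num).all fun i =>
    !tabConj (e i).1 StabData.xEl.1 StabData.xiEl.1 || StabData.invL.any fun s => Nat.beq s.1 (e i).1

theorem invFound_eq : invFound = true := by decide +kernel

theorem tabConj_of_mul {h p c : El} (hh : elOK h = true) (hp : elOK p = true) (hc : elOK c = true)
    (e : mulTab c.1 h.1 = mulTab h.1 p.1) : tabConj h.1 p.1 c.1 = true := by
  have hlt : ∀ {e : El}, elOK e = true → ∀ j < 24, tabAt e.1 j < 24 := fun {e} he j hj => by
    have h := isTab_perm he (pt j)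
    rw [ix_pt hj] at h
    rw [← h]; exact ix_lt _
  have key : ∀ j < 24, tabAt c.1 (tabAt h.1 j) = tabAt h.1 (tabAt p.1 j) := fun j hj => by
    have := congrArg (fun t => tabAt t j) e
    simp only [mulTab, tabAt_pack 24 _ j hj] at this
    rwa [Nat.mod_eq_of_lt (lt_trans (hlt hc _ (hlt hh j hj)) (by norm_num)),
      Nat.mod_eq_of_lt (lt_trans (hlt hh _ (hlt hp j hj)) (by norm_num))] at this
  simp only [tabConj, Bool.and_eq_true, Nat.beq_eq]
  repeat' constructor
  all_goals exact (key _ (by norm_num)).symm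

variable {G : Type u} [Group G] [Finite G] {z : G} {P : Subgroup G} {X : Chart z P} (M : J4V.Invol.Model X)
  [IsSimpleGroup G]

/-- Conjugate to a class by an element of the complement centralising `z`. -/
def Rooted (s : El) : Prop :=
  ∃ k ∈ M.K, k ∈ HH z ∧ ∃ r ∈ StabData.evenR ++ StabData.oddR, k * kE M s * k⁻¹ = kE M r.1

theorem rooted_all {i : ℕ} (hi : i < num) : Rooted M (e i) := by
  classical
  have hg := SiSpec.genCert_eq
  simp only [SiSpec.genCert, Bool.and_eq_true, List.all_eq_true] at hg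
  obtain ⟨⟨⟨⟨hgen, hblk⟩, -⟩, -⟩, -⟩ := hg
  have hsum := orbit_sum (SiSpec.isFull_eq hblk) (fun i => if Rooted M (e i) then 0 else 1) ?_
  · have h0 : blocksVal (fun i => if Rooted M (e i) then 0 else 1) SiData.outer = 0 := by
      rw [blocksVal, List.sum_eq_zero_iff]
      intro x hx
      obtain ⟨b, hb, rfl⟩ := List.mem_map.1 hx
      have h := rootsSame_eq
      simp only [rootsSame, List.all_eq_true, List.any_eq_true, Bool.and_eq_true, Nat.blt_eq] at h
      obtain ⟨hlt, r, hr, e'⟩ := h b hb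
      have hr' : Rooted M (e b.1) := by
        refine ⟨1, one_mem _, one_mem _, r, hr, ?_⟩
        have hrok : elOK r.1 = true := by
          rcases List.mem_append.1 hr with h | h
          · have := List.all_eq_true.1 Stab.evenR_ok r h
            simp only [Stab.rootOK, Bool.and_eq_true] at this
            exact (stab_mem M this.1.1 0).1
          · have := List.all_eq_true.1 Stab.oddR_ok r h
            simp only [Stab.rootOK, Bool.and_eq_true] at this
            exact (stab_mem M this.1.1 0).1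
        rw [one_mul, inv_one, mul_one]
        refine (kE_eq M hrok (kE_mem M (SiSpec.e_ok hlt)).1 ?_).symm
        rw [Nat.eq_of_beq_eq_true e']
        exact (kE_mem M (SiSpec.e_ok hlt)).2
      simp [hr']
    rw [h0] at hsum
    have := (Finset.sum_eq_zero_iff.1 hsum) i (Finset.mem_range.2 hi)
    simpa using this
  · intro g hg' p hp c hc hconj
    have H := genOK_spec (h := g.1) (hi := g.2) (hgen g hg')
    have hgH : kE M g.1 ∈ HH z := by
      have := (elM_HH M H.ok (a := 0)).2 H.fix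
      rwa [elM, M.iv_zero, one_mul] at this
    have hk := kE_conj M H.ok (SiSpec.e_ok hp) (SiSpec.e_ok hc) hconj
    have : Rooted M (e c) ↔ Rooted M (e p) := by
      constructor
      · rintro ⟨k, hk1, hk2, r, hr, er⟩
        refine ⟨k * kE M g.1, mul_mem hk1 (kE_mem M H.ok).1, mul_mem hk2 hgH, r, hr, ?_⟩
        rw [← er, hk]; group
      · rintro ⟨k, hk1, hk2, r, hr, er⟩
        refine ⟨k * (kE M g.1)⁻¹, mul_mem hk1 (inv_mem (kE_mem M H.ok).1), mul_mem hk2 (inv_mem hgH), r, hr, ?_⟩
        rw [← er, hk]; group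
    simp only [this]

theorem stab_red {w : G} (hw : w ∈ normalizer (X.std : Set G) ⊓ HH z) (h2 : w * w = 1) :
    ∃ d ∈ normalizer (X.std : Set G) ⊓ HH z, ∃ r ∈ StabData.evenR ++ StabData.oddR, ∃ a < 2048,
      d * w * d⁻¹ = elM M a r.1 := by
  obtain ⟨s, hs, a, ha, rfl⟩ := SiSpec.over_Si M (mem_inf.1 hw).2 (mem_inf.1 hw).1 h2
  obtain ⟨i, hi, rfl⟩ := SiSpec.mem_Si.1 hs
  obtain ⟨k, hk, hkH, r, hr, er⟩ := rooted_all M hi
  have hkN : k ∈ NV X.std := M.hK hk
  obtain ⟨b, hb, eb⟩ := M.exists_iv (a := k * M.iv a * k⁻¹) (M22Order.conj_mem_of_mem_normalizer hkN (M.iv_mem a))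
  refine ⟨k, mem_inf.2 ⟨hkN, hkH⟩, r, hr, b, hb, ?_⟩
  rw [elM, elM, eb, ← er]; group

theorem stab_inv {u : G} (hu : u ∈ normalizer (X.std : Set G) ⊓ HH z) (h2 : u * u = 1)
    (hx : u * xK M * u⁻¹ = (xK M)⁻¹) : ∃ s ∈ StabData.invL, ∃ a < 2048, u = elM M a s := by
  obtain ⟨t, ht, a, ha, rfl⟩ := SiSpec.over_Si M (mem_inf.1 hu).2 (mem_inf.1 hu).1 h2
  obtain ⟨i, hi, rfl⟩ := SiSpec.mem_Si.1 ht
  have hok := SiSpec.e_ok hi
  have h5 := Stab.fiveOK_eq
  simp only [Stab.fiveOK, Bool.and_eq_true] at h5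
  obtain ⟨⟨⟨⟨⟨⟨hX, -⟩, -⟩, -⟩, hXi⟩, hXX⟩, -⟩ := h5
  have hXok := (stab_mem M hX 0).1
  have hinvx : (xK M)⁻¹ = kE M StabData.xiEl := by
    refine inv_eq_of_mul_eq_one_right (M.K_eq (mul_mem (kE_mem M hXok).1 (kE_mem M hXi).1) (one_mem _)
      ((kE_mem M hXok).2.mul (kE_mem M hXi).2) ?_)
    rw [Nat.eq_of_beq_eq_true hXX]; exact M.tab_one
  have hk : kE M (e i) * kE M StabData.xEl * (kE M (e i))⁻¹ = kE M StabData.xiEl := by
    have e' : elM M a (e i) * xK M * (elM M a (e i))⁻¹ =
        M.iv a * (kE M (e i) * kE M StabData.xEl * (kE M (e i))⁻¹) * (M.iv a)⁻¹ := by rw [elM, xK]; group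
    rw [e', hinvx] at hx
    set R := kE M (e i) * kE M StabData.xEl * (kE M (e i))⁻¹
    have hRK : R ∈ M.K := mul_mem (mul_mem (kE_mem M hok).1 (kE_mem M hXok).1) (inv_mem (kE_mem M hok).1)
    obtain ⟨b, hb, eb⟩ := M.exists_iv (a := M.iv a * (R * (M.iv a)⁻¹ * R⁻¹))
      (mul_mem (M.iv_mem a) (M22Order.conj_mem_of_mem_normalizer (M.hK hRK) (inv_mem (M.iv_mem a))))
    refine (M.decomp_unique hb (show (0 : ℕ) < 2048 by norm_num) hRK (kE_mem M hXi).1 ?_).2
    rw [M.iv_zero, one_mul, ← hx, eb]; group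
  have hc : tabConj (e i).1 StabData.xEl.1 StabData.xiEl.1 = true := by
    refine tabConj_of_mul hok hXok hXi (M.tab_unique (canon_mulTab _ _) (canon_mulTab _ _)
      ((kE_mem M hXi).2.mul (kE_mem M hok).2) ?_)
    rw [← hk, inv_mul_cancel_right]
    exact (kE_mem M hok).2.mul (kE_mem M hXok).2
  have hf := invFound_eq
  simp only [invFound, List.all_eq_true, List.mem_range, List.any_eq_true, Bool.or_eq_true, Bool.not_eq_true'] at hf
  rcases hf i hi with h | ⟨s, hs, es⟩
  · rw [hc] at h; exact Bool.noConfusion h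
  refine ⟨s, hs, a, ha, ?_⟩
  have hI := Stab.invOK_eq
  simp only [Stab.invOK, Bool.and_eq_true, List.all_eq_true] at hI
  have hsok := (stab_mem M (hI.1.1.1.1.2 s hs).1.1 0).1
  rw [elM, elM, kE_eq M hsok (kE_mem M hok).1 (by rw [Nat.eq_of_beq_eq_true es]; exact (kE_mem M hok).2)]

variable (hG : ¬ IsMulCommutative G) (hgood : ¬ IsConj z (M.elt (root 2)))

include hG hgood

/-- The facts. -/
theorem stabFacts : StabFacts X where
  three := fun _ hr h => fixc_three M hG hgood hr h
  five := fun _ hr h => fixc_five M hG hgood hr h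
  small := fun _ hw h2 _ hle => fixc_small M hG hgood (fun _ h h' => stab_red M h h') hw h2 hle
  mid := fun _ hw h2 _ hle => fixc_mid M hG hgood (fun _ h h' => stab_red M h h') hw h2 hle
  sq_one := fun _ hx h5 _ hu _ hv huu huz hux hvv hvz hvx hk =>
    five_sq_one M hG hgood (fun _ h h' hx' => stab_inv M h h' hx') hx h5 hu hv huu huz hux hvv hvz hvx hk
  centre := fun _ hx h5 _ hu huu huz huz' hux =>
    five_centre M hG hgood (fun _ h h' hx' => stab_inv M h h' hx') hx h5 hu huu huz huz' hux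

end Cfsg.Agent.J4Order.Dict
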