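import Cfsg.Agent.Lib.J4V.Invol.Main

/-!
# Janko four type: the classes of the involutions of the normaliser outside the subgroup of order `2 ^ 11`

With a suitable complement, such an involution is conjugate to `z` exactly when
(it is conjugate into the complement by the subgroup if and only if its permutation fixes a point).

* `Model.rule`: the rule;
* `exists_good`: the suitable complement.
-/

set_option autoImplicit false
set_option maxRecDepth 20000
set_option linter.style.haveILetI false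
set_option linter.unusedSectionVars false

namespace Cfsg.Agent.J4V.Invol

open Subgroup
open Cfsg Cfsg.Agent.Golay.Basic Cfsg.Agent.Golay.Cert Cfsg.Agent.Golay.TabList
open Cfsg.Agent.Golay.M24
open Cfsg.Agent.J4Local Cfsg.Agent.J4Eleven
open Cfsg.Agent.J4V.Split (NV VN)
open Cfsg.Agent.M24CocodeSplit.Checks (imgChk)
open Checks

universe u

theorem sel_len : ∀ b0 b1 b2 b3 : Bool, ((List.range 4096).filter (sel b0 b1 b2 b3)).length = 1368 →
    b0 = false ∧ b1 = true ∧ b3 = !b2 := by decide +kernel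

/-- In the image of `1 + σ`. -/
def inIm (gi : List ℕ) (w : ℕ) : Bool := (List.range 2048).any fun b => Nat.beq (b ^^^ enc gi b) w

/-- Some point is fixed. -/
def hasFix (t : ℕ) : Bool := (List.range 24).any fun i => Nat.beq (tabAt t i) i

/-- The rule at the code. -/
def ruleAt (c : ℕ) : Bool := inIm (oIm (c / 64)) (whAt (c % 64)) == hasFix (oT (c / 64))

theorem roots_rule : ruleAt (root 0) = true ∧ ruleAt (root 1) = false ∧ ruleAt (root 2) = false ∧
    ruleAt (root 3) = true := by decide +kernel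

/-- The shift of the complement. -/
def shift (t : ℕ) : ℕ := vx 0 (tabAt t 0)

theorem shifted_root : (1404 < 4096 ∧ 1404 / 64 = root 2 / 64 ∧ (omask 3).testBit 1404 = true) ∧
    same (whAt (1404 % 64)) (whAt (root 2 % 64) ^^^ shift (oT (root 2 / 64))) = true ∧
    inW (whAt (root 2 % 64) ^^^ shift (oT (root 2 / 64))) = true := by decide +kernel

theorem root_facts : ∀ k < 4, root k < 4096 ∧ 64 ≤ root k ∧ sing (root k) = true := by decide +kernel

namespace Model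

variable {G : Type u} [Group G] [Finite G] {z : G} {P : Subgroup G} {X : Chart z P} (M : Model X)

/-- Conjugate into the complement by the subgroup exactly when a point is fixed. -/
def Rule (n : G) (hn : n ∈ NV X.std) : Prop :=
  (∃ v ∈ X.std, v * n * v⁻¹ ∈ M.K) ↔ ∃ p : GolayPt, ((M.pr ⟨n, hn⟩ : ↥Cfsg.M24) : Equiv.Perm GolayPt) p = p

theorem into_K_conj {g n : G} (hg : g ∈ NV X.std) (h : ∃ v ∈ X.std, v * n * v⁻¹ ∈ M.K) :
    ∃ v ∈ X.std, v * (g * n * g⁻¹) * v⁻¹ ∈ M.K := by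
  obtain ⟨v, hv, hk⟩ := h
  obtain ⟨a, ha, k, hkK, rfl⟩ := M.decomp hg
  refine ⟨k * v * k⁻¹ * (M.iv a)⁻¹,
    mul_mem (M22Order.conj_mem_of_mem_normalizer (M.hK hkK) hv) (inv_mem (M.iv_mem a)), ?_⟩
  rw [show k * v * k⁻¹ * (M.iv a)⁻¹ * (M.iv a * k * n * (M.iv a * k)⁻¹) * (k * v * k⁻¹ * (M.iv a)⁻¹)⁻¹ =
    k * (v * n * v⁻¹) * k⁻¹ by group]
  exact mul_mem (mul_mem hkK hk) (inv_mem hkK)

theorem rule_conj {g n : G} (hg : g ∈ NV X.std) (hn : n ∈ NV X.std) (hgn : g * n * g⁻¹ ∈ NV X.std) :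
    M.Rule (g * n * g⁻¹) hgn ↔ M.Rule n hn := by
  have h1 : (∃ v ∈ X.std, v * (g * n * g⁻¹) * v⁻¹ ∈ M.K) ↔ ∃ v ∈ X.std, v * n * v⁻¹ ∈ M.K := by
    refine ⟨fun h => ?_, M.into_K_conj hg⟩
    have h' := M.into_K_conj (inv_mem hg) h
    rwa [show g⁻¹ * (g * n * g⁻¹) * g⁻¹⁻¹ = n by group] at h'
  have h2 : (∃ p : GolayPt, ((M.pr ⟨g * n * g⁻¹, hgn⟩ : ↥Cfsg.M24) : Equiv.Perm GolayPt) p = p) ↔
      ∃ p : GolayPt, ((M.pr ⟨n, hn⟩ : ↥Cfsg.M24) : Equiv.Perm GolayPt) p = p := by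
    rw [show (⟨g * n * g⁻¹, hgn⟩ : ↥(NV X.std)) = ⟨g, hg⟩ * ⟨n, hn⟩ * ⟨g, hg⟩⁻¹ from rfl, map_mul, map_mul,
      map_inv]
    simp only [Subgroup.coe_mul, Subgroup.coe_inv, Equiv.Perm.mul_apply]
    constructor
    · rintro ⟨p, hp⟩
      exact ⟨_, Equiv.Perm.eq_inv_iff_eq.2 hp⟩
    · rintro ⟨p, hp⟩
      exact ⟨((M.pr ⟨g, hg⟩ : ↥Cfsg.M24) : Equiv.Perm GolayPt) p, by
        simp [hp]⟩
  rw [Rule, Rule, h1, h2]

variable [IsSimpleGroup G] (hG : ¬ IsMulCommutative G)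

include hG

include M in
theorem exists_conj_EE {y : G} (hy : y ∈ NV X.std) (hnV : y ∉ X.std) (hy2 : y * y = 1) :
    ∃ f ∈ NV X.std, f * y * f⁻¹ ∈ EE z := by
  obtain ⟨a, ha, k, hk, rfl⟩ := M.decomp hy
  by_cases hk1 : k = 1
  · exact absurd (by subst hk1; simpa using M.iv_mem a) hnV
  obtain ⟨a', ha', ea'⟩ := M.exists_iv (M22Order.conj_mem_of_mem_normalizer (M.hK hk) (M.iv_mem a))
  have hyy : M.iv (a ^^^ a') * (k * k) = 1 := by
    rw [M.iv_xor, ea', ← hy2]; group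
  have hkk : k * k = 1 := M.inj _ (mul_mem hk hk) (by
    rw [eq_inv_of_mul_eq_one_right hyy]; exact inv_mem (M.iv_mem _))
  set σ : ↥Cfsg.M24 := M.pr ⟨k, M.hK hk⟩ with hσ
  have hσ2 : orderOf σ = 2 := orderOf_eq_prime (by
      rw [pow_two, hσ, ← map_mul,
        show (⟨k, M.hK hk⟩ * ⟨k, M.hK hk⟩ : ↥(NV X.std)) = 1 from Subtype.ext hkk, map_one])
    fun e => hk1 (M.inj k hk ((Cfsg.Agent.M24CocodeSplit.Split.proj_eq_one (VN X.std) M.φ).1 e))
  obtain ⟨c, n, hn, hT⟩ := exists_conj_rep hσ2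
  obtain ⟨γ, hγ, eγ⟩ := M.surj c
  set r := γ * k * γ⁻¹ with hr
  have hrK : r ∈ M.K := mul_mem (mul_mem hγ hk) (inv_mem hγ)
  have hrT : M.Tab (repT n) r := by
    refine ⟨M.hK hrK, ?_⟩
    rw [show (⟨r, M.hK hrK⟩ : ↥(NV X.std)) = ⟨γ, M.hK hγ⟩ * ⟨k, M.hK hk⟩ * ⟨γ, M.hK hγ⟩⁻¹ from rfl,
      map_mul, map_mul, map_inv, eγ]
    exact hT
  obtain ⟨v, hv, ev⟩ := M.exists_iv (M22Order.conj_mem_of_mem_normalizer (M.hK hγ) (M.iv_mem a))
  have hx1 : γ * (M.iv a * k) * γ⁻¹ = M.iv v * r := by rw [ev, hr]; group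
  have hsq : M.iv v * r * (M.iv v * r) = 1 := by
    rw [← hx1, show γ * (M.iv a * k) * γ⁻¹ * (γ * (M.iv a * k) * γ⁻¹) =
      γ * (M.iv a * k * (M.iv a * k)) * γ⁻¹ by group, hy2]
    group
  have hcov := coverOK_eq
  simp only [coverOK, List.all_eq_true, Bool.and_eq_true, beq_iff_eq, List.mem_range] at hcov
  obtain ⟨⟨⟨hrimg, himgs⟩, hkeys⟩, hent⟩ :=
    hcov n (by simp only [List.mem_cons, List.not_mem_nil, or_false]; omega)
  have hr2 : r * r = 1 := by
    rw [hr, show γ * k * γ⁻¹ * (γ * k * γ⁻¹) = γ * (k * k) * γ⁻¹ by group, hkk]; group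
  have hfix : enc (repIm n) v = v := by
    refine M.iv_inj (enc_lt _ (repI_lt n hn) v) hv ?_
    rw [← M.conj_iv hrimg hrT]
    calc r * M.iv v * r⁻¹ = (M.iv v)⁻¹ * (M.iv v * r * (M.iv v * r)) * r⁻¹ * r⁻¹ := by group
      _ = (M.iv v)⁻¹ * (r * r)⁻¹ := by rw [hsq]; group
      _ = M.iv v := by rw [hr2, inv_one, mul_one, M.iv_inv]
  have hmemk : v ∈ (covL n).map fun e => e % 2048 := by
    rw [hkeys, List.mem_filter, List.mem_range, hfix]
    exact ⟨hv, Nat.beq_refl _⟩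
  obtain ⟨e, he, hev⟩ := List.mem_map.1 hmemk
  have hev' : e % 2048 = v := hev
  have hE := hent e he
  simp only [entryOK, Bool.and_eq_true, Nat.blt_eq, hev'] at hE
  obtain ⟨⟨⟨hlen, ho⟩, hW⟩, hmul⟩ := hE
  set cc := e / 2048 % 2048
  set t := (covT n).getD (e / 4194304) idTab
  set gi := (covI n).getD (e / 4194304) []
  set o := (covO n).getD (e / 4194304) 0
  have himg := himgs _ hlen
  obtain ⟨η, hη, hηT⟩ := M.exists_K (t := t) (by
    simp only [imgChk, Bool.and_eq_true] at himg; exact himg.1.1.1)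
  have hrel : η * r = M.kO o * η := M.K_eq (mul_mem hη hrK) (mul_mem (M.kO_mem ho).1 hη)
    (hηT.mul hrT) (by rw [Nat.eq_of_beq_eq_true hmul]; exact (M.kO_mem ho).2.mul hηT)
  set f := η * M.iv cc * γ with hf
  have hx3 : f * (M.iv a * k) * f⁻¹ = M.iv (enc gi (v ^^^ cc ^^^ enc (repIm n) cc)) * M.kO o := by
    rw [← M.conj_iv himg hηT, M.iv_xor, M.iv_xor, ← M.conj_iv hrimg hrT, hf]
    rw [show η * M.iv cc * γ * (M.iv a * k) * (η * M.iv cc * γ)⁻¹ =
      η * (M.iv cc * (γ * (M.iv a * k) * γ⁻¹) * (M.iv cc)⁻¹) * η⁻¹ by group, hx1, M.iv_inv,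
      ← mul_assoc (M.iv cc) (M.iv v) r, M.iv_comm cc v]
    calc η * (M.iv v * M.iv cc * r * M.iv cc) * η⁻¹
        = η * (M.iv v * M.iv cc * (r * M.iv cc * r⁻¹)) * η⁻¹ * (η * r) * η⁻¹ := by group
      _ = _ := by rw [hrel]; group
  have hxE : f * (M.iv a * k) * f⁻¹ ∈ EE z := hx3 ▸ mul_mem (M.iv_EE hG hW) (M.kO_EE hG ho)
  exact ⟨f, mul_mem (mul_mem (M.hK hη) (M.iv_mem_NV _)) (M.hK hγ), hxE⟩

theorem elt_NV {c : ℕ} (hc : c < 4096) : M.elt c ∈ NV X.std :=
  EE_le_NV (M.elt_EE hG hc)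

theorem elt_pr {c : ℕ} (hc : c < 4096) :
    IsTab (oT (c / 64)) ((M.pr ⟨M.elt c, M.elt_NV hG hc⟩ : ↥Cfsg.M24) : Equiv.Perm GolayPt) := by
  obtain ⟨h, ht⟩ := (M.tab_of_mem_std (M.iv_mem (whAt (c % 64)))).mul (M.kO_mem (div_mod_code hc).1).2
  have e : mulTab idTab (oT (c / 64)) = oT (c / 64) := eq_of_isTab (canon_mulTab _ _)
    (tabOK_oT (div_mod_code hc).1).2 (isTab_mul isTab_one (isTab_tabPerm (tabOK_oT (div_mod_code hc).1).1))
    (by rw [one_mul]; exact isTab_tabPerm (tabOK_oT (div_mod_code hc).1).1)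
  rw [e] at ht
  exact ht

theorem rule_elt {c : ℕ} (hc : c < 4096) : M.Rule (M.elt c) (M.elt_NV hG hc) ↔ ruleAt c = true := by
  obtain ⟨hi, hj⟩ := div_mod_code hc
  obtain ⟨hkK, hkT⟩ := M.kO_mem hi
  have h1 : (∃ v ∈ X.std, v * M.elt c * v⁻¹ ∈ M.K) ↔ inIm (oIm (c / 64)) (whAt (c % 64)) = true := by
    have key : ∀ b, M.iv b * M.elt c * (M.iv b)⁻¹ =
        M.iv (b ^^^ whAt (c % 64) ^^^ enc (oIm (c / 64)) b) * M.kO (c / 64) := fun b => by
      rw [M.iv_xor, M.iv_xor, ← M.conj_iv (fix_facts hi).1 hkT, M.iv_inv, elt]; group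
    have hlt : ∀ b < 2048, b ^^^ whAt (c % 64) ^^^ enc (oIm (c / 64)) b < 2048 := fun b hb =>
      Nat.xor_lt_two_pow (n := 11) (Nat.xor_lt_two_pow (n := 11) hb (half_facts.1 _ hj).2)
        (enc_lt _ (oI_lt _ hi) b)
    simp only [inIm, List.any_eq_true, List.mem_range]
    constructor
    · rintro ⟨v, hv, hvK⟩
      obtain ⟨b, hb, rfl⟩ := M.exists_iv hv
      refine ⟨b, hb, ?_⟩
      rw [key] at hvK
      have h := (M.decomp_unique (hlt b hb) (show (0 : ℕ) < 2048 by norm_num) hkK hvK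
        (by rw [M.iv_zero, one_mul])).1
      rw [Nat.xor_right_comm, Nat.xor_eq_zero_iff] at h
      rw [h]; exact Nat.beq_refl _
    · rintro ⟨b, hb, hbw⟩
      refine ⟨M.iv b, M.iv_mem b, ?_⟩
      rw [key, Nat.xor_right_comm, Nat.eq_of_beq_eq_true hbw, Nat.xor_self, M.iv_zero, one_mul]
      exact hkK
  have h2 : (∃ p : GolayPt, ((M.pr ⟨M.elt c, M.elt_NV hG hc⟩ : ↥Cfsg.M24) : Equiv.Perm GolayPt) p = p) ↔
      hasFix (oT (c / 64)) = true := by
    simp only [hasFix, List.any_eq_true, List.mem_range]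
    constructor
    · rintro ⟨p, hp⟩
      refine ⟨ix p, ix_lt p, ?_⟩
      rw [← M.elt_pr hG hc p, hp]; exact Nat.beq_refl _
    · rintro ⟨i, hi', h⟩
      refine ⟨pt i, ix_injective ?_⟩
      rw [M.elt_pr hG hc, ix_pt hi', Nat.eq_of_beq_eq_true h]
  rw [Rule, h1, h2, ruleAt]
  cases inIm (oIm (c / 64)) (whAt (c % 64)) <;> cases hasFix (oT (c / 64)) <;> simp

omit M in
theorem isConj_iff_not_five {x : G} (hx : x ∈ EE z) (hU : vk z x ∈ X.U0) (h0 : vk z x ≠ 0) {w : VV z}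
    (hw : w ∈ X.five) : IsConj z x ↔ vk z x ∉ Chart.orb z P w := by
  obtain ⟨d, hd, hdW⟩ := hU
  rw [act_vk hd.1 hx] at hdW
  have hy : d * x * d⁻¹ ∈ preV X.L.J X.WV := ⟨conj_mem_EE hd.1 hx, hdW⟩
  have hy0 : vk z (d * x * d⁻¹) ≠ 0 := fun e => h0 (act_injective hd.1
    (by rw [act_vk hd.1 hx, e, map_zero]))
  have hconj : IsConj z x ↔ IsConj z (d * x * d⁻¹) :=
    ⟨fun h => h.trans (isConj_iff.2 ⟨d, rfl⟩), fun h => h.trans (isConj_iff.2 ⟨d, rfl⟩).symm⟩
  rcases X.deg_cases hdW hy0 with h | h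
  · have h3 : IsConj z (d * x * d⁻¹) := (X.params hG).2.2.1 _ hy hy0 h
    have hv3 : vk z (d * x * d⁻¹) ∈ X.threes := ⟨hdW, hy0, h⟩
    refine iff_of_true (hconj.2 h3) fun ⟨c, hc, e⟩ => X.five_not_three hw hv3 ⟨d * c, mul_mem hd hc, ?_⟩
    rw [act_mul hd.1 hc.1, e, act_vk hd.1 hx]
  · have h5 : vk z (d * x * d⁻¹) ∈ X.five := ⟨hdW, hy0, h⟩
    refine iff_of_false (fun hz => X.not_zt_five hG hy h5 (hconj.1 hz)) (not_not.2 ?_)
    obtain ⟨f, hf, hfe⟩ := X.five_trans hw h5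
    refine ⟨d⁻¹ * f, mul_mem (inv_mem hd) (X.NC_le hf), ?_⟩
    rw [act_mul (inv_mem hd.1) (X.NC_le_HH hf), hfe, ← act_vk hd.1 hx, act_inv_act hd.1]

theorem elt_vk_ne {c : ℕ} (hc : c < 4096) (h64 : 64 ≤ c) : vk z (M.elt c) ≠ 0 := fun e => by
  have := (M.elt_WV_iff hG hc).1 (e ▸ zero_mem _)
  omega

omit M in
theorem isConj_congr_vk (X : Chart z P) {x y : G} (hx : x ∈ EE z) (hy : y ∈ EE z) (h0 : vk z x ≠ 0)
    (e : vk z x = vk z y) : ∃ f ∈ EE z, f * x * f⁻¹ = y := by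
  rcases (vk_eq_vk_iff X.L.J hy hx).1 e.symm with r | r
  · exact ⟨1, one_mem _, by simp [r]⟩
  · obtain ⟨f, hf, hfx⟩ := X.exists_flip hx h0
    exact ⟨f, hf, by rw [r, hfx]⟩

theorem step_NH {g a b : ℕ} (ha : a < 4096) (hb : b < 4096) (h : step g a b = true) :
    ∃ x ∈ HH z, x ∈ NV X.std ∧ vk z (M.elt b) = act z x (vk z (M.elt a)) := by
  obtain ⟨ai, aj⟩ := div_mod_code ha
  obtain ⟨bi, bj⟩ := div_mod_code hb
  unfold step at h
  cases hg : Nat.blt g 11 <;> rw [hg] at h <;> simp only [cond_true, cond_false, Bool.and_eq_true] at h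
  · obtain ⟨⟨hg13, hi⟩, hs⟩ := h
    rw [Nat.blt_eq] at hg13
    have hg11 : ¬ g < 11 := fun hh => by rw [← Nat.blt_eq, hg] at hh; exact Bool.noConfusion hh
    have hn : g - 11 ∈ [0, 1] := by simp only [List.mem_cons, List.not_mem_nil, or_false]; omega
    have hk := kapOK_eq
    simp only [kapOK, List.all_eq_true, Bool.and_eq_true, List.mem_range] at hk
    obtain ⟨⟨hc, hfix⟩, hperm⟩ := hk _ hn
    obtain ⟨hp, hmul⟩ := hperm _ ai
    obtain ⟨x, hxK, hxT⟩ := M.exists_K (t := kapT (g - 11)) (by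
      simp only [imgChk, Bool.and_eq_true] at hc; exact hc.1.1.1)
    have hxH := M.conj_EE_of_fix hc hxT (Nat.eq_of_beq_eq_true hfix)
    refine ⟨x, hxH, M.hK hxK, M.move_elt hG hxH ha hb ?_ hs⟩
    have hconj : x * M.kO (a / 64) = M.kO (b / 64) * x := M.K_eq (mul_mem hxK (M.kO_mem ai).1)
      (mul_mem (M.kO_mem bi).1 hxK) (hxT.mul (M.kO_mem ai).2)
      (by rw [Nat.eq_of_beq_eq_true hmul, ← Nat.eq_of_beq_eq_true hi]; exact (M.kO_mem bi).2.mul hxT)
    rw [← M.conj_iv hc hxT, elt]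
    calc x * (M.iv (whAt (a % 64)) * M.kO (a / 64)) * x⁻¹
        = x * M.iv (whAt (a % 64)) * x⁻¹ * (x * M.kO (a / 64)) * x⁻¹ := by group
      _ = _ := by rw [hconj]; group
  · obtain ⟨hi, hs⟩ := h
    have hgH : M.iv (2 ^ g) ∈ HH z := mem_HH.2 (X.std_eleven.comm _ (M.iv_mem _) _ X.z_mem_std)
    refine ⟨_, hgH, M.iv_mem_NV _, M.move_elt hG hgH ha hb ?_ hs⟩
    rw [Nat.eq_of_beq_eq_true hi, M.iv_xor, M.iv_xor, ← M.conj_iv (fix_facts ai).1 (M.kO_mem ai).2, elt,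
      M.iv_inv, M.iv_comm (whAt _) (2 ^ g)]
    group

/-- The rule holds at the code. -/
def Good (c : ℕ) : Prop := ∀ (hc : c < 4096), (IsConj z (M.elt c) ↔ M.Rule (M.elt c) (M.elt_NV hG hc))

theorem tree_good : ∀ (l : List ℕ) (seen target : ℕ), treeOK l seen target = true →
    (∀ c < 4096, seen.testBit c = true → 64 ≤ c → M.Good hG c) →
    ∀ c < 4096, target.testBit c = true → 64 ≤ c → M.Good hG c
  | [], seen, target, h, hs => by
    simp only [treeOK] at h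
    rwa [← Nat.eq_of_beq_eq_true h]
  | e :: es, seen, target, h, hs => by
    simp only [treeOK, Bool.and_eq_true] at h
    obtain ⟨⟨hp, hst⟩, hrec⟩ := h
    refine tree_good es _ target hrec fun c hc hbit h64 hc' => ?_
    rw [Nat.testBit_or, Bool.or_eq_true] at hbit
    rcases hbit with hbit | hbit
    · exact hs c hc hbit h64 hc'
    rw [Nat.one_shiftLeft, Nat.testBit_two_pow, decide_eq_true_eq] at hbit
    subst hbit
    have ha : e / 4096 % 4096 < 4096 := Nat.mod_lt _ (by norm_num)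
    obtain ⟨x, hx, hxN, ex⟩ := M.step_NH hG ha hc hst
    have ha64 : 64 ≤ e / 4096 % 4096 := by
      by_contra hlt
      have h1 := (M.elt_WV_iff hG ha).2 (by omega)
      have h2 : vk z (M.elt (e % 4096)) ∈ X.WV := by
        rw [ex]
        obtain ⟨a', ha'W, ea'⟩ : ∃ y ∈ preV X.L.J X.WV, vk z y = vk z (M.elt (e / 4096 % 4096)) :=
          ⟨_, ⟨M.elt_EE hG ha, h1⟩, rfl⟩
        rw [← ea', act_vk hx ha'W.1]
        exact (X.std_inf_EE (M22Order.conj_mem_of_mem_normalizer hxN (X.preV_le_std ha'W))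
          (conj_mem_EE hx ha'W.1)).2
      have := (M.elt_WV_iff hG hc).1 h2
      omega
    rw [act_vk hx (M.elt_EE hG ha)] at ex
    obtain ⟨f, hf, efx⟩ := isConj_congr_vk hG X (conj_mem_EE hx (M.elt_EE hG ha)) (M.elt_EE hG hc)
      (by rw [← ex]; exact M.elt_vk_ne hG hc h64) ex.symm
    have hfx : f * x ∈ NV X.std := mul_mem (EE_le_NV hf) hxN
    have efx' : f * x * M.elt (e / 4096 % 4096) * (f * x)⁻¹ = M.elt (e % 4096) := by
      rw [← efx]; group
    have h1 : IsConj z (M.elt (e % 4096)) ↔ IsConj z (M.elt (e / 4096 % 4096)) := by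
      rw [← efx']
      exact ⟨fun h => h.trans (isConj_iff.2 ⟨f * x, rfl⟩).symm, fun h => h.trans (isConj_iff.2 ⟨f * x, rfl⟩)⟩
    have h2 := M.rule_conj hfx (M.elt_NV hG ha) (by rw [efx']; exact M.elt_NV hG hc)
    simp only [efx'] at h2
    rw [h1, h2]
    exact hs _ ha hp ha64 ha

set_option maxHeartbeats 800000 in
theorem roots_type {w : VV z} (hw : w ∈ X.five) :
    IsConj z (M.elt (root 0)) ∧ ¬ IsConj z (M.elt (root 1)) ∧
      (IsConj z (M.elt (root 3)) ↔ ¬ IsConj z (M.elt (root 2))) ∧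
      ∀ c < 4096, (omask 3).testBit c = true → (IsConj z (M.elt c) ↔ IsConj z (M.elt (root 3))) := by
  classical
  set B : ℕ → Bool := fun k => decide (vk z (M.elt (root k)) ∈ Chart.orb z P w) with hB
  have hU : ∀ c < 4096, sing c = true → vk z (M.elt c) ∈ X.U0 := fun c hc => M.all_singular hG hc
  have h64 : ∀ c, sing c = true → 64 ≤ c := fun c h => by
    simp only [sing, Bool.and_eq_true, Nat.ble_eq] at h; exact h.1.1
  have hO : ∀ c < 4096, sing c = true → (IsConj z (M.elt c) ↔ vk z (M.elt c) ∉ Chart.orb z P w) := fun c hc hs =>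
    isConj_iff_not_five hG (M.elt_EE hG hc) (hU c hc hs) (M.elt_vk_ne hG hc (h64 c hs)) hw
  have horb : ∀ k < 4, ∀ c < 4096, (omask k).testBit c = true →
      (IsConj z (M.elt c) ↔ IsConj z (M.elt (root k))) := by
    intro k hk
    obtain ⟨hr, hr64, -⟩ := root_facts k hk
    have ho := orbitOK_eq
    simp only [orbitOK, Bool.and_eq_true, List.all_eq_true, List.mem_range] at ho
    obtain ⟨⟨⟨-, ht⟩, -⟩, -⟩ := ho.1 k hk
    have key : ∀ (l : List ℕ) (seen target : ℕ), treeOK l seen target = true →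
        (∀ c < 4096, seen.testBit c = true → 64 ≤ c → (IsConj z (M.elt c) ↔ IsConj z (M.elt (root k)))) →
        ∀ c < 4096, target.testBit c = true → 64 ≤ c → (IsConj z (M.elt c) ↔ IsConj z (M.elt (root k))) := by
      intro l
      induction l with
      | nil =>
        intro seen target h hs
        simp only [treeOK] at h
        rwa [← Nat.eq_of_beq_eq_true h]
      | cons e es ih =>
        intro seen target h hs
        simp only [treeOK, Bool.and_eq_true] at h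
        obtain ⟨⟨hp, hst⟩, hrec⟩ := h
        refine ih _ target hrec fun c hc hbit h64c => ?_
        rw [Nat.testBit_or, Bool.or_eq_true] at hbit
        rcases hbit with hbit | hbit
        · exact hs c hc hbit h64c
        rw [Nat.one_shiftLeft, Nat.testBit_two_pow, decide_eq_true_eq] at hbit
        subst hbit
        have ha : e / 4096 % 4096 < 4096 := Nat.mod_lt _ (by norm_num)
        obtain ⟨x, hx, hxN, ex⟩ := M.step_NH hG ha hc hst
        rw [act_vk hx (M.elt_EE hG ha)] at ex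
        obtain ⟨f, hf, efx⟩ := isConj_congr_vk hG X (conj_mem_EE hx (M.elt_EE hG ha)) (M.elt_EE hG hc)
          (by rw [← ex]; exact M.elt_vk_ne hG hc h64c) ex.symm
        have ha64 : 64 ≤ e / 4096 % 4096 := by
          by_contra hlt
          have hm : M.elt (e / 4096 % 4096) ∈ X.std :=
            X.preV_le_std ⟨M.elt_EE hG ha, (M.elt_WV_iff hG ha).2 (by omega)⟩
          have hm' : M.elt (e % 4096) ∈ X.std := by
            rw [← efx]
            exact M22Order.conj_mem_of_mem_normalizer (EE_le_NV hf) (M22Order.conj_mem_of_mem_normalizer hxN hm)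
          have := (M.elt_WV_iff hG hc).1 (X.std_inf_EE hm' (M.elt_EE hG hc)).2
          omega
        rw [← hs _ ha hp ha64, ← efx]
        exact ⟨fun h => h.trans (isConj_iff.2 ⟨f * x, by group⟩).symm,
          fun h => h.trans (isConj_iff.2 ⟨f * x, by group⟩)⟩
    intro c hc hbit
    refine key _ _ _ ht (fun d hd hbit' _ => ?_) c hc hbit (h64 c ((sing_iff hc).2 ⟨k, hk, hbit⟩))
    rw [Nat.one_shiftLeft, Nat.testBit_two_pow, decide_eq_true_eq] at hbit'
    rw [hbit']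
  have hsel : ∀ c < 4096, (64 ≤ c ∧ vk z (M.elt c) ∈ Chart.orb z P w) ↔
      sel (B 0) (B 1) (B 2) (B 3) c = true := by
    intro c hc
    have hB' : ∀ k < 4, (omask k).testBit c = true →
        (vk z (M.elt c) ∈ Chart.orb z P w ↔ B k = true) := by
      intro k hk hbit
      obtain ⟨hr, -, hrs⟩ := root_facts k hk
      have h := horb k hk c hc hbit
      rw [hO c hc ((sing_iff hc).2 ⟨k, hk, hbit⟩), hO _ hr hrs] at h
      simp only [hB, decide_eq_true_eq]
      exact not_iff_not.1 h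
    constructor
    · rintro ⟨hc64, hm⟩
      have hsq : M.elt c * M.elt c = 1 := (QQ_vk_eq_zero X.L.J (M.elt_EE hG hc)).1 (by
        obtain ⟨d, hd, e⟩ := hm
        rw [← e, QQ_act X.L.J hd.1 w]
        exact X.QQ_WV hw.1)
      have : sing c = true := by
        simp only [sing, Bool.and_eq_true, Nat.ble_eq, Nat.blt_eq]
        exact ⟨⟨hc64, hc⟩, by rw [(M.elt_sq hc).1 hsq]; exact Nat.beq_refl _⟩
      obtain ⟨k, hk, hbit⟩ := (sing_iff hc).1 this
      have hBk := (hB' k hk hbit).1 hm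
      have : k = 0 ∨ k = 1 ∨ k = 2 ∨ k = 3 := by omega
      rcases this with rfl | rfl | rfl | rfl <;> simp [sel, hBk, hbit]
    · intro h
      simp only [sel, Bool.or_eq_true, Bool.and_eq_true] at h
      obtain ⟨k, hk, hBk, hbit⟩ : ∃ k < 4, B k = true ∧ (omask k).testBit c = true := by
        rcases h with ((⟨a, b⟩ | ⟨a, b⟩) | ⟨a, b⟩) | ⟨a, b⟩
        exacts [⟨0, by norm_num, a, b⟩, ⟨1, by norm_num, a, b⟩, ⟨2, by norm_num, a, b⟩, ⟨3, by norm_num, a, b⟩]
      exact ⟨h64 c ((sing_iff hc).2 ⟨k, hk, hbit⟩), (hB' k hk hbit).2 hBk⟩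
  set L := (List.range 4096).filter (sel (B 0) (B 1) (B 2) (B 3)) with hL
  have hcount : (Chart.orb z P w \ (X.WV : Set (VV z))).ncard = L.length := by
    rw [← List.toFinset_card_of_nodup (List.Nodup.filter _ List.nodup_range), ← Set.ncard_coe_finset]
    symm
    refine Set.ncard_congr (fun c _ => vk z (M.elt c)) (fun c hc => ?_) (fun a b ha hb e => ?_) fun v hv => ?_
    · simp only [List.coe_toFinset, Set.mem_ofPred_eq, List.mem_filter, List.mem_range] at hc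
      obtain ⟨hc64, hm⟩ := (hsel c hc.1).2 hc.2
      exact ⟨hm, fun hW => by have := (M.elt_WV_iff hG hc.1).1 hW; omega⟩
    · simp only [List.coe_toFinset, Set.mem_ofPred_eq, List.mem_filter, List.mem_range] at ha hb
      exact M.code_inj hG ha.1 hb.1 e
    · obtain ⟨x, hx, rfl⟩ := vk_surj v
      obtain ⟨c, hc, e⟩ := M.exists_code hG hx
      refine ⟨c, ?_, e⟩
      simp only [List.coe_toFinset, Set.mem_ofPred_eq, List.mem_filter, List.mem_range]
      refine ⟨hc, (hsel c hc).1 ⟨?_, e.symm ▸ hv.1⟩⟩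
      by_contra hlt
      exact hv.2 (e ▸ (M.elt_WV_iff hG hc).2 (by omega))
  have hfive : Chart.orb z P w ∩ (X.WV : Set (VV z)) = X.five := by
    ext v
    constructor
    · rintro ⟨hvo, hvW⟩
      have hv0 : v ≠ 0 := fun e => by
        obtain ⟨d, hd, ed⟩ := hvo
        exact hw.2.1 (act_injective hd.1 (by rw [ed, e, map_zero]))
      rcases X.deg_cases hvW hv0 with h | h
      · exact absurd hvo (X.five_not_three hw ⟨hvW, hv0, h⟩)
      · exact ⟨hvW, hv0, h⟩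
    · intro hv
      obtain ⟨f, hf, hfe⟩ := X.five_trans hw hv
      exact ⟨⟨f, X.NC_le hf, hfe⟩, hv.1⟩
  have hlen : L.length = 1368 := by
    have h := Set.ncard_inter_add_ncard_sdiff_eq_ncard (Chart.orb z P w) (X.WV : Set (VV z))
    rw [hfive, X.five_ncard, hcount, X.orb_five hw] at h
    omega
  obtain ⟨h0, h1, h3⟩ := sel_len _ _ _ _ hlen
  have hz : ∀ k < 4, (IsConj z (M.elt (root k)) ↔ B k = false) := fun k hk => by
    obtain ⟨hr, -, hrs⟩ := root_facts k hk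
    rw [hO _ hr hrs]; simp [hB]
  refine ⟨(hz 0 (by norm_num)).2 h0, fun h => ?_, ?_, horb 3 (by norm_num)⟩
  · rw [(hz 1 (by norm_num)).1 h] at h1
    exact Bool.noConfusion h1
  · rw [hz 3 (by norm_num), hz 2 (by norm_num), h3]
    cases B 2 <;> simp

/-- The rule, for a complement that is good at one place. -/
theorem rule (hgood : ¬ IsConj z (M.elt (root 2))) {n : G} (hn : n ∈ NV X.std) (hnV : n ∉ X.std)
    (hn2 : n * n = 1) : IsConj z n ↔ M.Rule n hn := by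
  obtain ⟨w, hw⟩ := Set.nonempty_of_ncard_ne_zero (show X.five.ncard ≠ 0 by rw [X.five_ncard]; omega)
  obtain ⟨t0, t1, t3, -⟩ := M.roots_type hG hw
  have hroot : ∀ k < 4, M.Good hG (root k) := by
    intro k hk hc
    rw [M.rule_elt hG hc]
    obtain ⟨r0, r1, r2, r3⟩ := roots_rule
    have : k = 0 ∨ k = 1 ∨ k = 2 ∨ k = 3 := by omega
    rcases this with rfl | rfl | rfl | rfl
    · exact iff_of_true t0 r0
    · exact iff_of_false t1 (by simp [r1])
    · exact iff_of_false hgood (by simp [r2])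
    · exact iff_of_true (t3.2 hgood) r3
  obtain ⟨f, hf, hfE⟩ := M.exists_conj_EE hG hn hnV hn2
  obtain ⟨c, hc, e⟩ := M.exists_code hG hfE
  have hfV : f * n * f⁻¹ ∉ X.std := fun h => hnV (by
    have h' := M22Order.conj_mem_of_mem_normalizer (inv_mem hf) h
    rwa [show f⁻¹ * (f * n * f⁻¹) * f⁻¹⁻¹ = n by group] at h')
  have h64 : 64 ≤ c := by
    by_contra hlt
    refine hfV (X.preV_le_std ⟨hfE, ?_⟩)
    rw [← e]; exact (M.elt_WV_iff hG hc).2 (by omega)
  have hsq : M.elt c * M.elt c = 1 := by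
    rw [← QQ_vk_eq_zero X.L.J (M.elt_EE hG hc), e, QQ_vk_eq_zero X.L.J hfE,
      show f * n * f⁻¹ * (f * n * f⁻¹) = f * (n * n) * f⁻¹ by group, hn2]
    group
  have hs : sing c = true := by
    simp only [sing, Bool.and_eq_true, Nat.ble_eq, Nat.blt_eq]
    exact ⟨⟨h64, hc⟩, by rw [(M.elt_sq hc).1 hsq]; exact Nat.beq_refl _⟩
  obtain ⟨k, hk, hbit⟩ := (sing_iff hc).1 hs
  have ho := orbitOK_eq
  simp only [orbitOK, Bool.and_eq_true, List.all_eq_true, List.mem_range] at ho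
  obtain ⟨⟨⟨-, ht⟩, -⟩, -⟩ := ho.1 k hk
  have hgc : M.Good hG c := M.tree_good hG _ _ _ ht (fun d hd hbit' _ => by
    rw [Nat.one_shiftLeft, Nat.testBit_two_pow, decide_eq_true_eq] at hbit'
    subst hbit'
    exact hroot k hk) c hc hbit h64
  obtain ⟨g, hg, eg⟩ := isConj_congr_vk hG X (M.elt_EE hG hc) hfE (M.elt_vk_ne hG hc h64) e
  have hgf : f⁻¹ * g ∈ NV X.std := mul_mem (inv_mem hf) (EE_le_NV hg)
  have efin : f⁻¹ * g * M.elt c * (f⁻¹ * g)⁻¹ = n := by
    rw [show f⁻¹ * g * M.elt c * (f⁻¹ * g)⁻¹ = f⁻¹ * (g * M.elt c * g⁻¹) * f by group, eg]; group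
  have h2 := M.rule_conj hgf (M.elt_NV hG hc) (by rw [efin]; exact hn)
  simp only [efin] at h2
  rw [h2, ← hgc hc, ← efin]
  exact ⟨fun h => h.trans (isConj_iff.2 ⟨_, rfl⟩).symm, fun h => h.trans (isConj_iff.2 ⟨_, rfl⟩)⟩

end Model

variable {G : Type u} [Group G] [Finite G] {z : G} {P : Subgroup G} {X : Chart z P}

/-- The shifted complement. -/
theorem exists_good [IsSimpleGroup G] (hG : ¬ IsMulCommutative G) (M : Model X) :
    ∃ M' : Model X, ¬ IsConj z (M'.elt (root 2)) := by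
  classical
  obtain ⟨w, hw⟩ := Set.nonempty_of_ncard_ne_zero (show X.five.ncard ≠ 0 by rw [X.five_ncard]; omega)
  by_cases hbad : IsConj z (M.elt (root 2))
  swap
  · exact ⟨M, hbad⟩
  obtain ⟨-, -, t3, horb⟩ := M.roots_type hG hw
  -- the twisting map
  let d : G → ℕ := fun k => if h : k ∈ NV X.std then vx 0 (M.im ⟨k, h⟩ 0) else 0
  have hd : ∀ {k} (h : k ∈ NV X.std), d k = vx 0 (M.im ⟨k, h⟩ 0) := fun h => dif_pos h
  have hmul : ∀ k ∈ M.K, ∀ l ∈ M.K, M.iv (d k) * k * (M.iv (d l) * l) = M.iv (d (k * l)) * (k * l) := by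
    intro k hk l hl
    have hkN := M.hK hk
    have hlN := M.hK hl
    have hc : k * M.iv (d l) * k⁻¹ = M.iv (vx (M.im ⟨k, hkN⟩ 0) (M.im ⟨k * l, mul_mem hkN hlN⟩ 0)) := by
      rw [hd hlN, M.conj_pair hkN (show (0 : ℕ) < 24 by norm_num) (show M.im ⟨l, hlN⟩ 0 < 24 from ix_lt _)]
      congr 2
      simp only [Ident.im]
      rw [show (⟨k * l, mul_mem hkN hlN⟩ : ↥(NV X.std)) = ⟨k, hkN⟩ * ⟨l, hlN⟩ from rfl, map_mul, pt_ix,
        Subgroup.coe_mul, Equiv.Perm.mul_apply]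
    have e : d (k * l) = d k ^^^ vx (M.im ⟨k, hkN⟩ 0) (M.im ⟨k * l, mul_mem hkN hlN⟩ 0) := by
      rw [hd hkN, hd (mul_mem hkN hlN)]
      have key : ∀ a b c : ℕ, a ^^^ b = a ^^^ c ^^^ (c ^^^ b) := fun a b c => by
        rw [Nat.xor_assoc, ← Nat.xor_assoc c, Nat.xor_self, Nat.zero_xor]
      exact key _ _ _
    rw [e, M.iv_xor, ← hc]; group
  let K' : Subgroup G :=
    { carrier := {g | ∃ k ∈ M.K, g = M.iv (d k) * k}
      one_mem' := ⟨1, one_mem _, by
        have e : d 1 = 0 := by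
          rw [hd (one_mem _)]
          simp only [Ident.im, show (⟨1, one_mem _⟩ : ↥(NV X.std)) = 1 from rfl, map_one, Subgroup.coe_one,
            Equiv.Perm.one_apply, ix_pt (show 0 < 24 by norm_num), vx, Nat.xor_self]
        rw [e, M.iv_zero, one_mul]⟩
      mul_mem' := by
        rintro _ _ ⟨k, hk, rfl⟩ ⟨l, hl, rfl⟩
        exact ⟨k * l, mul_mem hk hl, hmul k hk l hl⟩
      inv_mem' := by
        rintro _ ⟨k, hk, rfl⟩
        refine ⟨k⁻¹, inv_mem hk, inv_eq_of_mul_eq_one_right ?_⟩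
        rw [hmul k hk _ (inv_mem hk), mul_inv_cancel, mul_one]
        have e : d 1 = 0 := by
          rw [hd (one_mem _)]
          simp only [Ident.im, show (⟨1, one_mem _⟩ : ↥(NV X.std)) = 1 from rfl, map_one, Subgroup.coe_one,
            Equiv.Perm.one_apply, ix_pt (show 0 < 24 by norm_num), vx, Nat.xor_self]
        rw [e, M.iv_zero] }
  have hK' : K' ≤ NV X.std := by
    rintro _ ⟨k, hk, rfl⟩
    exact mul_mem (M.iv_mem_NV _) (M.hK hk)
  have hpr : ∀ k (hk : k ∈ M.K), M.pr ⟨M.iv (d k) * k, mul_mem (M.iv_mem_NV _) (M.hK hk)⟩ = M.pr ⟨k, M.hK hk⟩ :=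
    fun k hk => by
      rw [show (⟨M.iv (d k) * k, _⟩ : ↥(NV X.std)) = ⟨M.iv (d k), M.iv_mem_NV _⟩ * ⟨k, M.hK hk⟩ from rfl, map_mul,
        show M.pr ⟨M.iv (d k), M.iv_mem_NV _⟩ = 1 from
          (Cfsg.Agent.M24CocodeSplit.Split.proj_eq_one (VN X.std) M.φ).2 (M.iv_mem _), one_mul]
  let M' : Model X :=
    { toIdent := M.toIdent
      hz := M.hz
      K := K'
      hK := hK'
      inj := by
        rintro _ ⟨k, hk, rfl⟩ hV
        have hkV : k ∈ X.std := by simpa using mul_mem (inv_mem (M.iv_mem (d k))) hV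
        obtain rfl := M.inj k hk hkV
        rw [mul_one]
        have : d 1 = 0 := by
          rw [hd (one_mem _)]
          simp only [Ident.im, show (⟨1, one_mem _⟩ : ↥(NV X.std)) = 1 from rfl, map_one, Subgroup.coe_one,
            Equiv.Perm.one_apply, ix_pt (show 0 < 24 by norm_num), vx, Nat.xor_self]
        rw [this, M.iv_zero]
      surj := fun m => by
        obtain ⟨k, hk, e⟩ := M.surj m
        exact ⟨_, ⟨k, hk, rfl⟩, (hpr k hk).trans e⟩ }
  refine ⟨M', ?_⟩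
  obtain ⟨hr, -, -⟩ := root_facts 2 (by norm_num)
  obtain ⟨hi, hj⟩ := div_mod_code hr
  obtain ⟨hkK, hkT⟩ := M.kO_mem hi
  set o := root 2 / 64 with ho
  have hdo : d (M.kO o) = shift (oT o) := by
    rw [hd (M.hK hkK), shift, Ident.im]
    congr 1
    obtain ⟨h, ht⟩ := hkT
    rw [ht, ix_pt (show 0 < 24 by norm_num)]
  have hkO' : M'.kO o = M.iv (shift (oT o)) * M.kO o := by
    refine M'.kO_eq hi ⟨M.kO o, hkK, by rw [hdo]⟩ ?_
    obtain ⟨h, ht⟩ := hkT
    refine ⟨mul_mem (M.iv_mem_NV _) h, ?_⟩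
    have e := hpr (M.kO o) hkK
    simp only [hdo] at e
    show IsTab (oT o) ((M.pr ⟨M.iv (shift (oT o)) * M.kO o, _⟩ : ↥Cfsg.M24) : Equiv.Perm GolayPt)
    rw [e]; exact ht
  have helt : M'.elt (root 2) = M.iv (whAt (root 2 % 64) ^^^ shift (oT o)) * M.kO o := by
    show M.iv (whAt (root 2 % 64)) * M'.kO o = _
    rw [hkO', M.iv_xor, mul_assoc]
  obtain ⟨⟨hc, hdiv, hbit⟩, hsame, hW⟩ := shifted_root
  have hvk := M.vk_elt_of_same hG hc hW hsame
  rw [hdiv, ← helt] at hvk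
  have hE' : M'.elt (root 2) ∈ EE z := by rw [helt]; exact mul_mem (M.iv_EE hG hW) (M.kO_EE hG hi)
  obtain ⟨f, hf, ef⟩ := Model.isConj_congr_vk hG X (M.elt_EE hG hc) hE' (M.elt_vk_ne hG hc (by norm_num)) hvk.symm
  intro h
  have h' : IsConj z (M.elt 1404) := h.trans (isConj_iff.2 ⟨f, ef⟩).symm
  exact t3.1 ((horb 1404 hc hbit).1 h') hbad

end Cfsg.Agent.J4V.Invol
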