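import Cfsg.Agent.Lib.J4Order.Parts
import Cfsg.Agent.Lib.J4Order.Types
import Cfsg.Agent.Lib.J4Order.Stab
import Cfsg.Agent.Lib.J4Order.CountT
import Cfsg.Agent.Lib.J4Order.SiList

/-!
# Janko four type: the order

* `card_eq_of_hist`: the order, from the histogram of the list fixing the sextet.
-/

set_option autoImplicit false
set_option maxRecDepth 20000
set_option linter.style.haveILetI false
set_option linter.unusedSectionVars false

namespace Cfsg.Agent.J4Order

open Subgroup
open Cfsg Cfsg.Agent.Golay.Basic Cfsg.Agent.Golay.Cert Cfsg.Agent.Golay.TabList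
open Cfsg.Agent.Golay.M24
open Cfsg.Agent.J4Local Cfsg.Agent.J4Eleven
open Cfsg.Agent.J4Order.Model
open Cfsg.Agent.J4Order.SiSpec (Si)
open Cfsg.Agent.J4V.Invol.Checks (root)

universe u

variable {G : Type u} [Group G] [Finite G] {z : G} {P : Subgroup G}

/-- The order, from the histogram. -/
theorem card_eq_of_hist (hval : (∀ k, SiSpec.Inv (Part.histCount k)) → ∀ k ≤ 77, Part.histTotal k Si = Dict.nk k)
    (hG : ¬ IsMulCommutative G) [IsSimpleGroup G] (X : Chart z P) : Nat.card G = 86775571046077562880 := by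
  obtain ⟨φ, ε, e1, e2, e3, e4, e5⟩ := X.exists_phi_eps hG
  obtain ⟨M0⟩ := J4V.Invol.exists_model hG (⟨φ, ε, e1, e2, e3, e4, e5⟩ : J4V.Invol.Ident X)
  obtain ⟨M, hgood⟩ := J4V.Invol.exists_good hG M0
  refine Dict.card_of_counts M hG hgood (Dict.stabFacts M hG hgood) SiSpec.spec_Si
    (fun _ hu huN h2 => SiSpec.over_Si M hu huN h2) (hval fun k => ?_) TData.Ti_spec TData.Ti_complete
    TData.total_t
  intro g hg s hs s2 hs2 u hu u2 hu2 h1 h2
  exact Dict.hist_conj M hG hgood SiSpec.spec_Si k hg hs hs2 hu hu2 h1 h2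

end Cfsg.Agent.J4Order
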