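import Cfsg.Agent.Lib.J4Order.Model
import Cfsg.Agent.Lib.J4Order.PartData

/-!
# Janko four type: the 77 classes in the model

A code `x = 128 q + w` below 8192 stands for the element of `E` with the vector `eVec x` and the table `eTab x`.

* `tE x`: an involution not of the class of `z`;
* `classL i`: the 77 classes, `rep i` the first of one;
* `inRule f x`: on the line of `f`, or commuting with it and no product with a member of it of the second class;
* `conjRel s a x y`: `(a, s) x (a, s)⁻¹ = y`;
* `fixB s a i`: `(a, s)` sends the representative of a class into the class, `common` counts those fixed by two.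
-/

set_option autoImplicit false
set_option maxRecDepth 20000

namespace Cfsg.Agent.J4Order.Part

open Cfsg Cfsg.Agent.Golay.Basic Cfsg.Agent.Golay.Cert Cfsg.Agent.Golay.TabList
open Cfsg.Agent.Golay.M24
open Cfsg.Agent.J4Order.Model
open Cfsg.Agent.J4V.Invol

/-- The element of the complement fixing the tetrads. -/
def qEl (q : ℕ) : El := (Checks.oT q, PartData.oP.getD q 0)

/-- The vector of a code. -/
def eVec (x : ℕ) : ℕ := enc Checks.wGens (x % 128)

/-- The table of a code. -/
def eTab (x : ℕ) : ℕ := Checks.oT (x / 128)

/-- The parity of a seven-bit number. -/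
def parity (m : ℕ) : Bool :=
  m.testBit 0 ^^ m.testBit 1 ^^ m.testBit 2 ^^ m.testBit 3 ^^ m.testBit 4 ^^ m.testBit 5 ^^ m.testBit 6

/-- The action of the second half of `E` on the first, in indices. -/
def qAct (q w : ℕ) : ℕ := bif parity (enc PartData.betaB q &&& w) then w ^^^ PartData.zc else w

/-- The product. -/
def eMul (x y : ℕ) : ℕ := ((x / 128) ^^^ (y / 128)) * 128 + ((x % 128) ^^^ qAct (x / 128) (y % 128))

/-- Commuting. -/
def eComm (x y : ℕ) : Bool := Nat.beq (eMul x y) (eMul y x)

/-- An involution not of the class of `z`. -/
def tE (x : ℕ) : Bool := PartData.tMask.testBit x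

/-- The class of a code, 127 if none. -/
def cls (x : ℕ) : ℕ := (PartData.clsT.getD (x / 128) 0 >>> (7 * (x % 128))) % 128

/-- A class. -/
def classL (i : ℕ) : List ℕ := PartData.classes.getD i []

/-- The representative of a class. -/
def rep (i : ℕ) : ℕ := (classL i).getD 0 0

/-- The element of order three fixing the tetrads moves a code. -/
def rAct (x : ℕ) : ℕ := enc PartData.qR (x / 128) * 128 + enc PartData.wR (x % 128)

/-- The six on the line of an element. -/
def lineOf (f : ℕ) : List ℕ :=
  [f, rAct f, rAct (rAct f), f ^^^ PartData.zc, rAct f ^^^ PartData.zc, rAct (rAct f) ^^^ PartData.zc]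

/-- The rule for two members of a class. -/
def inRule (f x : ℕ) : Bool :=
  (lineOf f).contains x || (eComm x f && eComm x (rAct f) && eComm x (rAct (rAct f)) &&
    !tE (eMul x f) && !tE (eMul x (rAct f)) && !tE (eMul x (rAct (rAct f))))

/-- The element `(a, s)` conjugates one code to the other. -/
def conjRel (s : El) (a x y : ℕ) : Bool :=
  Nat.beq (mulTab (eTab y) s.1) (mulTab s.1 (eTab x)) &&
    Nat.beq (eVec y) (a ^^^ ap s (eVec x) ^^^ enc (Checks.oIm (y / 128)) a)

/-- `(a, s)` fixes a class. -/
def fixB (s : El) (a i : ℕ) : Bool := (classL i).any (conjRel s a (rep i))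

/-- The number of classes fixed by two elements. -/
def common (s : El) (a : ℕ) (s' : El) (b : ℕ) : ℕ :=
  (List.range 77).countP fun i => fixB s a i && fixB s' b i

/-- The pairs over `s`, `s'` with `z` in the group of the product and `k` common classes. -/
def histCount (k : ℕ) (s s' : El) : ℕ :=
  ((zList s).map fun a => (tList s').countP fun b =>
    Nat.beq (tgt s s' a b) zv && Nat.beq (common s a s' b) k).sum

/-- The pairs over a list. -/
def histTotal (k : ℕ) (L : List El) : ℕ := (L.map fun s => (L.map (histCount k s)).sum).sum

/-- The encoding agrees with the tables. -/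
def codeOK : Bool :=
  Nat.beq (eVec PartData.zc) zv &&
  (List.range 64).all fun q => im (qEl q) == Checks.oIm q &&
    (List.range 7).all fun i =>
      Nat.beq (ap (qEl q) (eVec (2 ^ i))) (eVec (qAct q (2 ^ i)))

theorem codeOK_eq : codeOK = true := by decide +kernel

/-- The element of order three acts as said. -/
def rActOK : Bool :=
  (List.range 6).all (fun j => Nat.blt (PartData.qR.getD j 0) 64 &&
    Nat.beq (mulTab (Checks.oT (PartData.qR.getD j 0)) Data.rT) (mulTab Data.rT (Checks.oT (2 ^ j)))) &&
  (List.range 7).all fun i => Nat.blt (PartData.wR.getD i 0) 128 &&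
    Nat.beq (eVec (PartData.wR.getD i 0)) (enc Data.rI (eVec (2 ^ i)))

theorem rActOK_eq : rActOK = true := by decide +kernel

/-- The classes have 36 members each, numbered as tabulated, and are all the involutions of the second class. -/
def classOK : Bool :=
  Nat.beq PartData.classes.length 77 &&
  (List.range 77).all (fun i => Nat.beq (classL i).length 36 &&
    (classL i).all fun x => Nat.blt x 8192 && Nat.beq (cls x) i) &&
  (List.range 8192).all fun x => bif tE x then (classL (cls x)).contains x else Nat.beq (cls x) 127

theorem classOK_eq : classOK = true := by decide +kernel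

/-- What satisfies the rule with a representative lies in its class. -/
def ruleOK : Bool :=
  (List.range 77).all fun i => PartData.classes.all fun L => L.all fun x =>
    !inRule (rep i) x || Nat.beq (cls x) i

end Cfsg.Agent.J4Order.Part
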