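import Cfsg.Agent.Lib.J4Order.Double
import Cfsg.Agent.Lib.J4Order.BridgeT
import Cfsg.Agent.Lib.J4V.Invol.Classes
import Cfsg.Agent.Lib.J4V.Invol.Duad
import Cfsg.Agent.Lib.Involutions.OrderFormula

/-!
# Janko four type: the order from the two counts

* `card_centralizer_tv`: the centraliser of the duad;
* `over_of_table`: completeness of a list, from its tables;
* `card_of_counts`: the order.
-/

set_option autoImplicit false
set_option maxRecDepth 20000
set_option linter.style.haveILetI false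
set_option linter.unusedSectionVars false

namespace Cfsg.Agent.J4Order.Dict

open Subgroup
open Cfsg Cfsg.Agent.Golay.Basic Cfsg.Agent.Golay.Cert Cfsg.Agent.Golay.TabList
open Cfsg.Agent.Golay.M24
open Cfsg.Agent.J4Local Cfsg.Agent.J4Eleven
open Cfsg.Agent.J4V.Split (NV VN)
open Cfsg.Agent.J4Order.Model
open Cfsg.Agent.J4V.Invol.Checks (root)

universe u

variable {G : Type u} [Group G] [Finite G] {z : G} {P : Subgroup G} {X : Chart z P} (M : J4V.Invol.Model X)

variable [IsSimpleGroup G] (hG : ¬ IsMulCommutative G) (hgood : ¬ IsConj z (M.elt (root 2)))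

include hG

theorem card_centralizer_tv : Nat.card ↥(centralizer ({M.iv tv} : Set G)) = 2048 * 887040 := by
  obtain ⟨ht, ht1, htn⟩ := tv_other M hG
  have hd0 : M.d0 = M.iv tv := rfl
  rw [← J4V.Invol.Model.card_stab M hG, hd0]
  have hV : Nat.card ↥X.std = 2048 := by rw [X.std_eleven.card]; norm_num
  rw [← hV, ← Nat.card_prod]
  have hle : ∀ a ∈ X.std, a * M.iv tv = M.iv tv * a := fun a ha => X.std_eleven.comm a ha _ ht
  symm
  refine Nat.card_congr (Equiv.ofBijective (fun p : ↥X.std × ↥(M.K ⊓ centralizer ({M.iv tv} : Set G)) =>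
    (⟨(p.1 : G) * p.2, mul_mem (mem_centralizer_singleton_iff.2 (hle _ p.1.2)) p.2.2.2⟩ :
      ↥(centralizer ({M.iv tv} : Set G)))) ⟨?_, ?_⟩)
  · rintro ⟨⟨a, ha⟩, ⟨k, hk⟩⟩ ⟨⟨b, hb⟩, ⟨l, hl⟩⟩ e
    simp only [Subtype.mk.injEq] at e
    obtain ⟨x, hx, rfl⟩ := M.exists_iv ha
    obtain ⟨y, hy, rfl⟩ := M.exists_iv hb
    obtain ⟨rfl, rfl⟩ := M.decomp_unique hx hy hk.1 hl.1 e
    rfl
  · rintro ⟨c, hc⟩
    obtain ⟨a, -, k, hk, rfl⟩ := M.decomp (X.centralizer_le_of_not_zt hG ht ht1 htn hc)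
    have hkc : k ∈ centralizer ({M.iv tv} : Set G) := by
      have := mul_mem (inv_mem (mem_centralizer_singleton_iff.2 (hle _ (M.iv_mem a)) :
        M.iv a ∈ centralizer ({M.iv tv} : Set G))) hc
      rwa [inv_mul_cancel_left] at this
    exact ⟨(⟨M.iv a, M.iv_mem a⟩, ⟨k, hk, hkc⟩), rfl⟩

omit hG in
theorem over_of_table {L : List El} (h : Spec L)
    (hcomplete : ∀ t, tabOK t = true → (∀ s, elOK s = true → s.1 = t → ap s zv = zv) →
      tabPerm t * tabPerm t = 1 → ∃ s ∈ L, perm s = tabPerm t)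
    {u : G} (hu : u ∈ HH z) (huN : u ∈ NV X.std) (h2 : u * u = 1) : Over M L u := by
  obtain ⟨a, ha, k, hk, rfl⟩ := M.decomp huN
  set σ : ↥Cfsg.M24 := M.pr ⟨k, M.hK hk⟩ with hσ
  obtain ⟨t, ⟨htk, -⟩, htI⟩ := exists_tab σ.2
  have hperm : tabPerm t = ((σ : ↥Cfsg.M24) : Equiv.Perm GolayPt) := (isTab_tabPerm htk).unique htI
  have hσ2 : σ * σ = 1 := by
    have e : M.pr ⟨M.iv a * k, huN⟩ = σ := by
      rw [show (⟨M.iv a * k, huN⟩ : ↥(NV X.std)) = ⟨M.iv a, M.iv_mem_NV a⟩ * ⟨k, M.hK hk⟩ from rfl, map_mul,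
        show M.pr ⟨M.iv a, M.iv_mem_NV a⟩ = 1 from
          (Cfsg.Agent.M24CocodeSplit.Split.proj_eq_one (VN X.std) M.φ).2 (M.iv_mem a), one_mul]
    rw [← e, ← map_mul, show (⟨M.iv a * k, huN⟩ * ⟨M.iv a * k, huN⟩ : ↥(NV X.std)) = 1 from Subtype.ext h2,
      map_one]
  have hfix : ∀ s, elOK s = true → s.1 = t → ap s zv = zv := fun s hs e => by
    have hkE : kE M s = k := kE_eq M hs hk ⟨M.hK hk, by rw [e]; exact htI⟩
    refine (elM_HH M hs (a := a)).1 ?_
    rw [elM, hkE]; exact hu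
  obtain ⟨s, hs, e⟩ := hcomplete t htk hfix (by rw [hperm, ← Subgroup.coe_mul, hσ2, Subgroup.coe_one])
  refine ⟨s, hs, a, ha, ?_⟩
  rw [elM, kE_eq M (h.ok s hs) hk ⟨M.hK hk, ?_⟩]
  rw [← hperm, ← e]
  exact isTab_tabPerm (tabOK_of (h.ok s hs)).1

include hgood

/-- The order, from the counts. -/
theorem card_of_counts (F : StabFacts X) {S T : List El} (hS : Spec S)
    (hSc : ∀ u ∈ HH z, u ∈ NV X.std → u * u = 1 → Over M S u) (hval : ∀ k ≤ 77, Part.histTotal k S = nk k)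
    (hT : Spec T)
    (hTc : ∀ t, tabOK t = true → fixDuad t = true → tabPerm t * tabPerm t = 1 → ∃ s ∈ T, perm s = tabPerm t)
    (htot : total tv T = 1544188503) : Nat.card G = 86775571046077562880 := by
  obtain ⟨ht, ht1, htn⟩ := tv_other M hG
  have hz2 : orderOf z = 2 := orderOf_eq_prime (by rw [pow_two]; exact X.zz) X.L.J.ctr.ne_one
  have ht2 : orderOf (M.iv tv) = 2 := orderOf_eq_prime (by rw [pow_two]; exact M.iv_sq tv) ht1
  rw [Involutions.OrderFormula.order_formula z (M.iv tv) hz2 ht2 htn fun t h2 => ?_,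
    card_centralizer_tv M hG, card_at M hG hgood hT hTc, htot,
    Nat.card_congr (Equiv.subtypeEquivRight (q := fun p : G × G => IsConj z p.1 ∧
      (p.2 * p.2 = 1 ∧ p.2 ≠ 1 ∧ ¬ IsConj z p.2) ∧ z ∈ zpowers (p.1 * p.2)) fun p => by
        rw [isConj_tv_iff M hG hgood]),
    card_az M hG hgood F hS hSc hval]
  · have hH : centralizer ({z} : Set G) = HH z := rfl
    rw [hH, X.L.cardH]
    norm_num
  · by_cases hz : IsConj z t
    · exact Or.inl hz
    · refine Or.inr ((isConj_tv_iff M hG hgood).2 ⟨?_, ?_, hz⟩)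
      · rw [← pow_two, ← h2, pow_orderOf_eq_one]
      · rintro rfl; rw [orderOf_one] at h2; norm_num at h2

end Cfsg.Agent.J4Order.Dict
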