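import Cfsg.Agent.Lib.J4Order.Part
import Cfsg.Agent.Lib.J4Order.Kern
import Cfsg.Agent.Lib.J4Order.RuleData

/-!
# Janko four type: what satisfies the rule with a representative lies in its class
-/

set_option autoImplicit false
set_option maxRecDepth 20000
set_option maxHeartbeats 1000000

namespace Cfsg.Agent.J4Order.Part

open Cfsg Cfsg.Agent.Golay.Basic Cfsg.Agent.Golay.Cert
open Cfsg.Agent.J4Order.Model

theorem parity_xor (a b : ℕ) : parity (a ^^^ b) = (parity a ^^ parity b) := by
  simp only [parity, Nat.testBit_xor]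
  generalize a.testBit 0 = a0; generalize a.testBit 1 = a1; generalize a.testBit 2 = a2
  generalize a.testBit 3 = a3; generalize a.testBit 4 = a4; generalize a.testBit 5 = a5
  generalize a.testBit 6 = a6; generalize b.testBit 0 = b0; generalize b.testBit 1 = b1
  generalize b.testBit 2 = b2; generalize b.testBit 3 = b3; generalize b.testBit 4 = b4
  generalize b.testBit 5 = b5; generalize b.testBit 6 = b6
  cases a0 <;> cases a1 <;> cases a2 <;> cases a3 <;> cases a4 <;> cases a5 <;> cases a6 <;> simp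

/-- The pairing of two codes. -/
def comLin (f x : ℕ) : Bool :=
  parity (enc PartData.betaB (x / 128) &&& (f % 128)) ^^ parity (enc PartData.betaB (f / 128) &&& (x % 128))

theorem comLin_xor (f a b : ℕ) : comLin f (a ^^^ b) = (comLin f a ^^ comLin f b) := by
  simp only [comLin, show (128 : ℕ) = 2 ^ 7 from rfl, Nat.xor_div_two_pow, Nat.xor_mod_two_pow, enc_xor,
    Nat.and_xor_distrib_right, Nat.and_xor_distrib_left, parity_xor]
  generalize parity (enc PartData.betaB (a / 2 ^ 7) &&& f % 2 ^ 7) = p
  generalize parity (enc PartData.betaB (b / 2 ^ 7) &&& f % 2 ^ 7) = q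
  generalize parity (enc PartData.betaB (f / 2 ^ 7) &&& a % 2 ^ 7) = r
  generalize parity (enc PartData.betaB (f / 2 ^ 7) &&& b % 2 ^ 7) = s
  revert p q r s
  decide

theorem eComm_eq (f x : ℕ) : eComm x f = !comLin f x := by
  have hz : PartData.zc ≠ 0 := by decide
  unfold eComm eMul qAct comLin
  generalize parity (enc PartData.betaB (x / 128) &&& (f % 128)) = p
  generalize parity (enc PartData.betaB (f / 128) &&& (x % 128)) = q
  rw [Nat.xor_comm (x / 128) (f / 128)]
  generalize ((f / 128) ^^^ (x / 128)) * 128 = A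
  rw [Bool.eq_iff_iff, Nat.beq_eq]
  cases p <;> cases q <;>
    simp only [cond_true, cond_false, Bool.xor_false, Bool.xor_true, Bool.not_false, Bool.not_true,
      Bool.false_eq_true, iff_false, iff_true, ← Nat.xor_assoc, add_right_inj]
  · exact Nat.xor_comm _ _
  · intro e
    exact hz (Nat.xor_right_inj.1 (((Nat.xor_zero _).trans ((Nat.xor_comm _ _).trans e))).symm)
  · intro e
    exact hz (Nat.xor_right_inj.1 ((e.trans (Nat.xor_comm _ _)).trans (Nat.xor_zero _).symm))
  · rw [Nat.xor_comm (x % 128)]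

/-- The codes commuting with one, as a mask. -/
def comMask (f : ℕ) : ℕ :=
  (2 ^ 8192 - 1) ^^^ enc RuleData.bitMask (Nat.ofBits fun j : Fin 13 => comLin f (2 ^ (j : ℕ)))

/-- The masks are right. -/
def bitMaskOK : Bool :=
  Nat.beq RuleData.bitMask.length 13 && (List.range 13).all fun j => (List.range 8192).all fun x =>
    (RuleData.bitMask.getD j 0).testBit x == x.testBit j

theorem bitMaskOK_eq : bitMaskOK = true := by decide +kernel

theorem comMask_eq (f : ℕ) {x : ℕ} (hx : x < 8192) : (comMask f).testBit x = eComm x f := by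
  have hm := bitMaskOK_eq
  simp only [bitMaskOK, Bool.and_eq_true, List.all_eq_true, List.mem_range] at hm
  obtain ⟨-, hm⟩ := hm
  set M := Nat.ofBits fun j : Fin 13 => comLin f (2 ^ (j : ℕ)) with hM
  have hlt : M < 2 ^ 13 := Nat.ofBits_lt_two_pow _
  have key : ∀ m < 2 ^ 13, ∀ y < 2 ^ 13, ∀ y' < 2 ^ 13,
      (enc RuleData.bitMask m).testBit (y ^^^ y') =
        ((enc RuleData.bitMask m).testBit y ^^ (enc RuleData.bitMask m).testBit y') := by
    refine xor_induction _ (fun y _ y' _ => by simp [enc_zero]) ?_ ?_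
    · intro p q hp hq y hy y' hy'
      simp only [enc_xor, Nat.testBit_xor, hp y hy y' hy', hq y hy y' hy']
      generalize (enc RuleData.bitMask p).testBit y = a
      generalize (enc RuleData.bitMask p).testBit y' = b
      generalize (enc RuleData.bitMask q).testBit y = c
      generalize (enc RuleData.bitMask q).testBit y' = d
      revert a b c d
      decide
    · intro j hj y hy y' hy'
      rw [enc_two_pow, eq_of_beq (hm j hj _ (Nat.xor_lt_two_pow (n := 13) hy hy')), eq_of_beq (hm j hj y hy),
        eq_of_beq (hm j hj y' hy'), Nat.testBit_xor]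
  have hgo : ∀ y < 2 ^ 13, y < 2 ^ 13 ∧ (enc RuleData.bitMask M).testBit y = comLin f y := by
    refine xor_induction _ ⟨by norm_num, ?_⟩ ?_ ?_
    · have h0 := key M hlt 0 (by norm_num) 0 (by norm_num)
      have h1 := comLin_xor f 0 0
      rw [Nat.xor_self, Bool.xor_self] at h0 h1
      rw [h0, h1]
    · rintro p q ⟨hp, ep⟩ ⟨hq, eq⟩
      exact ⟨Nat.xor_lt_two_pow hp hq, by rw [key M hlt p hp q hq, ep, eq, comLin_xor]⟩
    · intro j hj
      refine ⟨Nat.pow_lt_pow_right (by norm_num) hj, ?_⟩
      have hb : ∀ m < 2 ^ 13, (enc RuleData.bitMask m).testBit (2 ^ j) = m.testBit j := by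
        refine xor_induction _ (by simp [enc_zero]) (fun p q hp hq => by
          rw [enc_xor, Nat.testBit_xor, Nat.testBit_xor, hp, hq]) fun i hi => ?_
        rw [enc_two_pow, eq_of_beq (hm i hi _ (Nat.pow_lt_pow_right (by norm_num) hj)), Nat.testBit_two_pow,
          Nat.testBit_two_pow]
        exact decide_eq_decide.2 eq_comm
      rw [hb M hlt, hM, Nat.testBit_ofBits_lt _ j hj]
  rw [comMask, Nat.testBit_xor, Nat.testBit_two_pow_sub_one, eComm_eq, (hgo x hx).2, decide_eq_true hx,
    Bool.true_xor]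

/-- The positions of the bits of a number below `2 ^ (2 ^ k)`, moved by an offset. -/
def bitsIn : ℕ → ℕ → ℕ → List ℕ
  | 0, m, o => bif m.beq 0 then [] else [o]
  | k + 1, m, o => bif m.beq 0 then [] else
      bitsIn k (m % 2 ^ (2 ^ k)) o ++ bitsIn k (m >>> (2 ^ k)) (o + 2 ^ k)

theorem mem_bitsIn : ∀ (k : ℕ) {m o t : ℕ}, t < 2 ^ k → m.testBit t = true → o + t ∈ bitsIn k m o
  | 0, m, o, t, ht, hm => by
    have : t = 0 := by simpa using ht
    subst this
    have hm0 : m.beq 0 = false := by
      cases m with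
      | zero => simp at hm
      | succ j => rfl
    simp [bitsIn, hm0]
  | k + 1, m, o, t, ht, hm => by
    have hm0 : m.beq 0 = false := by
      cases m with
      | zero => simp at hm
      | succ j => rfl
    simp only [bitsIn, hm0, cond_false, List.mem_append]
    by_cases h : t < 2 ^ k
    · exact Or.inl (mem_bitsIn k h (by rw [Nat.testBit_mod_two_pow]; simp [h, hm]))
    · refine Or.inr ?_
      have h' := mem_bitsIn k (m := m >>> (2 ^ k)) (o := o + 2 ^ k) (t := t - 2 ^ k)
        (by rw [pow_succ] at ht; omega)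
        (by rw [Nat.testBit_shiftRight, show 2 ^ k + (t - 2 ^ k) = t by omega]; exact hm)
      rwa [show o + 2 ^ k + (t - 2 ^ k) = o + t by omega] at h'

/-- The functional telling how a code acts on another. -/
def actLin (f x : ℕ) : Bool := parity (enc PartData.betaB (x / 128) &&& (f % 128))

theorem actLin_xor (f a b : ℕ) : actLin f (a ^^^ b) = (actLin f a ^^ actLin f b) := by
  simp only [actLin, show (128 : ℕ) = 2 ^ 7 from rfl, Nat.xor_div_two_pow, enc_xor,
    Nat.and_xor_distrib_right, parity_xor]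

/-- The mask of a functional. -/
def linMask (L : ℕ → Bool) : ℕ := enc RuleData.bitMask (Nat.ofBits fun j : Fin 13 => L (2 ^ (j : ℕ)))

/-- Exchanging the bit `j` of the positions. -/
def swapBit (j m : ℕ) : ℕ :=
  ((m &&& RuleData.bitMask.getD j 0) >>> 2 ^ j) |||
    ((m &&& ((2 ^ 8192 - 1) ^^^ RuleData.bitMask.getD j 0)) <<< 2 ^ j)

/-- Moving the positions by a code. -/
def transl : ℕ → ℕ → ℕ → ℕ
  | 0, _, m => m
  | j + 1, c, m => bif c.testBit j then swapBit j (transl j c m) else transl j c m

/-- The positions of codes whose product with `f` is of the second class. -/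
def prodMask (f : ℕ) : ℕ :=
  (transl 13 f PartData.tMask &&& ((2 ^ 8192 - 1) ^^^ linMask (actLin f))) |||
    (transl 13 (f ^^^ PartData.zc) PartData.tMask &&& linMask (actLin f))

/-- The candidates for a class. -/
def candMask (f : ℕ) : ℕ :=
  PartData.tMask &&& (comMask f &&& comMask (rAct f) &&& comMask (rAct (rAct f))) &&&
    ((2 ^ 8192 - 1) ^^^ (prodMask f ||| prodMask (rAct f) ||| prodMask (rAct (rAct f))))

/-- The check of a class. -/
def rowOK (i : ℕ) : Bool :=
  ((bitsIn 13 (candMask (rep i)) 0).all fun x => Nat.beq (cls x) i) &&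
    (lineOf (rep i)).all fun x => !tE x || Nat.beq (cls x) i

/-- What satisfies the rule with a representative is in its class. -/
def ruleOK' : Bool := (List.range 77).all rowOK

theorem ruleOK'_eq : ruleOK' = true := by decide +kernel

theorem linMask_eq {L : ℕ → Bool} (hL : ∀ a b, L (a ^^^ b) = (L a ^^ L b)) {x : ℕ} (hx : x < 8192) :
    (linMask L).testBit x = L x := by
  have hm := bitMaskOK_eq
  simp only [bitMaskOK, Bool.and_eq_true, List.all_eq_true, List.mem_range] at hm
  obtain ⟨-, hm⟩ := hm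
  set M := Nat.ofBits fun j : Fin 13 => L (2 ^ (j : ℕ)) with hM
  have hlt : M < 2 ^ 13 := Nat.ofBits_lt_two_pow _
  have key : ∀ m < 2 ^ 13, ∀ y < 2 ^ 13, ∀ y' < 2 ^ 13,
      (enc RuleData.bitMask m).testBit (y ^^^ y') =
        ((enc RuleData.bitMask m).testBit y ^^ (enc RuleData.bitMask m).testBit y') := by
    refine xor_induction _ (fun y _ y' _ => by simp [enc_zero]) ?_ ?_
    · intro p q hp hq y hy y' hy'
      simp only [enc_xor, Nat.testBit_xor, hp y hy y' hy', hq y hy y' hy']
      generalize (enc RuleData.bitMask p).testBit y = a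
      generalize (enc RuleData.bitMask p).testBit y' = b
      generalize (enc RuleData.bitMask q).testBit y = c
      generalize (enc RuleData.bitMask q).testBit y' = d
      revert a b c d
      decide
    · intro j hj y hy y' hy'
      rw [enc_two_pow, eq_of_beq (hm j hj _ (Nat.xor_lt_two_pow (n := 13) hy hy')), eq_of_beq (hm j hj y hy),
        eq_of_beq (hm j hj y' hy'), Nat.testBit_xor]
  have hgo : ∀ y < 2 ^ 13, y < 2 ^ 13 ∧ (enc RuleData.bitMask M).testBit y = L y := by
    refine xor_induction _ ⟨by norm_num, ?_⟩ ?_ ?_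
    · have h0 := key M hlt 0 (by norm_num) 0 (by norm_num)
      have h1 := hL 0 0
      rw [Nat.xor_self, Bool.xor_self] at h0 h1
      rw [h0, h1]
    · rintro p q ⟨hp, ep⟩ ⟨hq, eq⟩
      exact ⟨Nat.xor_lt_two_pow hp hq, by rw [key M hlt p hp q hq, ep, eq, hL]⟩
    · intro j hj
      refine ⟨Nat.pow_lt_pow_right (by norm_num) hj, ?_⟩
      have hb : ∀ m < 2 ^ 13, (enc RuleData.bitMask m).testBit (2 ^ j) = m.testBit j := by
        refine xor_induction _ (by simp [enc_zero]) (fun p q hp hq => by
          rw [enc_xor, Nat.testBit_xor, Nat.testBit_xor, hp, hq]) fun i hi => ?_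
        rw [enc_two_pow, eq_of_beq (hm i hi _ (Nat.pow_lt_pow_right (by norm_num) hj)), Nat.testBit_two_pow,
          Nat.testBit_two_pow]
        exact decide_eq_decide.2 eq_comm
      rw [hb M hlt, hM, Nat.testBit_ofBits_lt _ j hj]
  exact (hgo x hx).2

theorem testBit_swapBit {j : ℕ} (hj : j < 13) (m : ℕ) {x : ℕ} (hx : x < 8192) :
    (swapBit j m).testBit x = m.testBit (x ^^^ 2 ^ j) := by
  have hm := bitMaskOK_eq
  simp only [bitMaskOK, Bool.and_eq_true, List.all_eq_true, List.mem_range] at hm
  have hB : ∀ y < 8192, (RuleData.bitMask.getD j 0).testBit y = y.testBit j := fun y hy =>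
    eq_of_beq (hm.2 j hj y hy)
  have hp : 2 ^ j < 2 ^ 13 := Nat.pow_lt_pow_right (by norm_num) hj
  have hx' : x ^^^ 2 ^ j < 8192 := Nat.xor_lt_two_pow (n := 13) hx hp
  have hhi : ∀ y, 8192 ≤ y → (RuleData.bitMask.getD j 0).testBit y = false := by
    have hlen : ∀ k < 13, RuleData.bitMask.getD k 0 < 2 ^ 8192 := by decide +kernel
    exact fun y hy => Nat.testBit_lt_two_pow (lt_of_lt_of_le (hlen j hj)
      (Nat.pow_le_pow_right (by norm_num) hy))
  simp only [swapBit, Nat.testBit_or, Nat.testBit_shiftRight, Nat.testBit_shiftLeft, Nat.testBit_and,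
    Nat.testBit_xor, Nat.testBit_two_pow_sub_one]
  have he : x / 2 ^ j % 2 = 1 ↔ x.testBit j = true := by
    rw [Nat.testBit_eq_decide_div_mod_eq, decide_eq_true_iff]
  have hd := Nat.div_add_mod x (2 ^ j)
  have hxd : (x ^^^ 2 ^ j) / 2 ^ j = (x / 2 ^ j) ^^^ 1 := by
    rw [Nat.xor_div_two_pow, Nat.div_self (Nat.two_pow_pos j)]
  have hxm : (x ^^^ 2 ^ j) % 2 ^ j = x % 2 ^ j := by
    rw [Nat.xor_mod_two_pow, Nat.mod_self, Nat.xor_zero]
  have hd' := Nat.div_add_mod (x ^^^ 2 ^ j) (2 ^ j)
  rw [hxd, hxm] at hd'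
  by_cases hbit : x.testBit j = true
  · have h1 : (x / 2 ^ j) ^^^ 1 = x / 2 ^ j - 1 := by
      have := he.2 hbit
      exact Nat.xor_one_of_odd (Nat.odd_iff.2 this)
    have hle : 2 ^ j ≤ x := Nat.ge_two_pow_of_testBit hbit
    have hpos : 1 ≤ x / 2 ^ j := (Nat.one_le_div_iff (Nat.two_pow_pos j)).2 hle
    have e : x ^^^ 2 ^ j = x - 2 ^ j := by
      rw [h1, Nat.mul_sub, Nat.mul_one] at hd'
      have := Nat.mul_le_mul_left (2 ^ j) hpos
      omega
    have h2 : (RuleData.bitMask.getD j 0).testBit (2 ^ j + x) = false := by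
      by_cases h : 2 ^ j + x < 8192
      · rw [hB _ h, Nat.testBit_two_pow_add_eq, hbit]; rfl
      · exact hhi _ (by omega)
    have h3 : (RuleData.bitMask.getD j 0).testBit (x - 2 ^ j) = false := by
      rw [← e, hB _ hx', Nat.testBit_xor, hbit, Nat.testBit_two_pow_self]; rfl
    rw [h2, h3, e]
    simp [hle, show x - 2 ^ j < 8192 by omega]
  · rw [Bool.not_eq_true] at hbit
    have h0 : x / 2 ^ j % 2 = 0 := by
      rcases Nat.mod_two_eq_zero_or_one (x / 2 ^ j) with h | h
      · exact h
      · rw [he.1 h] at hbit; exact Bool.noConfusion hbit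
    have h1 : (x / 2 ^ j) ^^^ 1 = x / 2 ^ j + 1 := Nat.xor_one_of_even (Nat.even_iff.2 h0)
    have e : x ^^^ 2 ^ j = 2 ^ j + x := by
      rw [h1, Nat.mul_add, Nat.mul_one] at hd'
      omega
    have h2 : (RuleData.bitMask.getD j 0).testBit (2 ^ j + x) = true := by
      rw [← e, hB _ hx', Nat.testBit_xor, hbit, Nat.testBit_two_pow_self]; rfl
    rw [h2, e]
    by_cases hle : 2 ^ j ≤ x
    · have h3 : (RuleData.bitMask.getD j 0).testBit (x - 2 ^ j) = true := by
        have h4 := Nat.testBit_two_pow_add_eq (x - 2 ^ j) j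
        rw [Nat.add_sub_cancel' hle, hbit] at h4
        rw [hB _ (by omega)]
        simpa using h4
      rw [h3]
      simp [hle, show x - 2 ^ j < 8192 by omega]
    · simp [hle]

theorem testBit_transl : ∀ (n : ℕ), n ≤ 13 → ∀ (c m : ℕ) {x : ℕ}, x < 8192 →
    (transl n c m).testBit x = m.testBit (x ^^^ c % 2 ^ n)
  | 0, _, c, m, x, _ => by simp [transl, Nat.mod_one]
  | n + 1, hn, c, m, x, hx => by
    have hp : (2 : ℕ) ^ n < 2 ^ 13 := Nat.pow_lt_pow_right (by norm_num) (by omega)
    have key : c % 2 ^ (n + 1) = c % 2 ^ n ^^^ (bif c.testBit n then 2 ^ n else 0) := by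
      refine Nat.eq_of_testBit_eq fun i => ?_
      rw [Nat.testBit_xor, Nat.testBit_mod_two_pow, Nat.testBit_mod_two_pow]
      by_cases hin : i = n
      · subst hin; cases h : c.testBit i <;> simp [h, Nat.testBit_two_pow_self]
      · cases h : c.testBit n <;>
          simp [Nat.testBit_two_pow, Ne.symm hin, show (i < n + 1 ↔ i < n) by omega]
    rw [transl, key]
    cases h : c.testBit n
    · rw [cond_false, cond_false, Nat.xor_zero]; exact testBit_transl n (by omega) c m hx
    · rw [cond_true, cond_true, testBit_swapBit (by omega) _ hx,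
        testBit_transl n (by omega) c m (Nat.xor_lt_two_pow (n := 13) hx hp), Nat.xor_assoc,
        Nat.xor_comm (2 ^ n)]

theorem testBit_prodMask {f x : ℕ} (hf : f < 8192) (hx : x < 8192) :
    (prodMask f).testBit x = tE (eMul x f) := by
  have hz : PartData.zc < 128 := by decide
  have hsplit : ∀ a b c e : ℕ, c < 128 → e < 128 →
      (a * 128 + c) ^^^ (b * 128 + e) = (a ^^^ b) * 128 + (c ^^^ e) := by
    intro a b c e hc he
    have h1 := Nat.div_add_mod ((a * 128 + c) ^^^ (b * 128 + e)) (2 ^ 7)
    rw [Nat.xor_div_two_pow, Nat.xor_mod_two_pow] at h1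
    norm_num at h1
    rw [show (a * 128 + c) / 128 = a by omega, show (b * 128 + e) / 128 = b by omega,
      Nat.mod_eq_of_lt hc, Nat.mod_eq_of_lt he] at h1
    omega
  have hfz : f ^^^ PartData.zc = f / 128 * 128 + (f % 128 ^^^ PartData.zc) := by
    have h := hsplit (f / 128) 0 (f % 128) PartData.zc (Nat.mod_lt _ (by norm_num)) hz
    rw [zero_mul, zero_add, Nat.xor_zero, show f / 128 * 128 + f % 128 = f by omega] at h
    exact h
  have hm : eMul x f = x ^^^ (bif actLin f x then f ^^^ PartData.zc else f) := by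
    have hx' : x = x / 128 * 128 + x % 128 := by omega
    unfold eMul qAct actLin
    cases parity (enc PartData.betaB (x / 128) &&& f % 128)
    · simp only [cond_false]
      conv_rhs => rw [hx', show f = f / 128 * 128 + f % 128 by omega]
      rw [hsplit _ _ _ _ (Nat.mod_lt _ (by norm_num)) (Nat.mod_lt _ (by norm_num))]
    · simp only [cond_true]
      conv_rhs => rw [hx', hfz]
      rw [hsplit _ _ _ _ (Nat.mod_lt _ (by norm_num))
        (Nat.xor_lt_two_pow (n := 7) (Nat.mod_lt _ (by norm_num)) hz)]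
  have hz2 : f ^^^ PartData.zc < 2 ^ 13 := Nat.xor_lt_two_pow (n := 13) hf (by omega)
  rw [prodMask, Nat.testBit_or, Nat.testBit_and, Nat.testBit_and, Nat.testBit_xor,
    Nat.testBit_two_pow_sub_one, linMask_eq (actLin_xor f) hx, testBit_transl 13 le_rfl _ _ hx,
    testBit_transl 13 le_rfl _ _ hx, Nat.mod_eq_of_lt (show f < 2 ^ 13 from hf), Nat.mod_eq_of_lt hz2, hm, tE]
  cases actLin f x <;> simp [hx]

theorem classL_mem {x : ℕ} (hx : x < 8192) (ht : tE x = true) :
    cls x < 77 ∧ x ∈ classL (cls x) := by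
  have h := classOK_eq
  simp only [classOK, Bool.and_eq_true, List.all_eq_true, List.mem_range] at h
  have hm := h.2 x hx
  rw [ht, cond_true, List.contains_iff_mem] at hm
  refine ⟨?_, hm⟩
  by_contra hge
  rw [classL, List.getD_eq_default _ _ (by have := Nat.eq_of_beq_eq_true h.1.1; omega)] at hm
  simp at hm

theorem rAct_lt (x : ℕ) : rAct x < 8192 := by
  have hq : enc PartData.qR (x / 128) < 64 := by
    have h : ∀ a, a < 64 → enc PartData.qR a < 64 := by decide +kernel
    have e := enc_mod PartData.qR (x / 128)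
    rw [show PartData.qR.length = 6 from rfl] at e
    rw [← e]
    exact h _ (Nat.mod_lt _ (by norm_num))
  have hw : enc PartData.wR (x % 128) < 128 := by
    have h : ∀ a, a < 128 → enc PartData.wR a < 128 := by decide +kernel
    exact h _ (Nat.mod_lt _ (by norm_num))
  unfold rAct
  omega

theorem rule_spec {i x : ℕ} (hi : i < 77) (hx : x < 8192) (ht : tE x = true)
    (hr : inRule (rep i) x = true) : cls x = i := by
  have h := ruleOK'_eq
  simp only [ruleOK', rowOK, List.all_eq_true, List.mem_range, Bool.and_eq_true, Bool.or_eq_true,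
    Bool.not_eq_true'] at h
  obtain ⟨hall, hline⟩ := h i hi
  simp only [inRule, Bool.or_eq_true, Bool.and_eq_true, Bool.not_eq_true'] at hr
  rcases hr with hl | ⟨⟨⟨⟨⟨c1, c2⟩, c3⟩, n1⟩, n2⟩, n3⟩
  · rcases hline x (List.contains_iff_mem.1 hl) with h' | h'
    · rw [ht] at h'; exact Bool.noConfusion h'
    · exact Nat.eq_of_beq_eq_true h'
  have hrep : rep i < 8192 := by
    have h1 := classOK_eq
    simp only [classOK, Bool.and_eq_true, List.all_eq_true, List.mem_range, Nat.blt_eq] at h1
    obtain ⟨hlen, hL⟩ := h1.1.2 i hi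
    refine (hL (rep i) ?_).1
    have hl : (classL i).length = 36 := Nat.eq_of_beq_eq_true hlen
    rw [rep, List.getD_eq_getElem _ _ (by omega)]
    exact List.getElem_mem _
  have hbit : (candMask (rep i)).testBit x = true := by
    simp only [candMask, Nat.testBit_and, Nat.testBit_xor, Nat.testBit_or, Nat.testBit_two_pow_sub_one,
      comMask_eq _ hx, testBit_prodMask hrep hx, testBit_prodMask (rAct_lt _) hx,
      show PartData.tMask.testBit x = true from ht, c1, c2, c3, n1, n2, n3]
    simp [hx]
  have h' := hall (0 + x) (mem_bitsIn 13 hx hbit)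
  rw [Nat.zero_add] at h'
  exact Nat.eq_of_beq_eq_true h'

end Cfsg.Agent.J4Order.Part
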