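import Cfsg.Agent.Lib.J4Order.Engine
import Cfsg.Agent.Lib.J4Order.SiData
import Cfsg.Agent.Lib.J4Order.SiBlocks

/-!
# Janko four type: checks of the list of elements of order at most two fixing the sextet
-/

set_option autoImplicit false
set_option maxRecDepth 20000

namespace Cfsg.Agent.J4Order.SiSpec

open Cfsg Cfsg.Agent.Golay.Basic Cfsg.Agent.Golay.Cert Cfsg.Agent.Golay.TabList
open Cfsg.Agent.Golay.M24
open Cfsg.Agent.J4Order.Model

/-- The elements. -/
def e (i : ℕ) : El := (SiData.chunks.getD (i / 64) []).getD (i % 64) (0, 0)

/-- The number of elements. -/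
def num : ℕ := 1504

/-- The list. -/
def Si : List El := (List.range num).map e

/-- The certificates of the orbits of the centralisers. -/
def inners : List (List (El × El) × List (ℕ × List ℕ)) :=
  [(SiData.cgens0, SiData.inner0), (SiData.cgens1, SiData.inner1), (SiData.cgens2, SiData.inner2),
    (SiData.cgens3, SiData.inner3), (SiData.cgens4, SiData.inner4), (SiData.cgens5, SiData.inner5),
    (SiData.cgens6, SiData.inner6)]

/-- A complete certificate. -/
def isFull : Option ℕ → Bool
  | none => false
  | some m => Nat.beq m (2 ^ num - 1)

theorem isFull_eq : ∀ {o : Option ℕ}, isFull o = true → o = some (2 ^ num - 1)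
  | some _, h => congrArg some (Nat.eq_of_beq_eq_true h)

/-- The elements are as said. -/
def listOK : Bool :=
  (List.range num).all fun i => elOK (e i) && Nat.beq (mulTab (e i).1 (e i).1) idTab &&
    (Nat.beq (i + 1) num || Nat.blt (e i).1 (e (i + 1)).1)

/-- The generators act on the list as said, with the orbits as said. -/
def genCert : Bool :=
  SiData.gens.all (genOK zv) && isFull (blocksOK e SiData.gens SiData.outer 0) &&
    Nat.beq SiData.pims.length SiData.gens.length && Nat.beq SiData.outer.length inners.length &&
    (SiData.gens.zip SiData.pims).all fun p => Nat.beq p.2.length num && isFull (permChk e p.1.1 p.2 0 0)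

theorem genCert_eq : genCert = true := by decide +kernel

/-- The orbits of the centralisers are as said. -/
def innerCert : Bool :=
  (SiData.outer.zip inners).all fun q =>
    Nat.blt q.1.1 num && q.2.1.all (fun g => genOK zv g && tabConj g.1.1 (e q.1.1).1 (e q.1.1).1) &&
      isFull (blocksOK e q.2.1 q.2.2 0)

theorem innerCert_eq : innerCert = true := by decide +kernel

/-- The weighted sum over the roots of the orbits. -/
def pairVal (Φ : El → El → ℕ) : ℕ :=
  ((SiData.outer.zip inners).map fun q =>
    (q.1.2.length + 1) * blocksVal (fun j => Φ (e q.1.1) (e j)) q.2.2).sum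

/-- The search for an order ran out. -/
def ranOut (s s' : El) : ℕ := cond (Nat.beq (nOf s s') 24) 1 0

theorem ranOut_val : pairVal ranOut = 0 := by decide +kernel

end Cfsg.Agent.J4Order.SiSpec
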