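import Cfsg.Agent.Lib.J4Order.Part
import Cfsg.Agent.Lib.J4Order.Kern
import Cfsg.Agent.Lib.J4Order.Dict
import Cfsg.Agent.Lib.J4Order.Classes
import Cfsg.Agent.Lib.J4Order.Line

/-!
# Janko four type: the codes of the elements of `E`

* `eG M c`: the element of a code;
* `exists_eG`, `eG_inj`, `eG_mul`, `vk_eG_iff`;
* `rAct_spec`, `conjRel_iff`: conjugation.
-/

set_option autoImplicit false
set_option maxRecDepth 20000
set_option linter.style.haveILetI false
set_option linter.unusedSectionVars false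

namespace Cfsg.Agent.J4Order.Dict

open Subgroup
open Cfsg Cfsg.Agent.Golay.Basic Cfsg.Agent.Golay.Cert Cfsg.Agent.Golay.TabList
open Cfsg.Agent.Golay.M24
open Cfsg.Agent.J4Local Cfsg.Agent.J4Eleven
open Cfsg.Agent.J4V.Split (NV VN)
open Cfsg.Agent.J4Order.Model
open Cfsg.Agent.J4Order.Part
open Cfsg.Agent.J4V.Invol (fix_facts tabOK_oT oT_inj duads_facts wList_nodup)
open Cfsg.Agent.J4V.Invol.Checks (root oT oIm wList wGens inW)
open Cfsg.Agent.M24CocodeSplit.Checks (imgChk)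

universe u

theorem qEl_facts {q : ℕ} (hq : q < 64) :
    elOK (qEl q) = true ∧ (qEl q).1 = oT q ∧ im (qEl q) = oIm q ∧ perm (qEl q) * perm (qEl q) = 1 := by
  have h := codeOK_eq
  simp only [codeOK, Bool.and_eq_true, List.all_eq_true, List.mem_range, beq_iff_eq] at h
  have e := (h.2 q hq).1
  refine ⟨?_, rfl, e, ?_⟩
  · show imgChk (qEl q).1 (im (qEl q)) = true
    rw [e]; exact (fix_facts hq).1
  · have hi' := isTab_tabPerm (tabOK_oT hq).1
    have h := isTab_mul hi' hi'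
    rw [(fix_facts hq).2.1] at h
    exact h.unique isTab_one

theorem code_parts {x : ℕ} (hx : x < 8192) : x / 128 < 64 ∧ x % 128 < 128 ∧ x / 128 * 128 + x % 128 = x := by
  omega

theorem code_mk {q w : ℕ} (hw : w < 128) : (q * 128 + w) / 128 = q ∧ (q * 128 + w) % 128 = w := by omega

theorem eVec_eq {w : ℕ} (hw : w < 128) : eVec w = enc wGens w := by rw [eVec, Nat.mod_eq_of_lt hw]

theorem eVec_lt (x : ℕ) : eVec x < 2048 :=
  J4V.Invol.enc_lt _ (by decide +kernel) _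

theorem eVec_inW {x : ℕ} : inW (eVec x) = true := by
  simp only [inW, List.contains_iff_mem, wList, List.mem_map, List.mem_range]
  exact ⟨x % 128, Nat.mod_lt _ (by norm_num), rfl⟩

theorem eVec_xor {a b : ℕ} (ha : a < 128) (hb : b < 128) : eVec (a ^^^ b) = eVec a ^^^ eVec b := by
  rw [eVec_eq ha, eVec_eq hb, eVec_eq (Nat.xor_lt_two_pow (n := 7) ha hb), enc_xor]

theorem eVec_inj {a b : ℕ} (ha : a < 128) (hb : b < 128) (h : eVec a = eVec b) : a = b := by
  rw [eVec_eq ha, eVec_eq hb] at h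
  exact List.inj_on_of_nodup_map (f := enc wGens) (show ((List.range 128).map (enc wGens)).Nodup from wList_nodup.1)
    (List.mem_range.2 ha) (List.mem_range.2 hb) h

theorem xor_zc (x : ℕ) :
    (x ^^^ PartData.zc) / 128 = x / 128 ∧ (x ^^^ PartData.zc) % 128 = x % 128 ^^^ PartData.zc := by
  constructor
  · have h := Nat.shiftRight_xor_distrib (a := x) (b := PartData.zc) (i := 7)
    simpa [Nat.shiftRight_eq_div_pow, PartData.zc] using h
  · have h := Nat.xor_mod_two_pow (a := x) (b := PartData.zc) (n := 7)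
    simpa [PartData.zc] using h

theorem parity_xor (m n : ℕ) : parity (m ^^^ n) = (parity m ^^ parity n) := by
  have sh : ∀ a b c d : Bool, ((a ^^ b) ^^ (c ^^ d)) = ((a ^^ c) ^^ (b ^^ d)) := by decide
  simp only [parity, Nat.testBit_xor]
  simp only [sh]

theorem qAct_xor (q a b : ℕ) : qAct q (a ^^^ b) = qAct q a ^^^ qAct q b := by
  simp only [qAct, Nat.and_xor_distrib_left, parity_xor]
  generalize parity (enc PartData.betaB q &&& a) = A
  generalize parity (enc PartData.betaB q &&& b) = B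
  cases A <;> cases B <;> simp only [Bool.false_xor, Bool.true_xor, Bool.not_false, Bool.not_true, cond_false,
    cond_true]
  · ac_rfl
  · ac_rfl
  · rw [show a ^^^ PartData.zc ^^^ (b ^^^ PartData.zc) = a ^^^ b ^^^ (PartData.zc ^^^ PartData.zc) by ac_rfl,
      Nat.xor_self, Nat.xor_zero]

theorem qAct_lt (q : ℕ) {w : ℕ} (hw : w < 128) : qAct q w < 128 := by
  unfold qAct
  cases parity (enc PartData.betaB q &&& w)
  · exact hw
  · exact Nat.xor_lt_two_pow (n := 7) hw (by decide)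

/-- A property closed under sums and true at the first powers of two holds below the next. -/
theorem xor_ind (n : ℕ) (Q : ℕ → Prop) (h0 : Q 0) (hx : ∀ a b, a < 2 ^ n → b < 2 ^ n → Q a → Q b → Q (a ^^^ b))
    (hb : ∀ i < n, Q (2 ^ i)) : ∀ a < 2 ^ n, Q a := fun a ha =>
  (Model.xor_induction (n := n) (fun a => a < 2 ^ n ∧ Q a) ⟨Nat.two_pow_pos n, h0⟩
    (fun a b hA hB => ⟨Nat.xor_lt_two_pow hA.1 hB.1, hx a b hA.1 hB.1 hA.2 hB.2⟩)
    (fun i hi => ⟨Nat.pow_lt_pow_right (a := 2) (by norm_num) hi, hb i hi⟩) a ha).2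

theorem ap_eVec {q w : ℕ} (hq : q < 64) (hw : w < 128) : ap (qEl q) (eVec w) = eVec (qAct q w) := by
  have h := codeOK_eq
  simp only [codeOK, Bool.and_eq_true, List.all_eq_true, List.mem_range] at h
  refine xor_ind 7 (fun w => ap (qEl q) (eVec w) = eVec (qAct q w)) ?_ (fun a b ha hb hA hB => ?_)
    (fun i hi => Nat.eq_of_beq_eq_true ((h.2 q hq).2 i hi)) w hw
  · have e : qAct q 0 = 0 := by
      have := qAct_xor q 0 0
      simpa using this
    rw [e, eVec_eq (by norm_num), enc_zero]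
    exact enc_zero _
  · show ap (qEl q) (eVec (a ^^^ b)) = eVec (qAct q (a ^^^ b))
    rw [eVec_xor ha hb, ap_xor, hA, hB, qAct_xor, eVec_xor (qAct_lt q ha) (qAct_lt q hb)]

theorem oT_mul : ∀ i < 64, ∀ j < 64, Nat.beq (mulTab (oT i) (oT j)) (oT (i ^^^ j)) = true := by
  decide +kernel

variable {G : Type u} [Group G] [Finite G] {z : G} {P : Subgroup G} {X : Chart z P} (M : J4V.Invol.Model X)

/-- The element of a code. -/
noncomputable def eG (x : ℕ) : G := elM M (eVec x) (qEl (x / 128))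

variable [IsSimpleGroup G]

theorem kE_qEl {q : ℕ} (hq : q < 64) : kE M (qEl q) = M.kO q :=
  kE_eq M (qEl_facts hq).1 (M.kO_mem hq).1 (M.kO_mem hq).2

theorem eG_mk {q w : ℕ} (hq : q < 64) (hw : w < 128) : eG M (q * 128 + w) = M.iv (eVec w) * M.kO q := by
  rw [eG, (code_mk hw).1, elM, kE_qEl M hq, eVec, (code_mk hw).2, ← eVec_eq hw]

theorem eG_eq {x : ℕ} (hx : x < 8192) : eG M x = M.iv (eVec x) * M.kO (x / 128) := by
  rw [eG, elM, kE_qEl M (code_parts hx).1]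

theorem eVec_mod (x : ℕ) : eVec (x % 128) = eVec x := by simp [eVec, Nat.mod_mod]

theorem eG_inj {x y : ℕ} (hx : x < 8192) (hy : y < 8192) (e : eG M x = eG M y) : x = y := by
  obtain ⟨x1, x2, x3⟩ := code_parts hx
  obtain ⟨y1, y2, y3⟩ := code_parts hy
  obtain ⟨e1, e2⟩ := elM_inj M (qEl_facts x1).1 (qEl_facts y1).1 (eVec_lt x) (eVec_lt y) e
  rw [← eVec_mod x, ← eVec_mod y] at e1
  rw [← x3, ← y3, eVec_inj x2 y2 e1, oT_inj x1 y1 e2]

theorem kO_mul {i j : ℕ} (hi : i < 64) (hj : j < 64) : M.kO i * M.kO j = M.kO (i ^^^ j) := by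
  refine (M.kO_eq (Nat.xor_lt_two_pow (n := 6) hi hj) (mul_mem (M.kO_mem hi).1 (M.kO_mem hj).1) ?_).symm
  rw [← Nat.eq_of_beq_eq_true (oT_mul i hi j hj)]
  exact (M.kO_mem hi).2.mul (M.kO_mem hj).2

theorem eMul_lt {x y : ℕ} (hx : x < 8192) (hy : y < 8192) : eMul x y < 8192 := by
  obtain ⟨x1, x2, -⟩ := code_parts hx
  obtain ⟨y1, y2, -⟩ := code_parts hy
  have h1 : x / 128 ^^^ y / 128 < 64 := Nat.xor_lt_two_pow (n := 6) x1 y1
  have h2 : x % 128 ^^^ qAct (x / 128) (y % 128) < 128 := Nat.xor_lt_two_pow (n := 7) x2 (qAct_lt _ y2)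
  unfold eMul; omega

theorem eG_mul {x y : ℕ} (hx : x < 8192) (hy : y < 8192) : eG M x * eG M y = eG M (eMul x y) := by
  obtain ⟨x1, x2, -⟩ := code_parts hx
  obtain ⟨y1, y2, -⟩ := code_parts hy
  rw [eMul, eG_mk M (Nat.xor_lt_two_pow (n := 6) x1 y1) (Nat.xor_lt_two_pow (n := 7) x2 (qAct_lt _ y2)),
    eVec_xor x2 (qAct_lt _ y2), ← ap_eVec x1 y2, eVec_mod, eVec_mod, M.iv_xor,
    ← conj_kE M (qEl_facts x1).1, kE_qEl M x1, eG_eq M hx, eG_eq M hy, ← kO_mul M x1 y1]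
  group

theorem eG_mul_z {x : ℕ} (hx : x < 8192) : eG M x * z = eG M (x ^^^ PartData.zc) := by
  obtain ⟨x1, x2, -⟩ := code_parts hx
  have hzc : eVec PartData.zc = J4V.Invol.Data.sigma := by
    have h := codeOK_eq
    simp only [codeOK, Bool.and_eq_true] at h
    exact Nat.eq_of_beq_eq_true h.1
  have hx' : x ^^^ PartData.zc < 8192 := Nat.xor_lt_two_pow (n := 13) hx (by decide)
  rw [eG_eq M hx', (xor_zc x).1, ← eVec_mod (x ^^^ _), (xor_zc x).2,
    eVec_xor x2 (by decide), eVec_mod, hzc, M.iv_xor, M.hz, eG_eq M hx]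
  have hc : z * M.kO (x / 128) = M.kO (x / 128) * z := by
    have h := conj_kE M (qEl_facts x1).1 J4V.Invol.Data.sigma
    rw [← hzc, ← eVec_mod PartData.zc, Nat.mod_eq_of_lt (show PartData.zc < 128 by decide),
      ap_eVec x1 (show PartData.zc < 128 by decide)] at h
    have e : qAct (x / 128) PartData.zc = PartData.zc :=
      (by decide +kernel : ∀ q < 64, qAct q PartData.zc = PartData.zc) _ x1
    rw [e, hzc, M.hz, kE_qEl M x1, mul_inv_eq_iff_eq_mul] at h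
    exact h.symm
  rw [mul_assoc, mul_assoc, hc]

theorem elM_HH {s : El} (hs : elOK s = true) {a : ℕ} :
    elM M a s ∈ HH z ↔ ap s J4V.Invol.Data.sigma = J4V.Invol.Data.sigma := by
  have hiv : M.iv a ∈ HH z := mem_HH.2 (X.std_eleven.comm _ (M.iv_mem a) _ X.z_mem_std)
  have e : elM M a s ∈ HH z ↔ kE M s ∈ HH z := by
    rw [elM]; exact mul_mem_cancel_left hiv
  rw [e, mem_HH, ← mul_inv_eq_iff_eq_mul]
  have h := conj_kE M hs J4V.Invol.Data.sigma
  rw [M.hz] at h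
  rw [h]
  exact ⟨fun h => M.iv_inj (Dict.ap_lt _ _) duads_facts.2.2.2.2.1 (h.trans M.hz.symm),
    fun h => by rw [h, M.hz]⟩

theorem rAct_lt_spec {x : ℕ} (hx : x < 8192) :
    rAct x < 8192 ∧ eG M (rAct x) = M.kR * eG M x * M.kR⁻¹ := by
  obtain ⟨x1, x2, -⟩ := code_parts hx
  have h := rActOK_eq
  simp only [rActOK, Bool.and_eq_true, List.all_eq_true, List.mem_range, Nat.blt_eq] at h
  have hw : ∀ w < 2 ^ 7, enc PartData.wR w < 128 ∧ eVec (enc PartData.wR w) = enc J4V.Invol.Data.rI (eVec w) := by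
    refine xor_ind 7 _ ⟨by simp [enc_zero], by simp [enc_zero, eVec]⟩ (fun a b ha hb hA hB => ?_) fun i hi => ?_
    · refine ⟨by rw [enc_xor]; exact Nat.xor_lt_two_pow (n := 7) hA.1 hB.1, ?_⟩
      rw [enc_xor, eVec_xor hA.1 hB.1, hA.2, hB.2, eVec_xor ha hb, enc_xor]
    · rw [enc_two_pow]
      exact ⟨(h.2 i hi).1, Nat.eq_of_beq_eq_true (h.2 i hi).2⟩
  have hq : ∀ q < 2 ^ 6, enc PartData.qR q < 64 ∧ M.kR * M.kO q = M.kO (enc PartData.qR q) * M.kR := by
    refine xor_ind 6 _ ?_ (fun a b ha hb hA hB => ?_) fun i hi => ?_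
    · refine ⟨by simp [enc_zero], ?_⟩
      have h0 : M.kO 0 = 1 := M.kO_eq (by norm_num) (one_mem _) (by
        have hf := J4V.Invol.Checks.fixOK_eq
        simp only [J4V.Invol.Checks.fixOK, Bool.and_eq_true] at hf
        rw [Nat.eq_of_beq_eq_true hf.1.1.1.1]; exact M.tab_one)
      rw [enc_zero, h0, mul_one, one_mul]
    · refine ⟨by rw [enc_xor]; exact Nat.xor_lt_two_pow (n := 6) hA.1 hB.1, ?_⟩
      rw [enc_xor, ← kO_mul M ha hb, ← kO_mul M hA.1 hB.1, ← mul_assoc, hA.2, mul_assoc, hB.2, mul_assoc]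
    · rw [enc_two_pow]
      obtain ⟨b1, b2⟩ := h.1 i hi
      have hi64 : 2 ^ i < 64 := Nat.pow_lt_pow_right (a := 2) (by norm_num) hi
      refine ⟨b1, M.K_eq (mul_mem M.kR_mem.1 (M.kO_mem hi64).1) (mul_mem (M.kO_mem b1).1 M.kR_mem.1)
        (M.kR_mem.2.mul (M.kO_mem hi64).2) ?_⟩
      rw [← Nat.eq_of_beq_eq_true b2]
      exact (M.kO_mem b1).2.mul M.kR_mem.2
  obtain ⟨w1, w2⟩ := hw _ x2
  obtain ⟨q1, q2⟩ := hq _ x1
  refine ⟨by unfold rAct; omega, ?_⟩
  rw [rAct, eG_mk M q1 w1, w2, eVec_mod, ← M.conj_iv J4V.Invol.Model.rI_chk M.kR_mem.2, eG_eq M hx]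
  calc M.kR * M.iv (eVec x) * M.kR⁻¹ * M.kO (enc PartData.qR (x / 128))
      = M.kR * M.iv (eVec x) * M.kR⁻¹ * (M.kO (enc PartData.qR (x / 128)) * M.kR) * M.kR⁻¹ := by group
    _ = _ := by rw [← q2]; group

variable (hG : ¬ IsMulCommutative G)

include hG

theorem eG_EE {x : ℕ} (hx : x < 8192) : eG M x ∈ EE z := by
  rw [eG_eq M hx]
  exact mul_mem (M.iv_EE hG eVec_inW) (M.kO_EE hG (code_parts hx).1)

theorem exists_eG {e : G} (he : e ∈ EE z) : ∃ x < 8192, eG M x = e := by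
  obtain ⟨w, hw, i, hi, k, hk, hkT, rfl⟩ := M.EE_decomp hG he
  simp only [inW, List.contains_iff_mem, wList, List.mem_map, List.mem_range] at hw
  obtain ⟨j, hj, rfl⟩ := hw
  refine ⟨i * 128 + j, by omega, ?_⟩
  rw [eG_mk M hi hj, eVec_eq hj, M.kO_eq hi hk hkT]

theorem vk_eG_iff {x y : ℕ} (hx : x < 8192) (hy : y < 8192) :
    vk z (eG M x) = vk z (eG M y) ↔ x = y ∨ x = y ^^^ PartData.zc := by
  have hy' : y ^^^ PartData.zc < 8192 := Nat.xor_lt_two_pow (n := 13) hy (by decide)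
  rw [vk_eq_vk_iff X.L.J (eG_EE M hG hx) (eG_EE M hG hy), eG_mul_z M hy]
  exact ⟨fun h => h.imp (eG_inj M hx hy) (eG_inj M hx hy'),
    fun h => h.imp (fun e => by rw [e]) (fun e => by rw [e])⟩

theorem conjRel_iff {s : El} (hs : elOK s = true) {a : ℕ} (ha : a < 2048) (hH : elM M a s ∈ HH z)
    {x y : ℕ} (hx : x < 8192) (hy : y < 8192) :
    conjRel s a x y = true ↔ eG M y = elM M a s * eG M x * (elM M a s)⁻¹ := by
  obtain ⟨x1, x2, -⟩ := code_parts hx
  obtain ⟨y1, y2, -⟩ := code_parts hy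
  obtain ⟨hK, hT⟩ := kE_mem M hs
  have hiv : M.iv a ∈ HH z := mem_HH.2 (X.std_eleven.comm _ (M.iv_mem a) _ X.z_mem_std)
  have hkH : kE M s ∈ HH z := (mul_mem_cancel_left hiv).1 hH
  set q := x / 128
  set r := y / 128
  have htab : mulTab (eTab y) s.1 = mulTab s.1 (eTab x) ↔ M.kO r * kE M s = kE M s * M.kO q := by
    have hl : M.Tab (mulTab (oT r) s.1) (M.kO r * kE M s) := (M.kO_mem y1).2.mul hT
    have hr : M.Tab (mulTab s.1 (oT q)) (kE M s * M.kO q) := hT.mul (M.kO_mem x1).2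
    refine ⟨fun e => M.K_eq (mul_mem (M.kO_mem y1).1 hK) (mul_mem hK (M.kO_mem x1).1) hl ?_, fun e => ?_⟩
    · rw [show mulTab (oT r) s.1 = mulTab s.1 (oT q) from e]; exact hr
    · exact M.tab_unique (canon_mulTab _ _) (canon_mulTab _ _) hl (e ▸ hr)
  have hval : ∀ {j}, j < 64 → M.kO j * kE M s = kE M s * M.kO q →
      elM M a s * eG M x * (elM M a s)⁻¹ = M.iv (a ^^^ ap s (eVec x) ^^^ enc (oIm j) a) * M.kO j := by
    intro j hj e
    have e' : kE M s * M.kO q * (kE M s)⁻¹ = M.kO j := by rw [← e, mul_inv_cancel_right]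
    rw [eG_eq M hx, M.iv_xor, M.iv_xor, ← conj_kE M hs, ← M.conj_iv (fix_facts hj).1 (M.kO_mem hj).2,
      ← e', elM, mul_inv_rev, M.iv_inv]
    simp only [q]
    group
  simp only [conjRel, Bool.and_eq_true, Nat.beq_eq]
  constructor
  · rintro ⟨e1, e2⟩
    rw [hval y1 (htab.1 e1), eG_eq M hy, e2]
  · intro e
    obtain ⟨w, hw, ew⟩ := exists_eG M hG (conj_mem_EE hkH (M.kO_EE hG x1))
    obtain ⟨w1, w2, -⟩ := code_parts hw
    rw [eG_eq M hw] at ew
    have hk : kE M s * M.kO q * (kE M s)⁻¹ ∈ M.K := mul_mem (mul_mem hK (M.kO_mem x1).1) (inv_mem hK)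
    obtain ⟨-, e2⟩ := M.decomp_unique (eVec_lt w) (show (0 : ℕ) < 2048 by norm_num) (M.kO_mem w1).1 hk
      (by rw [M.iv_zero, one_mul, ew])
    have hj : M.kO (w / 128) * kE M s = kE M s * M.kO q := by rw [e2, inv_mul_cancel_right]
    rw [hval w1 hj, eG_eq M hy] at e
    have hlt : a ^^^ ap s (eVec x) ^^^ enc (oIm (w / 128)) a < 2048 :=
      Nat.xor_lt_two_pow (n := 11) (Nat.xor_lt_two_pow (n := 11) ha (Dict.ap_lt _ _))
        (J4V.Invol.enc_lt _ (J4V.Invol.oI_lt _ w1) _)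
    obtain ⟨f1, f2⟩ := M.decomp_unique (eVec_lt y) hlt (M.kO_mem y1).1 (M.kO_mem w1).1 e
    have er : r = w / 128 :=
      oT_inj y1 w1 (M.tab_unique (tabOK_oT y1).2 (tabOK_oT w1).2 (M.kO_mem y1).2 (f2 ▸ (M.kO_mem w1).2))
    refine ⟨htab.2 (er ▸ hj), ?_⟩
    show eVec y = a ^^^ ap s (eVec x) ^^^ enc (oIm r) a
    rw [er]; exact f1

end Cfsg.Agent.J4Order.Dict
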