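import Cfsg.Agent.Lib.J4Order.SideCode

/-!
# Janko four type: the mask of the second class in `E`

* `tE_iff`: the listed codes are those of the involutions not conjugate to `z`.
-/

set_option autoImplicit false
set_option maxRecDepth 20000
set_option linter.style.haveILetI false
set_option linter.unusedSectionVars false

namespace Cfsg.Agent.J4Order.Dict

open Subgroup
open Cfsg Cfsg.Agent.Golay.Cert
open Cfsg.Agent.J4Local Cfsg.Agent.J4Eleven
open Cfsg.Agent.J4Order.Model
open Cfsg.Agent.J4Order.Part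
open Cfsg.Agent.J4V.Invol.Checks (root omask treeOK orbitOK orbitOK_eq whAt sing same)

universe u

/-- The position in a list. -/
def posIn (t : ℕ) : List ℕ → ℕ
  | [] => 0
  | x :: xs => cond (same x t) 0 (posIn t xs + 1)

/-- The code modulo `z`. -/
def halfCode (x : ℕ) : ℕ := x / 128 * 64 + posIn (eVec x) J4V.Invol.Data.wh

/-- The mask against the orbits. -/
def typeAt (x : ℕ) : Bool :=
  bif Nat.blt x 128 then tE x == dmask.testBit (eVec x) else
    Nat.blt (halfCode x) 4096 && Nat.ble 64 (halfCode x) &&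
      same (whAt (halfCode x % 64)) (eVec x) && Nat.beq (halfCode x / 64) (x / 128) &&
      (tE x == ((omask 1 ||| omask 2).testBit (halfCode x)))

/-- The mask is right throughout. -/
def typeOK : Bool := (List.range 8192).all typeAt

theorem typeOK_eq : typeOK = true := by decide +kernel

theorem typeAt_all {x : ℕ} (hx : x < 8192) : typeAt x = true := by
  have h := typeOK_eq
  simp only [typeOK, List.all_eq_true, List.mem_range] at h
  exact h x hx

variable {G : Type u} [Group G] [Finite G] {z : G} {P : Subgroup G} {X : Chart z P} (M : J4V.Invol.Model X)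
  [IsSimpleGroup G] (hG : ¬ IsMulCommutative G)

include hG

theorem orbit_type {k : ℕ} (hk : k < 4) {c : ℕ} (hc : c < 4096) (h : (omask k).testBit c = true)
    (h0 : vk z (M.elt c) ≠ 0) : IsConj z (M.elt c) ↔ IsConj z (M.elt (root k)) := by
  have key : ∀ (l : List ℕ) (seen target : ℕ), treeOK l seen target = true →
      (∀ c < 4096, seen.testBit c = true → vk z (M.elt c) ≠ 0 →
        (IsConj z (M.elt c) ↔ IsConj z (M.elt (root k)))) →
      ∀ c < 4096, target.testBit c = true → vk z (M.elt c) ≠ 0 →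
        (IsConj z (M.elt c) ↔ IsConj z (M.elt (root k))) := by
    intro l
    induction l with
    | nil =>
      intro seen target h hs
      simp only [treeOK] at h
      rwa [← Nat.eq_of_beq_eq_true h]
    | cons e es ih =>
      intro seen target h hs
      simp only [treeOK, Bool.and_eq_true] at h
      obtain ⟨⟨hp, hst⟩, hrec⟩ := h
      refine ih _ target hrec fun c hc hbit h0 => ?_
      rw [Nat.testBit_or, Bool.or_eq_true] at hbit
      rcases hbit with hbit | hbit
      · exact hs c hc hbit h0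
      rw [Nat.one_shiftLeft, Nat.testBit_two_pow, decide_eq_true_eq] at hbit
      subst hbit
      have ha : e / 4096 % 4096 < 4096 := Nat.mod_lt _ (by norm_num)
      obtain ⟨x, hx, hxN, ex⟩ := M.step_NH hG ha hc hst
      have ha0 : vk z (M.elt (e / 4096 % 4096)) ≠ 0 := fun e0 => h0 (by rw [ex, e0, map_zero])
      rw [act_vk hx (M.elt_EE hG ha)] at ex
      obtain ⟨f, hf, efx⟩ := J4V.Invol.Model.isConj_congr_vk hG X (conj_mem_EE hx (M.elt_EE hG ha))
        (M.elt_EE hG hc) (by rw [← ex]; exact h0) ex.symm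
      rw [← hs _ ha hp ha0, ← efx]
      exact ⟨fun h => h.trans (isConj_iff.2 ⟨f * x, by group⟩).symm,
        fun h => h.trans (isConj_iff.2 ⟨f * x, by group⟩)⟩
  have ho := orbitOK_eq
  simp only [orbitOK, Bool.and_eq_true, List.all_eq_true, List.mem_range] at ho
  obtain ⟨⟨⟨-, ht⟩, -⟩, -⟩ := ho.1 k hk
  refine key _ _ _ ht (fun d hd hbit _ => ?_) c hc h h0
  rw [Nat.one_shiftLeft, Nat.testBit_two_pow, decide_eq_true_eq] at hbit
  rw [hbit]

variable (hgood : ¬ IsConj z (M.elt (root 2)))

include hgood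

theorem tE_iff {x : ℕ} (hx : x < 8192) : tE x = true ↔ eG M x ∈ TT z := by
  have h := typeAt_all hx
  by_cases h128 : x < 128
  · rw [typeAt, show Nat.blt x 128 = true from Nat.blt_eq ▸ h128] at h
    simp only [cond_true, beq_iff_eq] at h
    have e : eG M x = M.iv (eVec x) := by
      rw [eG_eq M hx, Nat.div_eq_of_lt h128, J4V.Invol.Model.kO_eq M (by norm_num : 0 < 64) (one_mem _) (by
        have hf := J4V.Invol.Checks.fixOK_eq
        simp only [J4V.Invol.Checks.fixOK, Bool.and_eq_true] at hf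
        rw [Nat.eq_of_beq_eq_true hf.1.1.1.1]; exact M.tab_one), mul_one]
    rw [h, ← (iv_class M hG hgood (eVec_lt x)).2]
    refine ⟨fun hh => ⟨eG_EE M hG hx, ?_⟩, fun hh => ?_⟩
    · rw [e]; exact ⟨M.iv_sq _, hh⟩
    · obtain ⟨-, -, h1, h2⟩ := hh
      rw [e] at h1 h2
      exact ⟨h1, h2⟩
  · rw [typeAt, show Nat.blt x 128 = false from Bool.eq_false_iff.2 fun hb => h128 (Nat.blt_eq ▸ hb)] at h
    simp only [cond_false, Bool.and_eq_true, Nat.blt_eq, Nat.ble_eq, beq_iff_eq] at h
    obtain ⟨⟨⟨⟨hc, hc64⟩, hs⟩, hq⟩, hmask⟩ := h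
    generalize halfCode x = c at hc hc64 hs hq hmask
    have hv : vk z (eG M x) = vk z (M.elt c) := by
      rw [eG_eq M hx, ← Nat.eq_of_beq_eq_true hq]
      exact M.vk_elt_of_same hG hc eVec_inW hs
    have h0 : vk z (M.elt c) ≠ 0 := M.elt_vk_ne hG hc hc64
    have hE := eG_EE M hG hx
    have hne : eG M x ≠ 1 := fun e => h0 (by rw [← hv, e, vk_eq_zero_iff X.L.J (one_mem _)]; exact one_mem _)
    obtain ⟨f, -, ef⟩ := J4V.Invol.Model.isConj_congr_vk hG X (M.elt_EE hG hc) hE h0 hv.symm
    have hconj : IsConj z (eG M x) ↔ IsConj z (M.elt c) := by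
      rw [← ef]
      exact ⟨fun h => h.trans (isConj_iff.2 ⟨f, rfl⟩).symm, fun h => h.trans (isConj_iff.2 ⟨f, rfl⟩)⟩
    have hsq : eG M x * eG M x = 1 ↔ ∃ k < 4, (omask k).testBit c = true := by
      rw [← J4V.Invol.Model.sing_iff hc, ← QQ_vk_eq_zero X.L.J hE, hv, QQ_vk_eq_zero X.L.J (M.elt_EE hG hc),
        M.elt_sq hc, sing, show Nat.ble 64 c = true from Nat.ble_eq ▸ hc64,
        show Nat.blt c 4096 = true from Nat.blt_eq ▸ hc]
      simp
    obtain ⟨w, hw⟩ := Set.nonempty_of_ncard_ne_zero (show X.five.ncard ≠ 0 by rw [X.five_ncard]; omega)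
    obtain ⟨t0, t1, t3, -⟩ := M.roots_type hG hw
    rw [hmask, Nat.testBit_or, Bool.or_eq_true]
    constructor
    · intro hm
      refine ⟨hE, hsq.2 ?_, hne, fun hz => ?_⟩
      · rcases hm with hm | hm
        exacts [⟨1, by norm_num, hm⟩, ⟨2, by norm_num, hm⟩]
      · rcases hm with hm | hm
        · exact t1 ((orbit_type M hG (by norm_num) hc hm h0).1 (hconj.1 hz))
        · exact hgood ((orbit_type M hG (by norm_num) hc hm h0).1 (hconj.1 hz))
    · rintro ⟨-, h2, -, hn⟩
      obtain ⟨k, hk, hb⟩ := hsq.1 h2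
      have hz : ¬ IsConj z (M.elt (root k)) := fun h => hn (hconj.2 ((orbit_type M hG hk hc hb h0).2 h))
      have : k = 0 ∨ k = 1 ∨ k = 2 ∨ k = 3 := by omega
      rcases this with rfl | rfl | rfl | rfl
      exacts [absurd t0 hz, Or.inl hb, Or.inr hb, absurd (t3.2 hgood) hz]

end Cfsg.Agent.J4Order.Dict
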