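import Cfsg.Agent.Lib.J4Order.SideType
import Cfsg.Agent.Lib.J4Order.Rule

/-!
# Janko four type: the 77 subgroups as the listed classes

* `sideOf M k`: the subgroup of a class, `side_eq`, `eleven_iff`;
* `common_spec`: the number of those fixed by two elements of the normaliser.
-/

set_option autoImplicit false
set_option maxRecDepth 20000
set_option linter.style.haveILetI false
set_option linter.unusedSectionVars false

namespace Cfsg.Agent.J4Order.Dict

open Subgroup
open Cfsg.Agent.J4Local Cfsg.Agent.J4Eleven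
open Cfsg.Agent.J4Order.Model
open Cfsg.Agent.J4Order.Part
open Cfsg.Agent.J4V.Invol.Checks (root)

universe u

variable {G : Type u} [Group G] [Finite G] {z : G} {P : Subgroup G} {X : Chart z P} (M : J4V.Invol.Model X)

/-- The subgroup of a class. -/
noncomputable def sideOf (k : ℕ) : Subgroup G :=
  Classical.epsilon fun A => Eleven z A ∧ eG M (Part.rep k) ∈ side z A

theorem classL_facts {k : ℕ} (hk : k < 77) :
    (classL k).length = 36 ∧ ∀ x ∈ classL k, x < 8192 ∧ cls x = k ∧ tE x = true := by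
  have h := classOK_eq
  simp only [classOK, Bool.and_eq_true, List.all_eq_true, List.mem_range, Nat.blt_eq, Nat.beq_eq] at h
  obtain ⟨h1, h2⟩ := h.1.2 k hk
  refine ⟨h1, fun x hx => ⟨(h2 x hx).1, (h2 x hx).2, ?_⟩⟩
  have h3 := h.2 x (h2 x hx).1
  cases ht : tE x
  · rw [ht] at h3
    simp only [cond_false, Nat.beq_eq] at h3
    rw [(h2 x hx).2] at h3
    omega
  · rfl

theorem rep_mem {k : ℕ} (hk : k < 77) : rep k ∈ classL k := by
  have h := (classL_facts hk).1
  unfold Part.rep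
  rw [List.getD_eq_getElem _ _ (by omega)]
  exact List.getElem_mem _

theorem rep_sep {k l : ℕ} (hk : k < 77) (hl : l < 77) (h : rep k ∈ classL l) : k = l :=
  ((classL_facts hk).2 _ (rep_mem hk)).2.1.symm.trans ((classL_facts hl).2 _ h).2.1

variable [IsSimpleGroup G] (hG : ¬ IsMulCommutative G)

include hG

include M in
theorem TT_U0 {e : G} (he : e ∈ TT z) : vk z e ∈ X.U0 := by
  obtain ⟨c, hc, hcv⟩ := M.exists_code hG he.1
  rw [← hcv]
  rcases Nat.lt_or_ge c 64 with h | h
  · exact ⟨1, one_mem _, by rw [act_one]; exact (M.elt_WV_iff hG hc).2 h⟩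
  · have hq : QQ z (vk z e) = 0 := (QQ_vk_eq_zero X.L.J he.1).2 he.2.1
    rw [← hcv] at hq
    have hsq := (QQ_vk_eq_zero X.L.J (M.elt_EE hG hc)).1 hq
    refine M.all_singular hG hc ?_
    simp only [J4V.Invol.Checks.sing, Bool.and_eq_true, Nat.ble_eq, Nat.blt_eq]
    exact ⟨⟨h, hc⟩, by rw [(M.elt_sq hc).1 hsq]; exact Nat.beq_refl _⟩

omit hG in
theorem side_of_vk (X : Chart z P) {A : Subgroup G} (hA : Eleven z A) {g h : G} (hg : g ∈ A) (hgE : g ∈ EE z)
    (hh : h ∈ TT z) (e : vk z h = vk z g) : h ∈ side z A := by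
  refine ⟨?_, hh⟩
  rcases (vk_eq_vk_iff X.L.J hh.1 hgE).1 e with r | r <;> rw [r]
  exacts [hg, mul_mem hg (z_mem_of_eleven X hA)]

theorem rot_side {A : Subgroup G} (hA : Eleven z A) {f : G} (hf : f ∈ side z A) :
    M.kR * f * M.kR⁻¹ ∈ side z A ∧
      (act z M.kR (vk z f) = act z X.pp (vk z f) ∨
        act z M.kR (vk z f) = act z X.pp (act z X.pp (vk z f))) := by
  have hJ := X.L.J
  have hkH := M.kR_HH
  have hpH : X.pp ∈ HH z := hJ.P_le_HH X.pp_mem
  have hcases : act z M.kR (vk z f) = act z X.pp (vk z f) ∨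
      act z M.kR (vk z f) = act z X.pp (act z X.pp (vk z f)) := by
    obtain ⟨e, he, hact⟩ := M.exists_line_eq hG
    rcases he with rfl | rfl
    · left; rw [hact, pow_one]
    · right
      rw [hact, hact, ← act_mul (pow_mem hkH 2) (pow_mem hkH 2), ← pow_add,
        show M.kR ^ (2 + 2) = M.kR by rw [pow_succ, M.kR_pow, one_mul]]
  refine ⟨?_, hcases⟩
  obtain ⟨hfA, hfT⟩ := hf
  obtain ⟨q, hq, he⟩ : ∃ q ∈ P, act z M.kR (vk z f) = act z q (vk z f) := by
    rcases hcases with h | h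
    · exact ⟨X.pp, X.pp_mem, h⟩
    · exact ⟨X.pp * X.pp, mul_mem X.pp_mem X.pp_mem, by rw [h, act_mul hpH hpH]⟩
  have hqH : q ∈ HH z := hJ.P_le_HH hq
  rw [act_vk hkH hfT.1, act_vk hqH hfT.1] at he
  exact side_of_vk X hA (M22Order.conj_mem_of_mem_normalizer (P_fix X hA hq) hfA) (conj_mem_EE hqH hfT.1)
    (TT_conj hkH hfT) he

theorem classL_ncard {A : Subgroup G} (hA : Eleven z A) {k : ℕ} (hk : k < 77) :
    (eG M '' {c | c ∈ classL k}).ncard ≤ (side z A).ncard := by
  classical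
  rw [side_ncard X hG hA, show {c | c ∈ classL k} = ((classL k).toFinset : Set ℕ) by ext c; simp]
  refine (Set.ncard_image_le (Finset.finite_toSet _)).trans ?_
  rw [Set.ncard_coe_finset]
  exact (List.toFinset_card_le _).trans (classL_facts hk).1.le

variable (hgood : ¬ IsConj z (M.elt (root 2)))

include hgood

theorem inCls_of_side {A : Subgroup G} (hA : Eleven z A) {f c : ℕ} (hf : f < 8192) (hc : c < 8192)
    (hfA : eG M f ∈ side z A) (hcA : eG M c ∈ side z A) : inRule f c = true := by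
  have hJ := X.L.J
  obtain ⟨hf1, e1⟩ := rAct_lt_spec M hf
  obtain ⟨hf2, e2⟩ := rAct_lt_spec M hf1
  obtain ⟨h1A, hcase⟩ := rot_side M hG hA hfA
  rw [← e1] at h1A
  obtain ⟨h2A, -⟩ := rot_side M hG hA h1A
  rw [← e2] at h2A
  set v := vk z (eG M f) with hv
  set p := fun w => act z X.pp w with hp
  have hpp : p (p v) = v + p v := act_act hJ X.pp_mem X.pp_ne v
  have hv1 : vk z (eG M (rAct f)) = p v ∨ vk z (eG M (rAct f)) = p (p v) := by
    rw [e1, ← act_vk M.kR_HH (eG_EE M hG hf)]; exact hcase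
  have h3 : p (p (p v)) = v := by
    show act z X.pp (act z X.pp (act z X.pp v)) = v
    rw [← act_mul (hJ.P_le_HH X.pp_mem) (hJ.P_le_HH X.pp_mem),
      ← act_mul (mul_mem (hJ.P_le_HH X.pp_mem) (hJ.P_le_HH X.pp_mem)) (hJ.P_le_HH X.pp_mem), ← pow_two,
      ← pow_succ, pow_three_eq_one hJ X.pp_mem, act_one]
  have hv2 : vk z (eG M (rAct (rAct f))) = act z M.kR (vk z (eG M (rAct f))) := by
    rw [e2, ← act_vk M.kR_HH (eG_EE M hG hf1)]
  obtain ⟨-, hcase'⟩ := rot_side M hG hA h1A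
  have hall : ∀ w, (w = v ∨ w = p v ∨ w = p (p v)) →
      w = vk z (eG M f) ∨ w = vk z (eG M (rAct f)) ∨ w = vk z (eG M (rAct (rAct f))) := by
    obtain ⟨e, he, hact⟩ := M.exists_line_eq hG
    rcases he with rfl | rfl
    · have hk : ∀ w, act z M.kR w = p w := fun w => by rw [hp]; simp only [hact, pow_one]
      have a1 : vk z (eG M (rAct f)) = p v := by
        rw [e1, ← act_vk M.kR_HH (eG_EE M hG hf), hk]
      rw [hv2, a1, hk]
      exact fun w h => h
    · have hk : ∀ w, act z M.kR w = p (p w) := fun w => by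
        simp only [hp, hact]
        rw [← act_mul (pow_mem M.kR_HH 2) (pow_mem M.kR_HH 2), ← pow_add,
          show M.kR ^ (2 + 2) = M.kR by rw [pow_succ, M.kR_pow, one_mul]]
      have a1 : vk z (eG M (rAct f)) = p (p v) := by
        rw [e1, ← act_vk M.kR_HH (eG_EE M hG hf), hk]
      rw [hv2, a1, hk, h3]
      rintro w (h | h | h)
      exacts [Or.inl h, Or.inr (Or.inr h), Or.inr (Or.inl h)]
  have hin : ∀ h, (h = f ∨ h = rAct f ∨ h = rAct (rAct f)) → h < 8192 ∧ eG M h ∈ side z A ∧ vk z (eG M h) ∈ X.ln v := by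
    have m2 : p (p v) ∈ X.ln v := by
      rw [hpp]; exact add_mem (self_mem_line _ _ _) (act_self_mem_line _ _ _)
    have m1 : p v ∈ X.ln v := act_self_mem_line _ _ _
    intro h hh
    rcases hh with rfl | rfl | rfl
    · exact ⟨hf, hfA, self_mem_line _ _ _⟩
    · exact ⟨hf1, h1A, by rcases hv1 with r | r <;> rw [r]; exacts [m1, m2]⟩
    · refine ⟨hf2, h2A, ?_⟩
      have h4 : p (p (p (p v))) = p v := by rw [h3]
      rcases hv1 with r | r <;> rcases hcase' with r' | r' <;> rw [hv2, r', r]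
      exacts [m2, (show p (p (p v)) ∈ _ from h3.symm ▸ self_mem_line _ _ _),
        (show p (p (p v)) ∈ _ from h3.symm ▸ self_mem_line _ _ _),
        (show p (p (p (p v))) ∈ _ from h4.symm ▸ m1)]
  simp only [inRule, Bool.or_eq_true, List.contains_iff_mem]
  by_cases hl : vk z (eG M c) ∈ X.ln v
  · left
    have hw : vk z (eG M c) = v ∨ vk z (eG M c) = p v ∨ vk z (eG M c) = p (p v) := by
      rcases (mem_line hJ).1 hl with r | r | r | r
      · exfalso
        obtain ⟨hT1, hT2, hT3, hT4⟩ := hcA.2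
        obtain ⟨k, hk⟩ := mem_zpowers_iff.1 ((vk_eq_zero_iff hJ hT1).1 r)
        rcases Int.even_or_odd' k with ⟨m, rfl | rfl⟩
        · rw [zpow_mul, zpow_two, X.zz, one_zpow] at hk
          exact hT3 hk.symm
        · rw [zpow_add, zpow_mul, zpow_two, X.zz, one_zpow, zpow_one, one_mul] at hk
          exact hT4 (hk ▸ IsConj.refl z)
      · exact Or.inl r
      · exact Or.inr (Or.inl r)
      · exact Or.inr (Or.inr (r.trans hpp.symm))
    simp only [lineOf, List.mem_cons, List.not_mem_nil, or_false]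
    rcases hall _ hw with r | r | r
    · rcases (vk_eG_iff M hG hc hf).1 r with e | e <;> simp [e]
    · rcases (vk_eG_iff M hG hc hf1).1 r with e | e <;> simp [e]
    · rcases (vk_eG_iff M hG hc hf2).1 r with e | e <;> simp [e]
  · right
    have key : ∀ h, (h = f ∨ h = rAct f ∨ h = rAct (rAct f)) →
        eComm c h = true ∧ tE (Part.eMul c h) = false := by
      intro h hh
      obtain ⟨hhc, hhA, hhl⟩ := hin h hh
      rcases side_pair X hG hA hfA hcA hhA hhl with r | ⟨r1, r2⟩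
      · exact absurd r hl
      · rw [eG_mul M hc hhc, eG_mul M hhc hc] at r1
        refine ⟨?_, Bool.eq_false_iff.2 fun ht => r2 ?_⟩
        · rw [eComm, eG_inj M (eMul_lt hc hhc) (eMul_lt hhc hc) r1]; exact Nat.beq_refl _
        · rw [eG_mul M hc hhc]
          exact (tE_iff M hG hgood (eMul_lt hc hhc)).1 ht
    obtain ⟨a1, b1⟩ := key f (Or.inl rfl)
    obtain ⟨a2, b2⟩ := key _ (Or.inr (Or.inl rfl))
    obtain ⟨a3, b3⟩ := key _ (Or.inr (Or.inr rfl))
    simp [a1, a2, a3, b1, b2, b3]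

theorem sideOf_spec {k : ℕ} (hk : k < 77) :
    Eleven z (sideOf M k) ∧ eG M (rep k) ∈ side z (sideOf M k) := by
  refine Classical.epsilon_spec (p := fun A => Eleven z A ∧ eG M (Part.rep k) ∈ side z A) ?_
  obtain ⟨hc, -, ht⟩ := (classL_facts hk).2 _ (rep_mem hk)
  have hT := (tE_iff M hG hgood hc).1 ht
  exact exists_hexad X hG hT (TT_U0 M hG hT)

theorem side_eq {k : ℕ} (hk : k < 77) :
    side z (sideOf M k) = eG M '' {c | c ∈ classL k} := by
  classical
  obtain ⟨hA, hfA⟩ := sideOf_spec M hG hgood hk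
  obtain ⟨hf, -, -⟩ := (classL_facts hk).2 _ (rep_mem hk)
  refine Set.eq_of_subset_of_ncard_le (fun g hg => ?_) (classL_ncard M hG hA hk) (Set.toFinite _)
  obtain ⟨c, hc, rfl⟩ := exists_eG M hG hg.2.1
  have ht := (tE_iff M hG hgood hc).2 hg.2
  refine ⟨c, ?_, rfl⟩
  have h := (Part.classL_mem hc ht)
  rw [Part.rule_spec hk hc ht (inCls_of_side M hG hgood hA hf hc hfA hg)] at h
  exact h.2

theorem sideOf_inj {k l : ℕ} (hk : k < 77) (hl : l < 77) (e : sideOf M k = sideOf M l) : k = l := by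
  have h := (sideOf_spec M hG hgood hk).2
  rw [e, side_eq M hG hgood hl] at h
  obtain ⟨c, hc, e'⟩ := h
  exact rep_sep hk hl
    (eG_inj M ((classL_facts hl).2 c hc).1 ((classL_facts hk).2 _ (rep_mem hk)).1 e' ▸ hc)

theorem eleven_iff {A : Subgroup G} : Eleven z A ↔ ∃ k < 77, sideOf M k = A := by
  classical
  refine ⟨fun hA => ?_, fun ⟨k, hk, e⟩ => e ▸ (sideOf_spec M hG hgood hk).1⟩
  have hsub : sideOf M '' (↑(Finset.range 77) : Set ℕ) ⊆ {A | Eleven z A} := by
    rintro _ ⟨k, hk, rfl⟩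
    exact (sideOf_spec M hG hgood (Finset.mem_range.1 hk)).1
  have hc : (sideOf M '' (↑(Finset.range 77) : Set ℕ)).ncard = 77 := by
    rw [Set.InjOn.ncard_image, Set.ncard_coe_finset, Finset.card_range]
    intro a ha b hb e
    exact sideOf_inj M hG hgood (Finset.mem_range.1 ha) (Finset.mem_range.1 hb) e
  have he := Set.eq_of_subset_of_ncard_le hsub (by rw [hc, card_all X])
  have : A ∈ sideOf M '' (↑(Finset.range 77) : Set ℕ) := by rw [he]; exact hA
  obtain ⟨k, hk, e⟩ := this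
  exact ⟨k, Finset.mem_range.1 hk, e⟩

theorem fixB_iff {s : El} (hs : elOK s = true) {a : ℕ} (ha : a < 2048) (hH : elM M a s ∈ HH z)
    {k : ℕ} (hk : k < 77) : fixB s a k = true ↔ elM M a s ∈ normalizer (sideOf M k : Set G) := by
  obtain ⟨hA, hfA⟩ := sideOf_spec M hG hgood hk
  obtain ⟨hf, -, -⟩ := (classL_facts hk).2 _ (rep_mem hk)
  set n := elM M a s
  have hiff : fixB s a k = true ↔ n * eG M (rep k) * n⁻¹ ∈ side z (sideOf M k) := by
    rw [fixB, List.any_eq_true, side_eq M hG hgood hk]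
    constructor
    · rintro ⟨y, hy, h⟩
      exact ⟨y, hy, (conjRel_iff M hG hs ha hH hf ((classL_facts hk).2 y hy).1).1 h⟩
    · rintro ⟨y, hy, h⟩
      exact ⟨y, hy, (conjRel_iff M hG hs ha hH hf ((classL_facts hk).2 y hy).1).2 h⟩
  rw [hiff]
  constructor
  · intro h
    refine mem_normalizer_of_cjS ?_
    exact (hexad_unique X hG hA (hA.conj hH) h ⟨_, hfA.1, rfl⟩).symm
  · exact fun h => ⟨M22Order.conj_mem_of_mem_normalizer h hfA.1, TT_conj hH hfA.2⟩

theorem common_spec {s s' : El} (hs : elOK s = true) (hs' : elOK s' = true) {a b : ℕ} (ha : a < 2048) (hb : b < 2048)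
    (hu : elM M a s ∈ HH z) (hv : elM M b s' ∈ HH z) :
    (Fix z (elM M a s) ∩ Fix z (elM M b s')).ncard = common s a s' b := by
  classical
  have e : Fix z (elM M a s) ∩ Fix z (elM M b s') =
      sideOf M '' (↑((List.range 77).filter fun k => fixB s a k && fixB s' b k).toFinset : Set ℕ) := by
    ext A
    simp only [Set.mem_inter_iff, Set.mem_image, List.coe_toFinset, Set.mem_ofPred_eq, List.mem_filter,
      List.mem_range, Bool.and_eq_true, Fix]
    constructor
    · rintro ⟨⟨hA, h1⟩, -, h2⟩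
      obtain ⟨k, hk, rfl⟩ := (eleven_iff M hG hgood).1 hA
      exact ⟨k, ⟨hk, (fixB_iff M hG hgood hs ha hu hk).2 h1,
        (fixB_iff M hG hgood hs' hb hv hk).2 h2⟩, rfl⟩
    · rintro ⟨k, ⟨hk, h1, h2⟩, rfl⟩
      exact ⟨⟨(sideOf_spec M hG hgood hk).1, (fixB_iff M hG hgood hs ha hu hk).1 h1⟩,
        (sideOf_spec M hG hgood hk).1, (fixB_iff M hG hgood hs' hb hv hk).1 h2⟩
  rw [e, Set.InjOn.ncard_image, Set.ncard_coe_finset,
    List.toFinset_card_of_nodup (List.nodup_range.filter _), common, List.countP_eq_length_filter]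
  intro x hx y hy he
  simp only [List.coe_toFinset, Set.mem_ofPred_eq, List.mem_filter, List.mem_range] at hx hy
  exact sideOf_inj M hG hgood hx.1 hy.1 he

end Cfsg.Agent.J4Order.Dict
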