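import Cfsg.Agent.Lib.J4Order.StabChecks
import Cfsg.Agent.Lib.J4Order.Sides
import Cfsg.Agent.Lib.J4Order.Hexads

/-!
# Janko four type: tools for the stabiliser of one of the 77

* `fixc_elM`: the number of fixed subgroups in the model;
* `conj_into`: conjugation into a Sylow subgroup of the stabiliser;
* `mem_H0_iv`: the subgroup of order `2 ^ 11` is inner.
-/

set_option autoImplicit false
set_option maxRecDepth 20000
set_option linter.style.haveILetI false
set_option linter.unusedSectionVars false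

namespace Cfsg.Agent.J4Order.Dict

open Subgroup
open Cfsg Cfsg.Agent.Golay.Basic Cfsg.Agent.Golay.Cert Cfsg.Agent.Golay.TabList
open Cfsg.Agent.Golay.M24
open Cfsg.Agent.J4Local Cfsg.Agent.J4Eleven
open Cfsg.Agent.J4V.Split (NV VN)
open Cfsg.Agent.J4Order.Model
open Cfsg.Agent.J4Order.Part
open Cfsg.Agent.J4Order.Stab
open Cfsg.Agent.J4V.Invol (tabOK_oT fix_facts)
open Cfsg.Agent.J4V.Invol.Checks (root oT inW)

universe u

theorem fixF_eq {s : El} (hs : elOK s = true) (a : ℕ) {i : ℕ} (hi : i < 77) : fixF s a i = fixB s a i := by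
  obtain ⟨hx, -, -⟩ := (classL_facts hi).2 _ (rep_mem hi)
  simp only [fixF, fixB]
  rw [Bool.eq_iff_iff]
  simp only [List.any_eq_true, conjRel, Bool.and_eq_true, Nat.beq_eq]
  refine exists_congr fun y => and_congr_right fun hy => and_congr_left fun _ => ?_
  obtain ⟨hy', -, -⟩ := (classL_facts hi).2 y hy
  have hx' : elOK (qEl (Part.rep i / 128)) = true := (qEl_facts (code_parts hx).1).1
  have hy'' : elOK (qEl (y / 128)) = true := (qEl_facts (code_parts hy').1).1
  constructor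
  · intro h
    have hp := tabConj_spec (p := qEl (Part.rep i / 128)) (c := qEl (y / 128)) hs hx' hy'' h
    refine eq_of_isTab (canon_mulTab _ _) (canon_mulTab _ _)
      (isTab_mul (isTab_perm hy'') (isTab_perm hs)) ?_
    rw [hp, inv_mul_cancel_right]
    exact isTab_mul (isTab_perm hs) (isTab_perm hx')
  · intro h
    have hlt : ∀ {e : El}, elOK e = true → ∀ j < 24, tabAt e.1 j < 24 := fun {e} he j hj => by
      have h := isTab_perm he (pt j)
      rw [ix_pt hj] at h
      rw [← h]; exact ix_lt _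
    have key : ∀ j < 24, tabAt (eTab y) (tabAt s.1 j) = tabAt s.1 (tabAt (eTab (Part.rep i)) j) := fun j hj => by
      have := congrArg (fun t => tabAt t j) h
      simp only [mulTab, tabAt_pack 24 _ j hj] at this
      change _ % 32 = _ % 32 at this
      change tabAt (qEl (y / 128)).1 _ = tabAt s.1 (tabAt (qEl (Part.rep i / 128)).1 j)
      change tabAt (qEl (y / 128)).1 _ % 32 = tabAt s.1 (tabAt (qEl (Part.rep i / 128)).1 j) % 32 at this
      rwa [Nat.mod_eq_of_lt (lt_trans (hlt hy'' _ (hlt hs j hj)) (by norm_num)),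
        Nat.mod_eq_of_lt (lt_trans (hlt hs _ (hlt hx' j hj)) (by norm_num))] at this
    simp only [tabConj, Bool.and_eq_true, Nat.beq_eq]
    repeat' constructor
    all_goals exact (key _ (by norm_num)).symm

variable {G : Type u} [Group G] [Finite G] {z : G} {P : Subgroup G} {X : Chart z P} (M : J4V.Invol.Model X)
  [IsSimpleGroup G]

theorem stab_mem {s : El} (h : stabEl s = true) (a : ℕ) :
    elOK s = true ∧ elM M a s ∈ normalizer (X.std : Set G) ⊓ HH z := by
  simp only [stabEl, Bool.and_eq_true] at h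
  exact ⟨h.1, mem_inf.2 ⟨elM_mem M h.1 a, (elM_HH M h.1).2 (Nat.eq_of_beq_eq_true h.2)⟩⟩

theorem elM_zero (s : El) : elM M 0 s = kE M s := by rw [elM, M.iv_zero, one_mul]

theorem tpow_tab {t : ℕ} {g : G} (h : M.Tab t g) : ∀ n, M.Tab (tpow t n) (g ^ n)
  | 0 => by rw [pow_zero, tpow]; exact M.tab_one
  | n + 1 => by rw [pow_succ', tpow]; exact h.mul (tpow_tab h n)

theorem kE_pow_one {s : El} (hs : elOK s = true) {n : ℕ} (h : tpow s.1 n = idTab) : kE M s ^ n = 1 := by
  have ht := tpow_tab M (kE_mem M hs).2 n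
  rw [h] at ht
  exact M.K_eq (pow_mem (kE_mem M hs).1 n) (one_mem _) ht M.tab_one

include X in
theorem conj_H0 {h x : G} (hh : h ∈ HH z) (hx : x ∈ H0 z P) : h * x * h⁻¹ ∈ H0 z P := by
  by_cases h0 : h ∈ H0 z P
  · exact mul_mem (mul_mem h0 hx) (inv_mem h0)
  · exact outer_mul X.L (mul_mem hh (H0_le_HH z P hx)) (inv_mem hh)
      (fun e => h0 (by simpa using mul_mem e (inv_mem hx))) (fun e => h0 (by simpa using inv_mem e))

theorem iv_HH (a : ℕ) : M.iv a ∈ HH z := mem_HH.2 (X.std_eleven.comm _ (M.iv_mem a) _ X.z_mem_std)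

theorem oddG_H0 {g : El × ℕ} (hg : g ∈ StabData.oddG) : elOK g.1 = true ∧ kE M g.1 ∈ H0 z P := by
  have h := innerOK_eq
  simp only [innerOK, Bool.and_eq_true, List.all_eq_true] at h
  obtain ⟨⟨h1, h2⟩, h3⟩ := h.1.1.1.1.2 g hg
  obtain ⟨hs, hm⟩ := stab_mem M h1 0
  rw [elM_zero] at hm
  exact ⟨hs, mem_H0_of_odd X (mem_inf.1 hm).2 (Odd.of_dvd_nat (Nat.odd_iff.2 (Nat.eq_of_beq_eq_true h2))
    (orderOf_dvd_of_pow_eq_one (kE_pow_one M hs (Nat.eq_of_beq_eq_true h3))))⟩

variable (hG : ¬ IsMulCommutative G)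

include hG

theorem mem_H0_iv {a : ℕ} (ha : a < 2048) : M.iv a ∈ H0 z P := by
  refine xor_ind 11 (fun a => M.iv a ∈ H0 z P) (by rw [M.iv_zero]; exact one_mem _)
    (fun a b _ _ hA hB => by rw [M.iv_xor]; exact mul_mem hA hB) (fun j hj => ?_) a ha
  have h := innerOK_eq
  simp only [innerOK, Bool.and_eq_true, List.all_eq_true, List.mem_range] at h
  obtain ⟨⟨⟨⟨⟨hlen, -⟩, -⟩, -⟩, -⟩, hsp⟩ := h
  have hsp' := hsp j hj
  generalize StabData.spanC.getD j (0, []) = e at hsp'
  obtain ⟨w, l⟩ := e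
  simp only [Bool.and_eq_true, List.all_eq_true, Nat.blt_eq] at hsp'
  obtain ⟨⟨hw, hl⟩, he⟩ := hsp'
  rw [Nat.eq_of_beq_eq_true he, M.iv_xor]
  refine mul_mem (EE_le_H0 z P (M.iv_EE hG hw)) ?_
  clear he
  induction l with
  | nil => rw [commV, M.iv_zero]; exact one_mem _
  | cons p l ih =>
    obtain ⟨g, x⟩ := p
    have hg : StabData.oddG.getD g ((0, 0), 0) ∈ StabData.oddG := by
      have hlt : g < StabData.oddG.length := by
        rw [Nat.eq_of_beq_eq_true hlen]; exact hl _ List.mem_cons_self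
      rw [List.getD_eq_getElem _ _ hlt]; exact List.getElem_mem _
    obtain ⟨hs, h0⟩ := oddG_H0 M hg
    rw [commV, M.iv_xor]
    refine mul_mem ?_ (ih fun q hq => hl q (List.mem_cons_of_mem _ hq))
    rw [M.iv_xor, ← conj_kE M hs]
    have := conj_H0 (X := X) (iv_HH M x) h0
    rw [M.iv_inv] at this
    simpa [mul_assoc] using mul_mem this (inv_mem h0)

theorem word_H0 : ∀ {w : List ℕ}, (∀ i ∈ w, i < 70) → ∃ k ∈ M.K, k ∈ H0 z P ∧ M.Tab (wordT w) k
  | [], _ => ⟨1, one_mem _, one_mem _, M.tab_one⟩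
  | i :: w, h => by
    obtain ⟨k, hk, hk0, hkT⟩ := word_H0 (w := w) fun j hj => h j (List.mem_cons_of_mem _ hj)
    have hi := h i List.mem_cons_self
    rw [wordT, genT]
    cases hb : Nat.blt i 6
    · have h6 : ¬ i < 6 := fun e => by rw [← Nat.blt_eq, hb] at e; exact Bool.noConfusion e
      have hq : i - 6 < 64 := by omega
      exact ⟨M.kO (i - 6) * k, mul_mem (M.kO_mem hq).1 hk, mul_mem (EE_le_H0 z P (M.kO_EE hG hq)) hk0,
        (M.kO_mem hq).2.mul hkT⟩
    · have h6 : i < 6 := Nat.blt_eq ▸ hb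
      have hlen := innerOK_eq
      simp only [innerOK, Bool.and_eq_true] at hlen
      have hlt : i < StabData.oddG.length := by rw [Nat.eq_of_beq_eq_true hlen.1.1.1.1.1]; exact h6
      simp only [cond_true, List.getD_eq_getElem _ _ hlt]
      obtain ⟨hs, h0⟩ := oddG_H0 M (List.getElem_mem hlt)
      exact ⟨_, mul_mem (kE_mem M hs).1 hk, mul_mem h0 hk0, (kE_mem M hs).2.mul hkT⟩

theorem even_H0 {r : El × List ℕ} (hr : r ∈ StabData.evenR) (hs : elOK r.1 = true) {a : ℕ} (ha : a < 2048) :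
    elM M a r.1 ∈ H0 z P := by
  have h := innerOK_eq
  simp only [innerOK, Bool.and_eq_true, List.all_eq_true, Nat.blt_eq] at h
  have hlen := Nat.eq_of_beq_eq_true h.1.1.1.2
  obtain ⟨i, hi, rfl⟩ := List.getElem_of_mem hr
  have hq : (StabData.words[i]'(by omega), StabData.evenR[i]) ∈ List.zip StabData.words StabData.evenR := by
    rw [← List.getElem_zip (i := i) (h := by simp [List.length_zip]; omega)]
    exact List.getElem_mem _
  obtain ⟨hw, ht⟩ := h.1.1.2 _ hq
  obtain ⟨k, hk, hk0, hkT⟩ := word_H0 M hG hw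
  rw [Nat.eq_of_beq_eq_true ht] at hkT
  rw [elM, kE_eq M hs hk hkT]
  exact mul_mem (mem_H0_iv M hG ha) hk0

variable (hgood : ¬ IsConj z (M.elt (root 2)))

include hgood

theorem fixc_elM {s : El} (hs : elOK s = true) {a : ℕ} (ha : a < 2048) (hH : elM M a s ∈ HH z) :
    fixc z (elM M a s) = fixK s a := by
  rw [fixc, ← Set.inter_self (Fix z _), common_spec M hG hgood hs hs ha ha hH hH, common, fixK]
  refine List.countP_congr fun i hi => ?_
  rw [fixF_eq hs a (List.mem_range.1 hi), Bool.and_self]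

omit hgood in
theorem fixc_shift {s : El} {a b : ℕ} (hw : inW (a ^^^ b) = true) : fixc z (elM M a s) = fixc z (elM M b s) := by
  refine congrArg Set.ncard (Set.ext fun A => and_congr_right fun hA => ?_)
  have he := EE_fix X hA (M.iv_EE hG hw)
  have e : elM M a s = M.iv (a ^^^ b) * elM M b s := by
    rw [elM, elM, ← mul_assoc, ← M.iv_xor, Nat.xor_assoc, Nat.xor_self, Nat.xor_zero]
  rw [e]
  exact mul_mem_cancel_left he

omit hG hgood in
theorem conj_into {p : ℕ} [Fact p.Prime] {e : ℕ} {Q : Subgroup G} (hQ : Q ≤ normalizer (X.std : Set G) ⊓ HH z)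
    (hc : Nat.card ↥Q = p ^ e) (hdvd : ¬ p ^ (e + 1) ∣ Nat.card ↥(normalizer (X.std : Set G) ⊓ HH z))
    {g : G} (hg : g ∈ normalizer (X.std : Set G) ⊓ HH z) {j : ℕ} (hj : g ^ p ^ j = 1) :
    ∃ d ∈ normalizer (X.std : Set G) ⊓ HH z, d * g * d⁻¹ ∈ Q := by
  set N := normalizer (X.std : Set G) ⊓ HH z
  obtain ⟨i, -, hi⟩ := (Nat.dvd_prime_pow (Fact.out : p.Prime)).1 (orderOf_dvd_of_pow_eq_one hj)
  have hpz : IsPGroup p (zpowers (⟨g, hg⟩ : ↥N)) :=
    IsPGroup.of_card (n := i) (by rw [Nat.card_zpowers, ← Subgroup.orderOf_coe, hi])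
  have hQN : Nat.card ↥(Q.subgroupOf N) = p ^ (Nat.card ↥N).factorization p := by
    rw [Nat.card_congr (subgroupOfEquivOfLe hQ).toEquiv, hc]
    congr 1
    have h0 : Nat.card ↥N ≠ 0 := Nat.card_pos.ne'
    have h1 : p ^ e ∣ Nat.card ↥N := hc ▸ card_dvd_of_le hQ
    have h2 := ((Fact.out : p.Prime).pow_dvd_iff_le_factorization h0).1 h1
    have h3 := mt ((Fact.out : p.Prime).pow_dvd_iff_le_factorization h0).2 hdvd
    omega
  obtain ⟨R, hR⟩ := hpz.exists_le_sylow
  obtain ⟨c, hc'⟩ := MulAction.exists_smul_eq ↥N R (Sylow.ofCard _ hQN)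
  refine ⟨c, c.2, ?_⟩
  have h1 : c * ⟨g, hg⟩ * c⁻¹ ∈ ((c • R : Sylow p ↥N) : Subgroup ↥N) := ⟨_, hR (mem_zpowers _), rfl⟩
  rw [hc'] at h1
  exact mem_subgroupOf.1 h1

end Cfsg.Agent.J4Order.Dict
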