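import Cfsg.Agent.Lib.J4Order.Part
import Cfsg.Agent.Lib.J4Order.StabData
import Cfsg.Agent.Lib.J4Order.Act

/-!
# Kernel checks for the stabiliser of one of the 77
-/

set_option autoImplicit false
set_option maxRecDepth 20000

namespace Cfsg.Agent.J4Order.Stab

open Cfsg Cfsg.Agent.Golay.Basic Cfsg.Agent.Golay.Cert Cfsg.Agent.Golay.TabList
open Cfsg.Agent.Golay.M24
open Cfsg.Agent.J4Order.Model
open Cfsg.Agent.J4Order.Part
open Cfsg.Agent.J4V.Invol.Checks (oT inW)

/-- The mask of the part in `E`. -/
def maskOK : Bool := Nat.beq (maskOf J4V.Invol.Checks.wList) StabData.wMask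

theorem maskOK_eq : maskOK = true := by decide +kernel

/-- Membership in the part in `E`. -/
def inM (x : ℕ) : Bool := StabData.wMask.testBit x

theorem inM_eq (x : ℕ) : inM x = inW x := by
  rw [inM, ← Nat.eq_of_beq_eq_true maskOK_eq, testBit_maskOf]
  rfl

/-- `fixB`, with the fast test of conjugation. -/
def fixF (s : El) (a i : ℕ) : Bool :=
  match Part.rep i with
  | x => match a ^^^ ap s (eVec x) with
    | v => (classL i).any fun y => tabConj s.1 (eTab x) (eTab y) &&
        Nat.beq (eVec y) (v ^^^ enc (J4V.Invol.Checks.oIm (y / 128)) a)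

/-- The classes fixed. -/
def fixK (s : El) (a : ℕ) : ℕ := (List.range 77).countP (fixF s a)

/-- The powers of a table. -/
def tpow (t : ℕ) : ℕ → ℕ
  | 0 => idTab
  | n + 1 => mulTab t (tpow t n)

/-- Good and fixing the sextet. -/
def stabEl (s : El) : Bool := elOK s && Nat.beq (ap s zv) zv

/-- The subgroup of order 27. -/
def threeOK : Bool :=
  Nat.beq StabData.threeL.length 27 && decide (StabData.threeL.map Prod.fst).Nodup &&
    (StabData.threeL.map Prod.fst).contains idTab &&
    StabData.threeL.all fun p => stabEl p &&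
      (StabData.threeL.all fun q => (StabData.threeL.map Prod.fst).contains (mulTab p.1 q.1)) &&
      Nat.beq (fixK p 0 % 2) 1

theorem threeOK_eq : threeOK = true := by decide +kernel

/-- The element of order five and its fixed vectors. -/
def fiveOK : Bool :=
  stabEl StabData.xEl && Nat.beq (tpow StabData.xEl.1 5) idTab && !Nat.beq StabData.xEl.1 idTab &&
    Nat.beq (fixK StabData.xEl 0) 2 && elOK StabData.xiEl &&
    Nat.beq (mulTab StabData.xEl.1 StabData.xiEl.1) idTab &&
    (List.range 2048).all fun a => !Nat.beq (ap StabData.xiEl a) a || StabData.fixV.contains a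

theorem fiveOK_eq : fiveOK = true := by decide +kernel

/-- `zty`, with the mask of the image given. -/
def ztyM (m : ℕ) (s : El) (a : ℕ) : Bool :=
  bif Nat.beq s.1 idTab then !Nat.beq a 0 && !dmask.testBit a
  else Nat.beq (ap s a) a && (m.testBit a == fix8 s.1)

theorem ztyM_eq {m : ℕ} {s : El} (h : imMask s = m) (a : ℕ) : ztyM m s a = zty s a := by
  subst h; rfl

/-- The inverting involutions, and whether the product with `z` is of the same class. -/
def flags : List (ℕ × ℕ × Bool) :=
  (List.range StabData.invL.length).flatMap fun n =>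
    match StabData.invL.getD n (0, 0), StabData.invM.getD n 0 with
    | s, m => (StabData.fixV.filter (ztyM m s)).map fun a => (n, a, ztyM m s (a ^^^ zv))

/-- One of the inverting involutions. -/
def ivEl (u : ℕ × ℕ × Bool) : El × ℕ := (StabData.invL.getD u.1 (0, 0), u.2.1)

/-- In `E`. -/
def inE (t c : ℕ) : Bool := inM c && J4V.Invol.Data.oL.contains t

/-- The tables of two of them. -/
def tabPairOK (s t : El) : Bool :=
  Nat.beq (tpow (mulTab (mulTab s.1 t.1) (mulTab s.1 t.1)) 5) idTab

/-- The product of two with its table of order at most two is of order at most two. -/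
def pairOK (u v : El × ℕ) : Bool :=
  bif Nat.beq (mulTab (mulTab u.1.1 v.1.1) (mulTab u.1.1 v.1.1)) idTab then
    match u.2 ^^^ ap u.1 v.2 with | c => Nat.beq (c ^^^ ap u.1 (ap v.1 c)) 0
  else true

/-- The candidates for the central one. -/
def partners (u : El × ℕ) : List (ℕ × ℕ × Bool) :=
  StabData.ivL.filter fun v =>
    !v.2.2 && inE (mulTab (ivEl v).1.1 u.1.1) (v.2.1 ^^^ ap (ivEl v).1 u.2)

/-- The inverting involutions are as said. -/
def invOK : Bool :=
  (flags == StabData.ivL) &&
    (List.range StabData.invL.length).all (fun n =>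
      Nat.beq (imMask (StabData.invL.getD n (0, 0))) (StabData.invM.getD n 0)) &&
    StabData.invL.all (fun s => stabEl s && Nat.beq (mulTab s.1 s.1) idTab &&
      Nat.beq (mulTab (mulTab s.1 StabData.xEl.1) s.1) StabData.xiEl.1) &&
    StabData.fixV.all (fun a => Nat.blt a 2048 && Nat.beq (ap StabData.xiEl a) a) &&
    StabData.invL.all (fun s => StabData.invL.all fun t => tabPairOK s t) &&
    StabData.ivL.all (fun u => StabData.ivL.all fun v => pairOK (ivEl u) (ivEl v)) &&
    StabData.ivL.all fun u => !u.2.2 ||
      match partners (ivEl u) with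
      | [v] => Nat.beq (mulTab (mulTab (ivEl v).1.1 (ivEl u).1.1) (mulTab (ivEl v).1.1 (ivEl u).1.1)) idTab
      | _ => false

theorem invOK_eq : invOK = true := by decide +kernel

/-- A class of involutions has enough fixed classes on its part of the class of `z`. -/
def rootOK (lo : ℕ) (r : El × List ℕ) : Bool :=
  stabEl r.1 && r.2.all (fun b => Nat.blt b 2048 && Nat.ble lo (fixK r.1 b)) &&
    (zList r.1).all fun a => r.2.any fun b => inM (a ^^^ b)

theorem evenR_ok : StabData.evenR.all (rootOK 12) = true := by decide +kernel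

theorem oddR_ok : StabData.oddR.all (rootOK 16) = true := by decide +kernel

/-- The elements of odd order, then those fixing the tetrads. -/
def genT (i : ℕ) : ℕ :=
  bif Nat.blt i 6 then (StabData.oddG.getD i ((0, 0), 0)).1.1 else oT (i - 6)

/-- The product of a word. -/
def wordT : List ℕ → ℕ
  | [] => idTab
  | i :: w => mulTab (genT i) (wordT w)

/-- A basis vector from commutators. -/
def commV : List (ℕ × ℕ) → ℕ
  | [] => 0
  | (g, x) :: l => (x ^^^ ap (StabData.oddG.getD g ((0, 0), 0)).1 x) ^^^ commV l

/-- The inner part. -/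
def innerOK : Bool :=
  Nat.beq StabData.oddG.length 6 &&
    StabData.oddG.all (fun g => stabEl g.1 && Nat.beq (g.2 % 2) 1 && Nat.beq (tpow g.1.1 g.2) idTab) &&
    Nat.beq StabData.words.length StabData.evenR.length &&
    (List.zip StabData.words StabData.evenR).all (fun q =>
      q.1.all (fun i => Nat.blt i 70) && Nat.beq (wordT q.1) q.2.1.1) &&
    Nat.beq StabData.spanC.length 11 &&
    (List.range 11).all fun j =>
      match StabData.spanC.getD j (0, []) with
      | (w, l) => inW w && l.all (fun p => Nat.blt p.1 6) && Nat.beq (2 ^ j) (w ^^^ commV l)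

theorem innerOK_eq : innerOK = true := by decide +kernel

end Cfsg.Agent.J4Order.Stab
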