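import Cfsg.Agent.Lib.J4Order.StabBase
import Cfsg.Agent.Lib.J4Order.Unfixed

/-!
# Janko four type: the fixed subgroups of the elements of the stabiliser of one of the 77

* `fixc_three`, `fixc_five`, `fixc_small`, `fixc_mid`.
-/

set_option autoImplicit false
set_option maxRecDepth 20000
set_option linter.style.haveILetI false
set_option linter.unusedSectionVars false

namespace Cfsg.Agent.J4Order.Dict

open Subgroup
open Cfsg Cfsg.Agent.Golay.Basic Cfsg.Agent.Golay.Cert Cfsg.Agent.Golay.TabList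
open Cfsg.Agent.Golay.M24
open Cfsg.Agent.J4Local Cfsg.Agent.J4Eleven
open Cfsg.Agent.J4V.Split (NV VN)
open Cfsg.Agent.J4Order.Model
open Cfsg.Agent.J4Order.Part
open Cfsg.Agent.J4Order.Stab
open Cfsg.Agent.J4V.Invol.Checks (root inW)

universe u

variable {G : Type u} [Group G] [Finite G] {z : G} {P : Subgroup G} {X : Chart z P} (M : J4V.Invol.Model X)
  [IsSimpleGroup G] (hG : ¬ IsMulCommutative G) (hgood : ¬ IsConj z (M.elt (root 2)))

/-- The element of order five. -/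
noncomputable def xK : G := kE M StabData.xEl

theorem xK_facts : xK M ∈ normalizer (X.std : Set G) ⊓ HH z ∧ orderOf (xK M) = 5 ∧ elOK StabData.xEl = true := by
  have h := fiveOK_eq
  simp only [fiveOK, Bool.and_eq_true, Bool.not_eq_true'] at h
  obtain ⟨⟨⟨⟨⟨⟨h1, h2⟩, h3⟩, -⟩, -⟩, -⟩, -⟩ := h
  obtain ⟨hs, hm⟩ := stab_mem M h1 0
  rw [elM_zero] at hm
  refine ⟨hm, ?_, hs⟩
  haveI : Fact (Nat.Prime 5) := ⟨by norm_num⟩
  refine orderOf_eq_prime (kE_pow_one M hs (Nat.eq_of_beq_eq_true h2)) fun e => ?_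
  have e1 := eq_of_isTab (tabOK_of hs).2 canon_idTab (isTab_tabPerm (tabOK_of hs).1)
    (by rw [show tabPerm StabData.xEl.1 = 1 from (kE_eq_one M hs).1 e]; exact isTab_one)
  rw [e1] at h3; simp at h3

include X in
theorem card_stabN : Nat.card ↥(normalizer (X.std : Set G) ⊓ HH z) = 2 ^ 21 * 3 ^ 3 * 5 := by
  rw [X.card_normalizer_HH]; norm_num

/-- Conjugation of an element of order five to the standard one. -/
theorem five_to_std {x : G} (hx : x ∈ normalizer (X.std : Set G) ⊓ HH z) (h5 : orderOf x = 5) :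
    ∃ d ∈ normalizer (X.std : Set G) ⊓ HH z, zpowers (d * x * d⁻¹) = zpowers (xK M) := by
  haveI : Fact (Nat.Prime 5) := ⟨by norm_num⟩
  obtain ⟨hxK, ho, -⟩ := xK_facts M
  obtain ⟨d, hd, hdx⟩ := conj_into (X := X) (p := 5) (e := 1) (zpowers_le.2 hxK)
    (by rw [Nat.card_zpowers, ho, pow_one]) (by rw [card_stabN (X := X)]; norm_num) hx (j := 1)
    (by rw [pow_one, ← h5, pow_orderOf_eq_one])
  refine ⟨d, hd, eq_of_le_of_card_ge (zpowers_le.2 hdx) ?_⟩
  rw [Nat.card_zpowers, Nat.card_zpowers, ho, M22Order.orderOf_conj, h5]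

include hG hgood

theorem fixc_five {x : G} (hx : x ∈ normalizer (X.std : Set G) ⊓ HH z) (h5 : orderOf x = 5) : fixc z x = 2 := by
  obtain ⟨d, hd, hzp⟩ := five_to_std M hx h5
  obtain ⟨hxK, -, hs⟩ := xK_facts M
  have h := fiveOK_eq
  simp only [fiveOK, Bool.and_eq_true] at h
  obtain ⟨⟨⟨⟨-, h2⟩, -⟩, -⟩, -⟩ := h
  rw [← fixc_conj (mem_inf.1 hd).2 x, ← Nat.eq_of_beq_eq_true h2,
    ← fixc_elM M hG hgood hs (show (0 : ℕ) < 2048 by norm_num) (by rw [elM_zero]; exact (mem_inf.1 hxK).2),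
    elM_zero]
  refine congrArg Set.ncard (Set.ext fun A => and_congr_right fun _ => ?_)
  rw [← zpowers_le, hzp, zpowers_le]
  rfl

theorem fixc_three {r : G} (hr : r ∈ normalizer (X.std : Set G) ⊓ HH z) (h27 : r ^ 27 = 1) :
    Odd (fixc z r) := by
  classical
  haveI : Fact (Nat.Prime 3) := ⟨Nat.prime_three⟩
  have h := threeOK_eq
  simp only [threeOK, Bool.and_eq_true, List.all_eq_true, decide_eq_true_eq, List.contains_iff_mem,
    List.mem_map, Nat.beq_eq] at h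
  obtain ⟨⟨⟨hlen, hnd⟩, ⟨o, ho, hoid⟩⟩, hall⟩ := h
  have hok : ∀ p ∈ StabData.threeL, elOK p = true ∧ kE M p ∈ normalizer (X.std : Set G) ⊓ HH z := fun p hp => by
    obtain ⟨hs, hm⟩ := stab_mem M (hall p hp).1.1 0
    rw [elM_zero] at hm
    exact ⟨hs, hm⟩
  set C : Set G := {g | ∃ p ∈ StabData.threeL, g = kE M p} with hC
  have hone : (1 : G) ∈ C := ⟨o, ho, ((kE_eq_one M (hok o ho).1).2 (by
    rw [Dict.perm, hoid]; exact tabPerm_idTab)).symm⟩
  have hmul : ∀ {a b}, a ∈ C → b ∈ C → a * b ∈ C := by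
    rintro _ _ ⟨p, hp, rfl⟩ ⟨q, hq, rfl⟩
    obtain ⟨r, hr, e⟩ := (hall p hp).1.2 q hq
    refine ⟨r, hr, (kE_eq M (hok r hr).1 (mul_mem (kE_mem M (hok p hp).1).1 (kE_mem M (hok q hq).1).1) ?_).symm⟩
    rw [e]
    exact (kE_mem M (hok p hp).1).2.mul (kE_mem M (hok q hq).1).2
  let S : Submonoid G := { carrier := C, one_mem' := hone, mul_mem' := hmul }
  let Q : Subgroup G := { S with
    inv_mem' := fun {a} (ha : a ∈ S) => show a⁻¹ ∈ S by
      obtain ⟨n, hn⟩ := (mem_powers_iff_mem_zpowers (x := a) (y := a⁻¹)).2 (inv_mem (mem_zpowers a))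
      exact hn ▸ pow_mem ha n }
  have hQle : Q ≤ normalizer (X.std : Set G) ⊓ HH z := by
    rintro g ⟨p, hp, rfl⟩; exact (hok p hp).2
  have hcard : Nat.card ↥Q = 3 ^ 3 := by
    rw [show Nat.card ↥Q = C.ncard from Nat.card_coe_set_eq C, show C = kE M '' ↑StabData.threeL.toFinset by
      ext g; simp [hC, eq_comm], Set.InjOn.ncard_image, Set.ncard_coe_finset,
      List.toFinset_card_of_nodup (hnd.of_map _), hlen]
    · norm_num
    intro p hp q hq e
    simp only [List.coe_toFinset, Set.mem_ofPred_eq] at hp hq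
    exact List.inj_on_of_nodup_map hnd hp hq (elM_inj M (hok p hp).1 (hok q hq).1
      (show (0 : ℕ) < 2048 by norm_num) (show (0 : ℕ) < 2048 by norm_num) (by rw [elM_zero, elM_zero, e])).2
  obtain ⟨d, hd, hdr⟩ := conj_into (X := X) hQle hcard (by rw [card_stabN (X := X)]; norm_num) hr (j := 3) h27
  obtain ⟨p, hp, e⟩ := hdr
  rw [← fixc_conj (mem_inf.1 hd).2 r, e, ← elM_zero M p,
    fixc_elM M hG hgood (hok p hp).1 (show (0 : ℕ) < 2048 by norm_num) (by
      rw [elM_zero]; exact (mem_inf.1 (hok p hp).2).2), Nat.odd_iff]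
  exact (hall p hp).2

variable (hred : ∀ w ∈ normalizer (X.std : Set G) ⊓ HH z, w * w = 1 →
  ∃ d ∈ normalizer (X.std : Set G) ⊓ HH z, ∃ r ∈ StabData.evenR ++ StabData.oddR, ∃ a < 2048,
    d * w * d⁻¹ = elM M a r.1)

include hred

theorem fixc_root {w : G} (hw : w ∈ normalizer (X.std : Set G) ⊓ HH z) (h2 : w * w = 1) (hz : IsConj z w) :
    (12 ≤ fixc z w ∧ w ∈ H0 z P) ∨ 16 ≤ fixc z w := by
  obtain ⟨d, hd, r, hr, a, ha, e⟩ := hred w hw h2
  obtain ⟨lo, hok, hlo⟩ : ∃ lo, rootOK lo r = true ∧ (12 = lo ∧ r ∈ StabData.evenR ∨ 16 = lo) := by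
    rcases List.mem_append.1 hr with h | h
    · exact ⟨12, List.all_eq_true.1 evenR_ok r h, Or.inl ⟨rfl, h⟩⟩
    · exact ⟨16, List.all_eq_true.1 oddR_ok r h, Or.inr rfl⟩
  simp only [rootOK, Bool.and_eq_true, List.all_eq_true, List.any_eq_true, Nat.blt_eq, Nat.ble_eq] at hok
  obtain ⟨⟨hst, hb⟩, hz'⟩ := hok
  obtain ⟨hs, hm⟩ := stab_mem M hst a
  have hv : IsConj z (elM M a r.1) := e ▸ hz.trans (isConj_iff.2 ⟨d, rfl⟩)
  have hsq : elM M a r.1 * elM M a r.1 = 1 := by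
    rw [← e, show d * w * d⁻¹ * (d * w * d⁻¹) = d * (w * w) * d⁻¹ by group, h2]; group
  have hp : Dict.perm r.1 * Dict.perm r.1 = 1 := by
    rw [← pr_elM M hs a, ← Subgroup.coe_mul, ← map_mul,
      show (⟨elM M a r.1, elM_mem M hs a⟩ * ⟨elM M a r.1, elM_mem M hs a⟩ : ↥(NV X.std)) = 1 from
        Subtype.ext hsq, map_one, Subgroup.coe_one]
  obtain ⟨b, hbm, hab⟩ := hz' a (mem_zList.2 ⟨ha, (zty_iff M hG hgood hs hp ha).2 hv⟩)
  rw [inM_eq] at hab
  obtain ⟨hb1, hb2⟩ := hb b hbm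
  have hf : lo ≤ fixc z w := by
    rw [← fixc_conj (mem_inf.1 hd).2 w, e, fixc_shift M hG hab,
      fixc_elM M hG hgood hs hb1 (mem_inf.1 (stab_mem M hst b).2).2]
    exact hb2
  rcases hlo with ⟨rfl, hev⟩ | rfl
  · refine Or.inl ⟨hf, ?_⟩
    have h := conj_H0 (X := X) (inv_mem (mem_inf.1 hd).2) (even_H0 M hG hev hs ha)
    rwa [← e, show d⁻¹ * (d * w * d⁻¹) * d⁻¹⁻¹ = w by group] at h
  · exact Or.inr hf

theorem fixc_small {w : G} (hw : w ∈ normalizer (X.std : Set G) ⊓ HH z) (h2 : w * w = 1) (hle : fixc z w ≤ 11) :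
    ¬ IsConj z w := fun hz => by
  rcases fixc_root M hG hgood hred hw h2 hz with ⟨h, -⟩ | h <;> omega

theorem fixc_mid {w : G} (hw : w ∈ normalizer (X.std : Set G) ⊓ HH z) (h2 : w * w = 1) (hle : fixc z w ≤ 15) :
    ¬ IsConj z w ∨ w ∈ H0 z P := by
  by_cases hz : IsConj z w
  · rcases fixc_root M hG hgood hred hw h2 hz with ⟨-, h⟩ | h
    · exact Or.inr h
    · omega
  · exact Or.inl hz

end Cfsg.Agent.J4Order.Dict
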