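import Cfsg.Agent.Lib.J4Order.StabFix

/-!
# Janko four type: the involutions inverting an element of order five

* `five_sq_one`, `five_centre`.
-/

set_option autoImplicit false
set_option maxRecDepth 20000
set_option linter.style.haveILetI false
set_option linter.unusedSectionVars false

namespace Cfsg.Agent.J4Order.Dict

open Subgroup
open Cfsg Cfsg.Agent.Golay.Basic Cfsg.Agent.Golay.Cert Cfsg.Agent.Golay.TabList
open Cfsg.Agent.Golay.M24
open Cfsg.Agent.J4Local Cfsg.Agent.J4Eleven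
open Cfsg.Agent.J4V.Split (NV VN)
open Cfsg.Agent.J4Order.Model
open Cfsg.Agent.J4Order.Part
open Cfsg.Agent.J4Order.Stab
open Cfsg.Agent.J4V.Invol.Checks (root inW oT)

universe u

variable {G : Type u} [Group G] [Finite G] {z : G} {P : Subgroup G} {X : Chart z P} (M : J4V.Invol.Model X)
  [IsSimpleGroup G] (hG : ¬ IsMulCommutative G) (hgood : ¬ IsConj z (M.elt (root 2)))

/-- Conjugation by an element of the stabiliser moves the inverting elements to those of the standard one. -/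
theorem invert_std {x d : G} (hd : zpowers (d * x * d⁻¹) = zpowers (xK M)) {u : G}
    (h : u * x * u⁻¹ = x⁻¹) : d * u * d⁻¹ * xK M * (d * u * d⁻¹)⁻¹ = (xK M)⁻¹ := by
  have hm : xK M ∈ zpowers (d * x * d⁻¹) := hd ▸ mem_zpowers _
  obtain ⟨k, hk⟩ := mem_zpowers_iff.1 hm
  rw [← hk, ← conj_zpow, show d * u * d⁻¹ * (d * x * d⁻¹) * (d * u * d⁻¹)⁻¹ = d * (u * x * u⁻¹) * d⁻¹ by group,
    h, show d * x⁻¹ * d⁻¹ = (d * x * d⁻¹)⁻¹ by group, inv_zpow]

theorem elM_mul {s t : El} (hs : elOK s = true) (a b : ℕ) :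
    elM M a s * elM M b t = M.iv (a ^^^ ap s b) * (kE M s * kE M t) := by
  rw [M.iv_xor, ← conj_kE M hs, elM, elM]; group

include hG hgood

variable (hinv : ∀ u ∈ normalizer (X.std : Set G) ⊓ HH z, u * u = 1 → u * xK M * u⁻¹ = (xK M)⁻¹ →
  ∃ s ∈ StabData.invL, ∃ a < 2048, u = elM M a s)

include hinv

theorem ivL_of {u : G} (hu : u ∈ normalizer (X.std : Set G) ⊓ HH z) (h2 : u * u = 1) (hz : IsConj z u)
    (hx : u * xK M * u⁻¹ = (xK M)⁻¹) :
    ∃ v ∈ StabData.ivL, elOK (ivEl v).1 = true ∧ v.2.1 < 2048 ∧ u = elM M (ivEl v).2 (ivEl v).1 ∧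
      (v.2.2 = true ↔ IsConj z (u * z)) := by
  obtain ⟨s, hs, a, ha, rfl⟩ := hinv u hu h2 hx
  have hI := invOK_eq
  simp only [invOK, Bool.and_eq_true, List.all_eq_true, List.mem_range, beq_iff_eq] at hI
  obtain ⟨⟨⟨⟨⟨⟨hflag, hM⟩, hS⟩, hV⟩, -⟩, -⟩, -⟩ := hI
  obtain ⟨⟨hst, hsq⟩, hsx⟩ := hS s hs
  obtain ⟨hok, -⟩ := stab_mem M hst a
  have hp : Dict.perm s * Dict.perm s = 1 := by
    have h := isTab_mul (isTab_perm hok) (isTab_perm hok)
    rw [Nat.eq_of_beq_eq_true hsq] at h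
    exact h.unique isTab_one
  have h5 := fiveOK_eq
  simp only [fiveOK, Bool.and_eq_true, List.all_eq_true, List.mem_range, Bool.or_eq_true,
    Bool.not_eq_true'] at h5
  obtain ⟨⟨⟨⟨⟨⟨hX, -⟩, -⟩, -⟩, hXi⟩, hXX⟩, hfix⟩ := h5
  have hXok := (stab_mem M hX 0).1
  have hinvx : (kE M StabData.xEl)⁻¹ = kE M StabData.xiEl := by
    refine inv_eq_of_mul_eq_one_right (M.K_eq (mul_mem (kE_mem M hXok).1 (kE_mem M hXi).1) (one_mem _)
      ((kE_mem M hXok).2.mul (kE_mem M hXi).2) ?_)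
    rw [Nat.eq_of_beq_eq_true hXX]; exact M.tab_one
  have hkk : kE M s * kE M StabData.xEl * kE M s = kE M StabData.xiEl := by
    refine M.K_eq (mul_mem (mul_mem (kE_mem M hok).1 (kE_mem M hXok).1) (kE_mem M hok).1) (kE_mem M hXi).1
      (((kE_mem M hok).2.mul (kE_mem M hXok).2).mul (kE_mem M hok).2) ?_
    rw [Nat.eq_of_beq_eq_true hsx]; exact (kE_mem M hXi).2
  have hfa : ap StabData.xiEl a = a := by
    have e : elM M a s * xK M * (elM M a s)⁻¹ = M.iv (a ^^^ ap StabData.xiEl a) * kE M StabData.xiEl := by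
      rw [M.iv_xor, ← conj_kE M hXi, elM, mul_inv_rev, inv_eq_of_mul_eq_one_right (kE_sq M hok hp), M.iv_inv,
        ← hkk, xK]
      group
    rw [e, xK, hinvx] at hx
    have h := (M.decomp_unique (Nat.xor_lt_two_pow (n := 11) ha (Dict.ap_lt _ _)) (show (0 : ℕ) < 2048 by norm_num)
      (kE_mem M hXi).1 (kE_mem M hXi).1 (by rw [M.iv_zero, one_mul]; exact hx)).1
    exact (Nat.xor_eq_zero_iff.1 h).symm
  have hfv : a ∈ StabData.fixV := by
    rcases hfix a ha with h | h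
    · rw [hfa] at h; simp at h
    · exact List.contains_iff_mem.1 h
  obtain ⟨n, hn, rfl⟩ := List.getElem_of_mem hs
  have hm : imMask StabData.invL[n] = StabData.invM.getD n 0 := by
    have := Nat.eq_of_beq_eq_true (hM n hn)
    rwa [List.getD_eq_getElem _ _ hn] at this
  have hmem : (n, a, ztyM (StabData.invM.getD n 0) StabData.invL[n] (a ^^^ zv)) ∈ StabData.ivL := by
    rw [← hflag, flags, List.mem_flatMap]
    refine ⟨n, List.mem_range.2 hn, ?_⟩
    simp only [List.getD_eq_getElem _ _ hn]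
    refine List.mem_map.2 ⟨a, List.mem_filter.2 ⟨hfv, ?_⟩, rfl⟩
    rw [ztyM_eq hm]
    exact (zty_iff M hG hgood hok hp ha).2 hz
  refine ⟨_, hmem, ?_, ha, ?_, ?_⟩
  · simp only [ivEl, List.getD_eq_getElem _ _ hn]; exact hok
  · simp only [ivEl, List.getD_eq_getElem _ _ hn]
  · show ztyM _ _ (a ^^^ zv) = true ↔ _
    rw [ztyM_eq hm, zty_iff M hG hgood hok hp (show a ^^^ zv < 2048 from Nat.xor_lt_two_pow (n := 11) ha J4V.Invol.duads_facts.2.2.2.2.1)]
    have hkz : kE M StabData.invL[n] * z = z * kE M StabData.invL[n] := by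
      have h := (stab_mem M hst 0).2
      rw [elM_zero] at h
      exact mem_HH.1 (mem_inf.1 h).2
    rw [show elM M (a ^^^ zv) StabData.invL[n] = elM M a StabData.invL[n] * z by
      rw [elM, elM, M.iv_xor, show M.iv zv = z from M.hz, mul_assoc, mul_assoc, hkz]]

theorem five_sq_one {x : G} (hx : x ∈ normalizer (X.std : Set G) ⊓ HH z) (h5 : orderOf x = 5) {u v : G}
    (hu : u ∈ normalizer (X.std : Set G) ⊓ HH z) (hv : v ∈ normalizer (X.std : Set G) ⊓ HH z) (huu : u * u = 1)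
    (huz : IsConj z u) (hux : u * x * u⁻¹ = x⁻¹) (hvv : v * v = 1) (hvz : IsConj z v)
    (hvx : v * x * v⁻¹ = x⁻¹) (hk : ∃ k : ℕ, (u * v) ^ 2 ^ k = 1) : u * v * (u * v) = 1 := by
  obtain ⟨d, hd, hzp⟩ := five_to_std M hx h5
  obtain ⟨k, hk⟩ := hk
  suffices h : d * u * d⁻¹ * (d * v * d⁻¹) * (d * u * d⁻¹ * (d * v * d⁻¹)) = 1 by
    rw [show d * u * d⁻¹ * (d * v * d⁻¹) * (d * u * d⁻¹ * (d * v * d⁻¹)) = d * (u * v * (u * v)) * d⁻¹ by group] at h
    exact conj_eq_one_iff.1 h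
  have hk' : (d * u * d⁻¹ * (d * v * d⁻¹)) ^ 2 ^ k = 1 := by
    rw [show d * u * d⁻¹ * (d * v * d⁻¹) = d * (u * v) * d⁻¹ by group, conj_pow, hk]; group
  obtain ⟨p, hp, hpok, -, hpe, -⟩ := ivL_of M hG hgood hinv (mul_mem (mul_mem hd hu) (inv_mem hd))
    (by rw [show d * u * d⁻¹ * (d * u * d⁻¹) = d * (u * u) * d⁻¹ by group, huu]; group)
    (huz.trans (isConj_iff.2 ⟨d, rfl⟩)) (invert_std M hzp hux)
  obtain ⟨q, hq, hqok, -, hqe, -⟩ := ivL_of M hG hgood hinv (mul_mem (mul_mem hd hv) (inv_mem hd))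
    (by rw [show d * v * d⁻¹ * (d * v * d⁻¹) = d * (v * v) * d⁻¹ by group, hvv]; group)
    (hvz.trans (isConj_iff.2 ⟨d, rfl⟩)) (invert_std M hzp hvx)
  rw [hpe, hqe] at hk' ⊢
  have hI := invOK_eq
  simp only [invOK, Bool.and_eq_true, List.all_eq_true] at hI
  obtain ⟨⟨⟨hS, htp⟩, hpair⟩, -⟩ := hI
  have hpair' := hpair p hp q hq
  set s := (ivEl p).1
  set t := (ivEl q).1
  set a := (ivEl p).2
  set b := (ivEl q).2
  have hst : ∀ {w : ℕ × ℕ × Bool}, w ∈ StabData.ivL → (ivEl w).1 ∈ StabData.invL := fun {w} hw => by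
    have h := invOK_eq
    simp only [invOK, Bool.and_eq_true, beq_iff_eq] at h
    rw [← h.1.1.1.1.1.1, flags, List.mem_flatMap] at hw
    obtain ⟨n, hn, hw⟩ := hw
    rw [List.mem_range] at hn
    simp only [List.mem_map] at hw
    obtain ⟨c, -, rfl⟩ := hw
    simp only [ivEl, List.getD_eq_getElem _ _ hn]
    exact List.getElem_mem _
  have h10 := htp s (hst hp) t (hst hq)
  rw [tabPairOK] at h10
  set R := kE M s * kE M t
  have hRK : R ∈ M.K := mul_mem (kE_mem M hpok).1 (kE_mem M hqok).1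
  have hRT : M.Tab (mulTab s.1 t.1) R := (kE_mem M hpok).2.mul (kE_mem M hqok).2
  have hR10 : (R * R) ^ 5 = 1 := by
    have ht := tpow_tab M (hRT.mul hRT) 5
    rw [Nat.eq_of_beq_eq_true h10] at ht
    exact M.K_eq (pow_mem (mul_mem hRK hRK) 5) (one_mem _) ht M.tab_one
  have hNV : ∀ a, elM M a s * elM M b t ∈ NV X.std := fun a => mul_mem (elM_mem M hpok a) (elM_mem M hqok b)
  have hR2k : R ^ 2 ^ k = 1 := by
    have hc := elM_mul M (t := t) hpok a b
    set c := a ^^^ ap s b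
    have key : ∀ m, ∃ y ∈ X.std, (M.iv c * R) ^ m = y * R ^ m := by
      intro m
      induction m with
      | zero => exact ⟨1, one_mem _, by simp⟩
      | succ m ih =>
        obtain ⟨y, hy, e⟩ := ih
        refine ⟨M.iv c * (R * y * R⁻¹), mul_mem (M.iv_mem c)
          (M22Order.conj_mem_of_mem_normalizer (M.hK hRK) hy), ?_⟩
        rw [pow_succ', e, pow_succ']; group
    obtain ⟨y, hy, e⟩ := key (2 ^ k)
    rw [hc, e] at hk'
    refine M.inj _ (pow_mem hRK _) ?_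
    rw [eq_inv_of_mul_eq_one_right hk']
    exact inv_mem hy
  have hR2 : R * R = 1 := by
    have h1 : orderOf R ∣ 10 := orderOf_dvd_of_pow_eq_one (by
      rw [show (10 : ℕ) = 2 * 5 by norm_num, pow_mul, pow_two, hR10])
    have h2 : orderOf R ∣ 2 ^ k := orderOf_dvd_of_pow_eq_one hR2k
    have h3 : orderOf R ∣ 2 := by
      have hcop : Nat.Coprime (orderOf R) 5 :=
        Nat.Coprime.coprime_dvd_left h2 (Nat.Coprime.pow_left _ (by norm_num))
      exact hcop.dvd_of_dvd_mul_right (show orderOf R ∣ 2 * 5 from h1)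
    rw [← pow_two]; exact orderOf_dvd_iff_pow_eq_one.1 h3
  have htab : Nat.beq (mulTab (mulTab s.1 t.1) (mulTab s.1 t.1)) idTab = true := by
    rw [M.tab_unique (canon_mulTab _ _) canon_idTab (hRT.mul hRT) (by rw [hR2]; exact M.tab_one)]
    exact Nat.beq_refl _
  rw [pairOK] at hpair'
  rw [show (ivEl p).1 = s from rfl, show (ivEl q).1 = t from rfl, htab] at hpair'
  simp only [cond_true] at hpair'
  rw [elM_mul M hpok a b]
  have hRc : ∀ x, R * M.iv x * R⁻¹ = M.iv (ap s (ap t x)) := fun x => by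
    rw [← conj_kE M hpok, ← conj_kE M hqok]; simp only [R]; group
  calc M.iv (a ^^^ ap s b) * R * (M.iv (a ^^^ ap s b) * R)
      = M.iv (a ^^^ ap s b) * (R * M.iv (a ^^^ ap s b) * R⁻¹) * (R * R) := by group
    _ = 1 := by
      rw [hRc, hR2, mul_one, ← M.iv_xor, Nat.eq_of_beq_eq_true hpair', M.iv_zero]

theorem five_centre {x : G} (hx : x ∈ normalizer (X.std : Set G) ⊓ HH z) (h5 : orderOf x = 5) {u : G}
    (hu : u ∈ normalizer (X.std : Set G) ⊓ HH z) (huu : u * u = 1) (huz : IsConj z u) (huz' : IsConj z (u * z))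
    (hux : u * x * u⁻¹ = x⁻¹) :
    ∃ u0 ∈ normalizer (X.std : Set G) ⊓ HH z, u0 * u0 = 1 ∧ IsConj z u0 ∧ u0 * x * u0⁻¹ = x⁻¹ ∧
      ¬ IsConj z (u0 * z) ∧ u0 * u ∈ EE z ∧ (u0 * u) * (u0 * u) = 1 ∧
      ∀ u1 ∈ normalizer (X.std : Set G) ⊓ HH z, u1 * u1 = 1 → IsConj z u1 → u1 * x * u1⁻¹ = x⁻¹ →
        u1 * u ∈ EE z → ¬ IsConj z (u1 * z) → u1 = u0 := by
  obtain ⟨d, hd, hzp⟩ := five_to_std M hx h5
  have hdz : d * z * d⁻¹ = z := by rw [mem_HH.1 (mem_inf.1 hd).2, mul_inv_cancel_right]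
  have hzc : ∀ w, IsConj z (d * w * d⁻¹ * z) ↔ IsConj z (w * z) := fun w => by
    have e : d * w * d⁻¹ * z = d * (w * z) * d⁻¹ := by
      calc d * w * d⁻¹ * z = d * w * d⁻¹ * (d * z * d⁻¹) := by rw [hdz]
        _ = _ := by group
    rw [e]
    exact ⟨fun h => h.trans (isConj_iff.2 ⟨d, rfl⟩).symm, fun h => h.trans (isConj_iff.2 ⟨d, rfl⟩)⟩
  obtain ⟨p, hp, hpok, hpa, hpe, hpf⟩ := ivL_of M hG hgood hinv (mul_mem (mul_mem hd hu) (inv_mem hd))
    (by rw [show d * u * d⁻¹ * (d * u * d⁻¹) = d * (u * u) * d⁻¹ by group, huu]; group)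
    (huz.trans (isConj_iff.2 ⟨d, rfl⟩)) (invert_std M hzp hux)
  have hflag : p.2.2 = true := hpf.2 ((hzc u).2 huz')
  have hI := invOK_eq
  simp only [invOK, Bool.and_eq_true, List.all_eq_true, beq_iff_eq, Bool.or_eq_true, Bool.not_eq_true'] at hI
  obtain ⟨⟨⟨⟨⟨⟨hfl, hM⟩, hS⟩, hV⟩, -⟩, hpair⟩, hcent⟩ := hI
  rcases hcent p hp with e | hc
  · rw [hflag] at e; exact Bool.noConfusion e
  -- membership in the part in `E`
  have toE : ∀ {w : ℕ × ℕ × Bool}, w ∈ StabData.ivL → elOK (ivEl w).1 = true → (ivEl w).2 < 2048 →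
      (inE (mulTab (ivEl w).1.1 (ivEl p).1.1) ((ivEl w).2 ^^^ ap (ivEl w).1 (ivEl p).2) = true ↔
        elM M (ivEl w).2 (ivEl w).1 * elM M (ivEl p).2 (ivEl p).1 ∈ EE z) := by
    intro w hw hwok hwa
    rw [elM_mul M hwok]
    set R := kE M (ivEl w).1 * kE M (ivEl p).1
    have hRT : M.Tab (mulTab (ivEl w).1.1 (ivEl p).1.1) R := (kE_mem M hwok).2.mul (kE_mem M hpok).2
    have hRK : R ∈ M.K := mul_mem (kE_mem M hwok).1 (kE_mem M hpok).1
    have hlt : (ivEl w).2 ^^^ ap (ivEl w).1 (ivEl p).2 < 2048 :=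
      Nat.xor_lt_two_pow (n := 11) hwa (Dict.ap_lt _ _)
    simp only [inE, inM_eq, Bool.and_eq_true, List.contains_iff_mem]
    constructor
    · rintro ⟨hW, hT⟩
      obtain ⟨q, hq, e⟩ := List.getElem_of_mem hT
      have hq' : q < 64 := by
        have := J4V.Invol.Checks.fixOK_eq
        simp only [J4V.Invol.Checks.fixOK, Bool.and_eq_true] at this
        rw [← Nat.eq_of_beq_eq_true this.1.1.1.2]; exact hq
      rw [show R = M.kO q from M.K_eq hRK (M.kO_mem hq').1 hRT (by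
        rw [← e]
        have := (M.kO_mem hq').2
        rwa [oT, List.getD_eq_getElem _ _ hq] at this)]
      exact mul_mem (M.iv_EE hG hW) (M.kO_EE hG hq')
    · intro hE
      obtain ⟨c, hc, e⟩ := exists_eG M hG hE
      rw [eG_eq M hc] at e
      obtain ⟨e1, e2⟩ := M.decomp_unique (eVec_lt c) hlt (M.kO_mem (code_parts hc).1).1 hRK e
      refine ⟨e1 ▸ eVec_inW, ?_⟩
      have ht := M.tab_unique (canon_mulTab _ _) (J4V.Invol.tabOK_oT (code_parts hc).1).2 hRT
        (e2 ▸ (M.kO_mem (code_parts hc).1).2)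
      rw [ht, oT]
      have hl : c / 128 < J4V.Invol.Data.oL.length := by
        have := J4V.Invol.Checks.fixOK_eq
        simp only [J4V.Invol.Checks.fixOK, Bool.and_eq_true] at this
        rw [Nat.eq_of_beq_eq_true this.1.1.1.2]; exact (code_parts hc).1
      rw [List.getD_eq_getElem _ _ hl]
      exact List.getElem_mem _
  -- the facts of a listed one
  have facts : ∀ {w : ℕ × ℕ × Bool}, w ∈ StabData.ivL → elOK (ivEl w).1 = true ∧ (ivEl w).2 < 2048 ∧
      elM M (ivEl w).2 (ivEl w).1 ∈ normalizer (X.std : Set G) ⊓ HH z ∧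
      elM M (ivEl w).2 (ivEl w).1 * elM M (ivEl w).2 (ivEl w).1 = 1 ∧
      IsConj z (elM M (ivEl w).2 (ivEl w).1) ∧
      elM M (ivEl w).2 (ivEl w).1 * xK M * (elM M (ivEl w).2 (ivEl w).1)⁻¹ = (xK M)⁻¹ ∧
      (w.2.2 = true ↔ IsConj z (elM M (ivEl w).2 (ivEl w).1 * z)) := by
    intro w hw
    rw [← hfl, flags, List.mem_flatMap] at hw
    obtain ⟨n, hn, hw⟩ := hw
    rw [List.mem_range] at hn
    simp only [List.mem_map, List.getD_eq_getElem _ _ hn, List.mem_filter] at hw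
    obtain ⟨a, ⟨hfa, hza⟩, rfl⟩ := hw
    simp only [ivEl, List.getD_eq_getElem _ _ hn]
    obtain ⟨⟨hst, hsq⟩, hsx⟩ := hS _ (List.getElem_mem hn)
    obtain ⟨hok, hN⟩ := stab_mem M hst a
    obtain ⟨hlt, hxa⟩ := hV a hfa
    rw [Nat.blt_eq] at hlt
    have hm : imMask StabData.invL[n] = StabData.invM.getD n 0 := by
      have := Nat.eq_of_beq_eq_true (hM n (List.mem_range.2 hn))
      rwa [List.getD_eq_getElem _ _ hn] at this
    rw [ztyM_eq hm] at hza
    have hp2 : Dict.perm StabData.invL[n] * Dict.perm StabData.invL[n] = 1 := by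
      have h := isTab_mul (isTab_perm hok) (isTab_perm hok)
      rw [Nat.eq_of_beq_eq_true hsq] at h
      exact h.unique isTab_one
    have hz := (zty_iff M hG hgood hok hp2 hlt).1 hza
    have h5' := fiveOK_eq
    simp only [fiveOK, Bool.and_eq_true] at h5'
    obtain ⟨⟨⟨⟨⟨⟨hX, -⟩, -⟩, -⟩, hXi⟩, hXX⟩, -⟩ := h5'
    have hXok := (stab_mem M hX 0).1
    have hinvx : (xK M)⁻¹ = kE M StabData.xiEl := by
      refine inv_eq_of_mul_eq_one_right (M.K_eq (mul_mem (kE_mem M hXok).1 (kE_mem M hXi).1) (one_mem _)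
        ((kE_mem M hXok).2.mul (kE_mem M hXi).2) ?_)
      rw [Nat.eq_of_beq_eq_true hXX]; exact M.tab_one
    have hkk : kE M StabData.invL[n] * kE M StabData.xEl * kE M StabData.invL[n] = kE M StabData.xiEl := by
      refine M.K_eq (mul_mem (mul_mem (kE_mem M hok).1 (kE_mem M hXok).1) (kE_mem M hok).1) (kE_mem M hXi).1
        (((kE_mem M hok).2.mul (kE_mem M hXok).2).mul (kE_mem M hok).2) ?_
      rw [Nat.eq_of_beq_eq_true hsx]; exact (kE_mem M hXi).2
    have hap := conj_kE M hok a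
    refine ⟨hok, hlt, hN, ?_, hz, ?_, ?_⟩
    · have hfix' : ap StabData.invL[n] a = a := by
        simp only [zty] at hza
        cases hb : Nat.beq StabData.invL[n].1 idTab
        · rw [hb] at hza
          simp only [cond_false, Bool.and_eq_true] at hza
          exact Nat.eq_of_beq_eq_true hza.1
        · have e : kE M StabData.invL[n] = 1 := (kE_eq_one M hok).2 (by
            rw [Dict.perm, Nat.eq_of_beq_eq_true hb]; exact tabPerm_idTab)
          rw [e, one_mul, inv_one, mul_one] at hap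
          exact (M.iv_inj hlt (Dict.ap_lt _ _) hap).symm
      exact (elM_sq M hok hp2 hlt).2 hfix'
    · rw [hinvx, elM, mul_inv_rev, inv_eq_of_mul_eq_one_right (kE_sq M hok hp2), M.iv_inv]
      have hc := conj_kE M hXi a
      rw [Nat.eq_of_beq_eq_true hxa, mul_inv_eq_iff_eq_mul] at hc
      calc M.iv a * kE M StabData.invL[n] * xK M * (kE M StabData.invL[n] * M.iv a)
          = M.iv a * (kE M StabData.invL[n] * kE M StabData.xEl * kE M StabData.invL[n]) * M.iv a := by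
            rw [xK]; group
        _ = M.iv a * (M.iv a * kE M StabData.xiEl) := by rw [hkk, mul_assoc, hc]
        _ = _ := by rw [← mul_assoc, M.iv_sq, one_mul]
    · show ztyM _ _ (a ^^^ zv) = true ↔ _
      rw [ztyM_eq hm, zty_iff M hG hgood hok hp2 (show a ^^^ zv < 2048 from Nat.xor_lt_two_pow (n := 11) hlt J4V.Invol.duads_facts.2.2.2.2.1)]
      have hkz : kE M StabData.invL[n] * z = z * kE M StabData.invL[n] := by
        have h := (stab_mem M hst 0).2
        rw [elM_zero] at h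
        exact mem_HH.1 (mem_inf.1 h).2
      rw [show elM M (a ^^^ zv) StabData.invL[n] = elM M a StabData.invL[n] * z by
        rw [elM, elM, M.iv_xor, show M.iv zv = z from M.hz, mul_assoc, mul_assoc, hkz]]
  obtain ⟨v, hpart, hsq⟩ : ∃ v, partners (ivEl p) = [v] ∧
      Nat.beq (mulTab (mulTab (ivEl v).1.1 (ivEl p).1.1) (mulTab (ivEl v).1.1 (ivEl p).1.1)) idTab = true := by
    cases hl : partners (ivEl p) with
    | nil => rw [hl] at hc; exact Bool.noConfusion hc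
    | cons v l =>
      cases l with
      | nil => rw [hl] at hc; exact ⟨v, rfl, hc⟩
      | cons w l => rw [hl] at hc; exact Bool.noConfusion hc
  have hv : v ∈ StabData.ivL ∧ v.2.2 = false ∧
      inE (mulTab (ivEl v).1.1 (ivEl p).1.1) ((ivEl v).2 ^^^ ap (ivEl v).1 (ivEl p).2) = true := by
    have : v ∈ partners (ivEl p) := by rw [hpart]; exact List.mem_cons_self
    simp only [partners, List.mem_filter, Bool.and_eq_true, Bool.not_eq_true'] at this
    exact ⟨this.1, this.2.1, this.2.2⟩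
  obtain ⟨hvok, hva, hvN, hv2, hvz, hvx, hvf⟩ := facts hv.1
  set w := elM M (ivEl v).2 (ivEl v).1 with hw
  have hE : w * (d * u * d⁻¹) ∈ EE z := by rw [hpe]; exact (toE hv.1 hvok hva).1 hv.2.2
  have hdH := (mem_inf.1 hd).2
  have hwu : d⁻¹ * w * d * u = d⁻¹ * (w * (d * u * d⁻¹)) * d := by group
  refine ⟨d⁻¹ * w * d, mul_mem (mul_mem (inv_mem hd) hvN) hd, ?_, isZ_conj hvz, ?_, ?_, ?_, ?_, ?_⟩
  · rw [show d⁻¹ * w * d * (d⁻¹ * w * d) = d⁻¹ * (w * w) * d by group, hv2]; group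
  · obtain ⟨k, hk⟩ := mem_zpowers_iff.1 (show d * x * d⁻¹ ∈ zpowers (xK M) from hzp ▸ mem_zpowers _)
    have hwk : w * (d * x * d⁻¹) * w⁻¹ = (d * x * d⁻¹)⁻¹ := by
      rw [← hk, ← conj_zpow, hvx, inv_zpow]
    calc d⁻¹ * w * d * x * (d⁻¹ * w * d)⁻¹ = d⁻¹ * (w * (d * x * d⁻¹) * w⁻¹) * d := by group
      _ = x⁻¹ := by rw [hwk]; group
  · intro h
    have h' := (hzc (d⁻¹ * w * d)).2 h
    rw [show d * (d⁻¹ * w * d) * d⁻¹ = w by group] at h'
    rw [hv.2.1] at hvf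
    exact Bool.noConfusion (hvf.2 h')
  · rw [hwu]; exact conj_mem_EE' hdH hE
  · rw [hwu, show d⁻¹ * (w * (d * u * d⁻¹)) * d * (d⁻¹ * (w * (d * u * d⁻¹)) * d) =
      d⁻¹ * (w * (d * u * d⁻¹) * (w * (d * u * d⁻¹))) * d by group, hpe, hw, elM_mul M hvok]
    have hp' := hpair v hv.1 p hp
    rw [pairOK, hsq] at hp'
    simp only [cond_true] at hp'
    set R := kE M (ivEl v).1 * kE M (ivEl p).1
    have hR2 : R * R = 1 := M.K_eq (mul_mem (mul_mem (kE_mem M hvok).1 (kE_mem M hpok).1)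
      (mul_mem (kE_mem M hvok).1 (kE_mem M hpok).1)) (one_mem _)
      (((kE_mem M hvok).2.mul (kE_mem M hpok).2).mul ((kE_mem M hvok).2.mul (kE_mem M hpok).2))
      (by rw [Nat.eq_of_beq_eq_true hsq]; exact M.tab_one)
    set c := (ivEl v).2 ^^^ ap (ivEl v).1 (ivEl p).2
    have hRc : R * M.iv c * R⁻¹ = M.iv (ap (ivEl v).1 (ap (ivEl p).1 c)) := by
      rw [← conj_kE M hvok, ← conj_kE M hpok]; simp only [R]; group
    rw [show M.iv c * R * (M.iv c * R) = M.iv c * (R * M.iv c * R⁻¹) * (R * R) by group, hRc, hR2, mul_one,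
      ← M.iv_xor, Nat.eq_of_beq_eq_true hp', M.iv_zero]
    group
  · intro u1 hu1 h12 h1z h1x h1E h1n
    obtain ⟨q, hq, hqok, hqa, hqe, hqf⟩ := ivL_of M hG hgood hinv (mul_mem (mul_mem hd hu1) (inv_mem hd))
      (by rw [show d * u1 * d⁻¹ * (d * u1 * d⁻¹) = d * (u1 * u1) * d⁻¹ by group, h12]; group)
      (h1z.trans (isConj_iff.2 ⟨d, rfl⟩)) (invert_std M hzp h1x)
    have hmem : q ∈ partners (ivEl p) := by
      simp only [partners, List.mem_filter, Bool.and_eq_true, Bool.not_eq_true']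
      refine ⟨hq, Bool.eq_false_iff.2 fun h => h1n ((hzc u1).1 (hqf.1 h)), (toE hq hqok hqa).2 ?_⟩
      rw [← hqe, ← hpe, show d * u1 * d⁻¹ * (d * u * d⁻¹) = d * (u1 * u) * d⁻¹ by group]
      exact conj_mem_EE hdH h1E
    rw [hpart, List.mem_singleton] at hmem
    rw [hw, ← hmem, ← hqe]; group
where
  isZ_conj {d u : G} (h : IsConj z u) : IsConj z (d⁻¹ * u * d) := h.trans (isConj_iff.2 ⟨d⁻¹, by rw [inv_inv]⟩)

end Cfsg.Agent.J4Order.Dict
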