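import Cfsg.Agent.Lib.J4Order.TiList
import Cfsg.Agent.Lib.J4Order.TCert1

/-!
# Janko four type: the first list over representative 1
-/

set_option autoImplicit false
set_option maxRecDepth 20000

namespace Cfsg.Agent.J4Order.TData

open Cfsg.Agent.J4Order.Model

def z1_0 : List ℕ := [0, 35, 320, 355, 727, 756, 919, 948, 1239, 1268, 1431, 1460, 1536, 1571, 1856, 1891]
/-- The vectors of the class of `z` over the representative. -/
def z1 : List ℕ := z1_0

theorem z1_eq : zList (tiAt rep1) = z1 := by decide +kernel


end Cfsg.Agent.J4Order.TData
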