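import Cfsg.Agent.Lib.J4Order.TiList
import Cfsg.Agent.Lib.J4Order.TCert1
import Cfsg.Agent.Lib.J4Order.TZ1

/-!
# Janko four type: counts over representative 1, part 0
-/

set_option autoImplicit false
set_option maxRecDepth 20000

namespace Cfsg.Agent.J4Order.TData

open Cfsg.Agent.J4Order.Model

theorem v1_0 : fastWith tv (tiAt rep1) (tiAt 2871) z1 = 0 := by decide +kernel

theorem v1_1 : fastWith tv (tiAt rep1) (tiAt 1976) z1 = 16 := by decide +kernel

theorem v1_2 : fastWith tv (tiAt rep1) (tiAt 1933) z1 = 0 := by decide +kernel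

theorem v1_3 : fastWith tv (tiAt rep1) (tiAt 2410) z1 = 0 := by decide +kernel

theorem v1_4 : fastWith tv (tiAt rep1) (tiAt 2370) z1 = 256 := by decide +kernel

theorem v1_5 : fastWith tv (tiAt rep1) (tiAt 2271) z1 = 128 := by decide +kernel

theorem v1_6 : fastWith tv (tiAt rep1) (tiAt 2622) z1 = 0 := by decide +kernel

theorem v1_7 : fastWith tv (tiAt rep1) (tiAt 2777) z1 = 0 := by decide +kernel

theorem v1_8 : fastWith tv (tiAt rep1) (tiAt 2126) z1 = 0 := by decide +kernel

theorem v1_9 : fastWith tv (tiAt rep1) (tiAt 2335) z1 = 0 := by decide +kernel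

theorem v1_10 : fastWith tv (tiAt rep1) (tiAt 2732) z1 = 0 := by decide +kernel

theorem v1_11 : fastWith tv (tiAt rep1) (tiAt 1983) z1 = 0 := by decide +kernel

theorem v1_12 : fastWith tv (tiAt rep1) (tiAt 2259) z1 = 0 := by decide +kernel

theorem v1_13 : fastWith tv (tiAt rep1) (tiAt 1995) z1 = 0 := by decide +kernel

theorem v1_14 : fastWith tv (tiAt rep1) (tiAt 1175) z1 = 0 := by decide +kernel

theorem v1_15 : fastWith tv (tiAt rep1) (tiAt 1063) z1 = 0 := by decide +kernel

end Cfsg.Agent.J4Order.TData
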