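import Cfsg.Agent.Lib.J4Order.TiList
import Cfsg.Agent.Lib.J4Order.TCert1
import Cfsg.Agent.Lib.J4Order.TZ1

/-!
# Janko four type: counts over representative 1, part 1
-/

set_option autoImplicit false
set_option maxRecDepth 20000

namespace Cfsg.Agent.J4Order.TData

open Cfsg.Agent.J4Order.Model

theorem v1_16 : fastWith tv (tiAt rep1) (tiAt 1670) z1 = 0 := by decide +kernel

theorem v1_17 : fastWith tv (tiAt rep1) (tiAt 1627) z1 = 0 := by decide +kernel

theorem v1_18 : fastWith tv (tiAt rep1) (tiAt 1286) z1 = 0 := by decide +kernel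

theorem v1_19 : fastWith tv (tiAt rep1) (tiAt 1050) z1 = 0 := by decide +kernel

theorem v1_20 : fastWith tv (tiAt rep1) (tiAt 1622) z1 = 0 := by decide +kernel

theorem v1_21 : fastWith tv (tiAt rep1) (tiAt 1351) z1 = 0 := by decide +kernel

theorem v1_22 : fastWith tv (tiAt rep1) (tiAt 1699) z1 = 0 := by decide +kernel

theorem v1_23 : fastWith tv (tiAt rep1) (tiAt 510) z1 = 0 := by decide +kernel

theorem v1_24 : fastWith tv (tiAt rep1) (tiAt 1164) z1 = 0 := by decide +kernel

theorem v1_25 : fastWith tv (tiAt rep1) (tiAt 592) z1 = 0 := by decide +kernel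

theorem v1_26 : fastWith tv (tiAt rep1) (tiAt 524) z1 = 0 := by decide +kernel

theorem v1_27 : fastWith tv (tiAt rep1) (tiAt 875) z1 = 0 := by decide +kernel

theorem v1_28 : fastWith tv (tiAt rep1) (tiAt 1105) z1 = 0 := by decide +kernel

theorem v1_29 : fastWith tv (tiAt rep1) (tiAt 1657) z1 = 0 := by decide +kernel

theorem v1_30 : fastWith tv (tiAt rep1) (tiAt 447) z1 = 0 := by decide +kernel

end Cfsg.Agent.J4Order.TData
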