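import Cfsg.Agent.Lib.J4Order.TiList
import Cfsg.Agent.Lib.J4Order.TVal1_0
import Cfsg.Agent.Lib.J4Order.TVal1_1
import Cfsg.Agent.Lib.J4Order.TCert1

/-!
# Janko four type: counts over representative 1
-/

set_option autoImplicit false
set_option maxRecDepth 20000

namespace Cfsg.Agent.J4Order.TData

open Cfsg.Agent.J4Order.Model

theorem pcF1 (i : ℕ) : pairCount tv (tiAt rep1) (tiAt i) = fastWith tv (tiAt rep1) (tiAt i) z1 := by
  rw [pairCount_eq_fast, fastCount_eq, z1_eq]

theorem roots1 : blocks1.map (fun b => (b.1, b.2.length + 1)) = [(2871, 1), (1976, 1), (1933, 6), (2410, 8), (2370, 384), (2271, 192), (2622, 96), (2777, 48), (2126, 24), (2335, 96), (2732, 48), (1983, 12), (2259, 192), (1995, 48), (1175, 48), (1063, 192), (1670, 12), (1627, 48), (1286, 384), (1050, 192), (1622, 16), (1351, 48), (1699, 12), (510, 12), (1164, 24), (592, 96), (524, 48), (875, 384), (1105, 192), (1657, 2), (447, 6)] := by decide +kernel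

theorem val1 : blocksVal (fun i => pairCount tv (tiAt rep1) (tiAt i)) blocks1 = 122896 :=
  (blocksVal_congr (fun i => pairCount tv (tiAt rep1) (tiAt i)) blocks1 _ [0, 16, 0, 0, 256, 128, 0, 0, 0, 0, 0, 0, 0, 0, 0, 0, 0, 0, 0, 0, 0, 0, 0, 0, 0, 0, 0, 0, 0, 0, 0] roots1
    (List.Forall₂.cons ((pcF1 2871).trans v1_0)
    (List.Forall₂.cons ((pcF1 1976).trans v1_1)
    (List.Forall₂.cons ((pcF1 1933).trans v1_2)
    (List.Forall₂.cons ((pcF1 2410).trans v1_3)
    (List.Forall₂.cons ((pcF1 2370).trans v1_4)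
    (List.Forall₂.cons ((pcF1 2271).trans v1_5)
    (List.Forall₂.cons ((pcF1 2622).trans v1_6)
    (List.Forall₂.cons ((pcF1 2777).trans v1_7)
    (List.Forall₂.cons ((pcF1 2126).trans v1_8)
    (List.Forall₂.cons ((pcF1 2335).trans v1_9)
    (List.Forall₂.cons ((pcF1 2732).trans v1_10)
    (List.Forall₂.cons ((pcF1 1983).trans v1_11)
    (List.Forall₂.cons ((pcF1 2259).trans v1_12)
    (List.Forall₂.cons ((pcF1 1995).trans v1_13)
    (List.Forall₂.cons ((pcF1 1175).trans v1_14)
    (List.Forall₂.cons ((pcF1 1063).trans v1_15)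
    (List.Forall₂.cons ((pcF1 1670).trans v1_16)
    (List.Forall₂.cons ((pcF1 1627).trans v1_17)
    (List.Forall₂.cons ((pcF1 1286).trans v1_18)
    (List.Forall₂.cons ((pcF1 1050).trans v1_19)
    (List.Forall₂.cons ((pcF1 1622).trans v1_20)
    (List.Forall₂.cons ((pcF1 1351).trans v1_21)
    (List.Forall₂.cons ((pcF1 1699).trans v1_22)
    (List.Forall₂.cons ((pcF1 510).trans v1_23)
    (List.Forall₂.cons ((pcF1 1164).trans v1_24)
    (List.Forall₂.cons ((pcF1 592).trans v1_25)
    (List.Forall₂.cons ((pcF1 524).trans v1_26)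
    (List.Forall₂.cons ((pcF1 875).trans v1_27)
    (List.Forall₂.cons ((pcF1 1105).trans v1_28)
    (List.Forall₂.cons ((pcF1 1657).trans v1_29)
    (List.Forall₂.cons ((pcF1 447).trans v1_30)
    List.Forall₂.nil)))))))))))))))))))))))))))))))).trans (by decide +kernel)

end Cfsg.Agent.J4Order.TData
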