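import Cfsg.Agent.Lib.J4Order.Part
import Cfsg.Agent.Lib.J4Order.Kern
import Cfsg.Agent.Lib.J4Order.TrData

/-!
# Janko four type: the subgroup of order `2 ^ 11` on the 77 classes
-/

set_option autoImplicit false
set_option maxRecDepth 20000

namespace Cfsg.Agent.J4Order.Part

open Cfsg Cfsg.Agent.Golay.Basic Cfsg.Agent.Golay.Cert Cfsg.Agent.Golay.TabList
open Cfsg.Agent.Golay.M24
open Cfsg.Agent.J4Order.Model
open Cfsg.Agent.J4V.Invol

/-- The coordinates of `a + q a`. -/
def dOf (q : ℕ) : List ℕ := TrData.dL.getD q []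

/-- The translate of a code by a vector. -/
def trA (a y : ℕ) : ℕ := y / 128 * 128 + (y % 128 ^^^ enc (dOf (y / 128)) a)

/-- The coset of a vector. -/
def coset (a : ℕ) : ℕ := enc TrData.cbL a

/-- The permutation of a coset. -/
def tp (c i : ℕ) : ℕ := (TrData.tpT.getD c 0 >>> (7 * i)) % 128

/-- The translations of the basis move the classes as said. -/
def trOK : Bool :=
  (List.range 11).all (fun j => Nat.blt (TrData.cbL.getD j 0) 16 &&
    (List.range 64).all (fun q => Nat.blt ((dOf q).getD j 0) 128 &&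
      Nat.beq (eVec ((dOf q).getD j 0)) (2 ^ j ^^^ enc (Checks.oIm q) (2 ^ j))) &&
    (List.range 77).all fun i => (classL i).all fun x =>
      Nat.beq (cls (trA (2 ^ j) x)) (tp (TrData.cbL.getD j 0) i)) &&
  (List.range 64).all (fun q => Nat.beq (dOf q).length 11) &&
  Nat.beq TrData.cbL.length 11 &&
  (List.range 77).all (fun i => Nat.beq (tp 0 i) i) &&
  (List.range 16).all fun c => (List.range 77).all fun i => Nat.blt (tp c i) 77 &&
    (List.range 16).all fun c' => Nat.beq (tp (c ^^^ c') i) (tp c' (tp c i))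

theorem trOK_eq : trOK = true := by decide +kernel

theorem enc_bound {L : List ℕ} {n : ℕ} (h : ∀ x ∈ L, x < 2 ^ n) : ∀ a, enc L a < 2 ^ n := by
  induction L with
  | nil => intro a; simp [enc]
  | cons b bs ih =>
    intro a
    rw [enc]
    refine Nat.xor_lt_two_pow ?_ (ih (fun y hy => h y (List.mem_cons_of_mem _ hy)) _)
    rcases Nat.mod_two_eq_zero_or_one a with e | e <;> rw [e]
    · simp
    · simpa using h b List.mem_cons_self

theorem dOf_bound {q : ℕ} (hq : q < 64) (a : ℕ) : enc (dOf q) a < 128 := by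
  have h := trOK_eq
  simp only [trOK, Bool.and_eq_true, List.all_eq_true, List.mem_range, Nat.blt_eq] at h
  refine enc_bound (n := 7) (fun x hx => ?_) a
  obtain ⟨i, hi, rfl⟩ := List.mem_iff_getElem.1 hx
  rw [← List.getD_eq_getElem _ 0 hi]
  rw [Nat.eq_of_beq_eq_true (h.1.1.1.2 q hq)] at hi
  exact ((h.1.1.1.1 i hi).1.2 q hq).1

theorem coset_lt (a : ℕ) : coset a < 16 := by
  refine enc_bound (n := 4) (fun x hx => ?_) a
  revert x
  decide

theorem cls_lt_iff {x : ℕ} (hx : x < 8192) : cls x < 77 ↔ tE x = true := by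
  have h := classOK_eq
  simp only [classOK, Bool.and_eq_true, List.all_eq_true, List.mem_range] at h
  have hm := h.2 x hx
  cases ht : tE x
  · rw [ht, cond_false, Nat.beq_eq] at hm
    simp [hm]
  · rw [ht, cond_true, List.contains_iff_mem] at hm
    refine iff_of_true ?_ rfl
    by_contra hge
    rw [classL, List.getD_eq_default _ _ (by have := Nat.eq_of_beq_eq_true h.1.1; omega)] at hm
    simp at hm

theorem mem_classL_iff {x i : ℕ} (hi : i < 77) : x ∈ classL i ↔ x < 8192 ∧ cls x = i := by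
  have h := classOK_eq
  simp only [classOK, Bool.and_eq_true, List.all_eq_true, List.mem_range, Nat.blt_eq] at h
  refine ⟨fun hx => ?_, fun ⟨hx, e⟩ => ?_⟩
  · obtain ⟨h1, h2⟩ := (h.1.2 i hi).2 x hx
    exact ⟨h1, Nat.eq_of_beq_eq_true h2⟩
  · have hm := h.2 x hx
    rw [(cls_lt_iff hx).1 (e ▸ hi), cond_true, List.contains_iff_mem, e] at hm
    exact hm

theorem trA_lt {y : ℕ} (hy : y < 8192) (a : ℕ) : trA a y < 8192 := by
  have hlt : y % 128 ^^^ enc (dOf (y / 128)) a < 128 :=
    Nat.xor_lt_two_pow (n := 7) (Nat.mod_lt y (by norm_num : 0 < 128)) (dOf_bound (show y / 128 < 64 by omega) a)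
  unfold trA
  omega

theorem trA_trA {y : ℕ} (hy : y < 8192) (a b : ℕ) : trA b (trA a y) = trA (a ^^^ b) y := by
  have hq : y / 128 < 64 := by omega
  have hlt : y % 128 ^^^ enc (dOf (y / 128)) a < 128 :=
    Nat.xor_lt_two_pow (n := 7) (Nat.mod_lt y (by norm_num : 0 < 128)) (dOf_bound hq a)
  have e1 : trA a y / 128 = y / 128 := by unfold trA; omega
  have e2 : trA a y % 128 = y % 128 ^^^ enc (dOf (y / 128)) a := by unfold trA; omega
  conv_lhs => rw [trA, e1, e2]
  rw [trA, enc_xor, Nat.xor_assoc]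

theorem trA_zero {y : ℕ} : trA 0 y = y := by
  rw [trA, enc_zero, Nat.xor_zero]
  omega

/-- A translation sends a class into the class of its coset's permutation. -/
theorem cls_trA {a : ℕ} (ha : a < 2048) {y : ℕ} (hy : y < 8192) (ht : cls y < 77) :
    cls (trA a y) = tp (coset a) (cls y) := by
  have h := trOK_eq
  simp only [trOK, Bool.and_eq_true, List.all_eq_true, List.mem_range, Nat.blt_eq] at h
  obtain ⟨⟨⟨⟨hb, -⟩, -⟩, h0⟩, hc⟩ := h
  have key : ∀ a < 2 ^ 11, ∀ y < 8192, cls y < 77 → cls (trA a y) = tp (coset a) (cls y) := by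
    refine xor_induction _ ?_ ?_ ?_
    · intro y _ ht
      rw [trA_zero, coset, enc_zero, Nat.eq_of_beq_eq_true (h0 _ ht)]
    · intro p q hp hq y hy ht
      have h1 := hp y hy ht
      have hlt : tp (coset p) (cls y) < 77 := (hc _ (coset_lt p) _ ht).1
      rw [← trA_trA hy, hq _ (trA_lt hy p) (by rw [h1]; exact hlt), h1, coset, coset, coset, enc_xor]
      exact (Nat.eq_of_beq_eq_true ((hc _ (coset_lt p) _ ht).2 _ (coset_lt q))).symm
    · intro j hj y hy ht
      obtain ⟨hm, -⟩ := hb j hj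
      rw [coset, enc_two_pow]
      exact Nat.eq_of_beq_eq_true ((hb j hj).2 (cls y) ht y ((mem_classL_iff ht).2 ⟨hy, rfl⟩))
  exact key a ha y hy ht

/-- The vector of a translate. -/
theorem eVec_trA {a : ℕ} (ha : a < 2048) {y : ℕ} (hy : y < 8192) :
    eVec (trA a y) = eVec y ^^^ (a ^^^ enc (Checks.oIm (y / 128)) a) := by
  have h := trOK_eq
  simp only [trOK, Bool.and_eq_true, List.all_eq_true, List.mem_range, Nat.blt_eq] at h
  obtain ⟨⟨⟨⟨hb, -⟩, -⟩, -⟩, -⟩ := h
  have hq : y / 128 < 64 := by omega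
  have hlt : y % 128 ^^^ enc (dOf (y / 128)) a < 128 :=
    Nat.xor_lt_two_pow (n := 7) (Nat.mod_lt y (by norm_num : 0 < 128)) (dOf_bound hq a)
  have e2 : trA a y % 128 = y % 128 ^^^ enc (dOf (y / 128)) a := by unfold trA; omega
  have key : ∀ a < 2 ^ 11, enc Checks.wGens (enc (dOf (y / 128)) a) = a ^^^ enc (Checks.oIm (y / 128)) a := by
    refine xor_induction _ (by simp [enc_zero]) (fun p q hp hq => ?_) fun j hj => ?_
    · rw [enc_xor, enc_xor, enc_xor, hp, hq]
      ac_rfl
    · obtain ⟨h1, h2⟩ := (hb j hj).1.2 _ hq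
      have h3 := Nat.eq_of_beq_eq_true h2
      rw [eVec, Nat.mod_eq_of_lt h1] at h3
      rw [enc_two_pow (dOf (y / 128)), h3]
  rw [eVec, e2, enc_xor, key a ha, eVec]

end Cfsg.Agent.J4Order.Part
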