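import Cfsg.Agent.Lib.J4Order.Trans
import Cfsg.Agent.Lib.J4Order.Engine
import Cfsg.Agent.Lib.J4Order.Kern
import Cfsg.Agent.Lib.J4V.Invol.Core

/-!
# Janko four type: certificates of the classes fixed and fast histograms

* `elCert`: of the fixed vectors and of the sixteen masks of classes fixed over an element;
* `common_eq`: the number of common classes from the masks;
* `histVec`: the histogram of two elements in one number, `histVec_eq` its fast evaluation.
-/

set_option autoImplicit false
set_option maxRecDepth 20000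

namespace Cfsg.Agent.J4Order.ZCert

open Cfsg Cfsg.Agent.Golay.Basic Cfsg.Agent.Golay.Cert Cfsg.Agent.Golay.TabList
open Cfsg.Agent.Golay.M24
open Cfsg.Agent.J4Order.Model Cfsg.Agent.J4Order.Part
open Cfsg.Agent.J4V.Invol

/-- A certificate of an element. -/
structure ZEl where
  kern : Kern
  img : List ℕ
  msk : List ℕ

/-- The check of a certificate of an element. -/
def elCert (s : El) (c : ZEl) : Bool :=
  (Nat.beq s.1 idTab || kernOK s c.kern) &&
  (List.range 77).all (fun i => Nat.blt (c.img.getD i 0) 8192 && Nat.blt (cls (c.img.getD i 0)) 77 &&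
    conjRel s 0 (rep i) (c.img.getD i 0)) &&
  (List.range 16).all fun h => Nat.blt (c.msk.getD h 0) (2 ^ 77) && (List.range 77).all fun i =>
    (c.msk.getD h 0).testBit i == Nat.beq (tp h (cls (c.img.getD i 0))) i

theorem wGens_inj : ∀ m < 128, enc Checks.wGens m = 0 → m = 0 := by decide +kernel

theorem conjRel_unique {s : El} (hs : elOK s = true) {a x y y' : ℕ} (hy : y < 8192) (hy' : y' < 8192)
    (h : conjRel s a x y = true) (h' : conjRel s a x y' = true) : y = y' := by
  simp only [conjRel, Bool.and_eq_true, Nat.beq_eq] at h h'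
  have hq : y / 128 < 64 := by omega
  have hq' : y' / 128 < 64 := by omega
  have e : mulTab (eTab y) s.1 = mulTab (eTab y') s.1 := h.1.trans h'.1.symm
  have i1 := isTab_mul (isTab_tabPerm (tabOK_oT hq).1) (isTab_perm hs)
  have i2 := isTab_mul (isTab_tabPerm (tabOK_oT hq').1) (isTab_perm hs)
  rw [show Checks.oT (y / 128) = eTab y from rfl] at i1
  rw [show Checks.oT (y' / 128) = eTab y' from rfl, ← e] at i2
  have e1 : tabPerm (eTab y) = tabPerm (eTab y') := mul_right_cancel (i1.unique i2)
  have eT : Checks.oT (y / 128) = Checks.oT (y' / 128) :=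
    eq_of_isTab (tabOK_oT hq).2 (tabOK_oT hq').2 (isTab_tabPerm (tabOK_oT hq).1)
      (by rw [show tabPerm (Checks.oT (y / 128)) = tabPerm (eTab y) from rfl, e1]
          exact isTab_tabPerm (tabOK_oT hq').1)
  have eq := oT_inj hq hq' eT
  have ev : eVec y = eVec y' := by rw [h.2, h'.2, eq]
  have hm : y % 128 ^^^ y' % 128 = 0 := wGens_inj _
    (Nat.xor_lt_two_pow (n := 7) (Nat.mod_lt _ (by norm_num)) (Nat.mod_lt _ (by norm_num)))
    (by rw [enc_xor]; rw [eVec, eVec] at ev; rw [ev, Nat.xor_self])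
  have := Nat.xor_eq_zero_iff.1 hm
  omega

theorem conjRel_trA {s : El} {a x y : ℕ} (ha : a < 2048) (hy : y < 8192) (h : conjRel s 0 x y = true) :
    conjRel s a x (trA a y) = true := by
  simp only [conjRel, Bool.and_eq_true, Nat.beq_eq, Nat.zero_xor, enc_zero, Nat.xor_zero] at h ⊢
  have hd : trA a y / 128 = y / 128 := by
    have hlt : y % 128 ^^^ enc (dOf (y / 128)) a < 128 :=
      Nat.xor_lt_two_pow (n := 7) (Nat.mod_lt y (by norm_num)) (dOf_bound (by omega) a)
    unfold trA; omega
  refine ⟨by rw [eTab, hd]; exact h.1, ?_⟩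
  rw [eVec_trA ha hy, h.2, hd]
  simp only [Nat.xor_assoc, Nat.xor_left_comm, Nat.xor_comm]

/-- A class is fixed just if its bit is on. -/
theorem fixB_eq {s : El} (hs : elOK s = true) {c : ZEl} (h : elCert s c = true) {a : ℕ} (ha : a < 2048)
    {i : ℕ} (hi : i < 77) : fixB s a i = (c.msk.getD (coset a) 0).testBit i := by
  simp only [elCert, Bool.and_eq_true, List.all_eq_true, List.mem_range, Nat.blt_eq, beq_iff_eq] at h
  obtain ⟨⟨hy, hc⟩, hrel⟩ := h.1.2 i hi
  rw [(h.2 _ (coset_lt a)).2 i hi, Bool.eq_iff_iff, Nat.beq_eq, fixB, List.any_eq_true,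
    ← cls_trA ha hy hc]
  constructor
  · rintro ⟨y, hy1, hy2⟩
    obtain ⟨hlt, e⟩ := (mem_classL_iff hi).1 hy1
    rwa [conjRel_unique hs hlt (trA_lt hy a) hy2 (conjRel_trA ha hy hrel)] at e
  · intro e
    exact ⟨trA a (c.img.getD i 0), (mem_classL_iff hi).2 ⟨trA_lt hy a, e⟩, conjRel_trA ha hy hrel⟩

/-- The number of bits among the low seven. -/
def c7 (v : ℕ) : ℕ := v % 2 + v / 2 % 2 + v / 4 % 2 + v / 8 % 2 + v / 16 % 2 + v / 32 % 2 + v / 64 % 2

/-- The number of bits among the low seventy-seven. -/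
def pcnt (m : ℕ) : ℕ :=
  c7 m + c7 (m >>> 7) + c7 (m >>> 14) + c7 (m >>> 21) + c7 (m >>> 28) + c7 (m >>> 35) + c7 (m >>> 42) +
    c7 (m >>> 49) + c7 (m >>> 56) + c7 (m >>> 63) + c7 (m >>> 70)

theorem countP_seven (m n : ℕ) :
    (List.range (n + 7)).countP (fun i => m.testBit i) =
      (List.range n).countP (fun i => m.testBit i) + c7 (m >>> n) := by
  have key : ∀ j : ℕ, (bif m.testBit (n + j) then 1 else 0) = m >>> n / 2 ^ j % 2 := fun j => by
    rw [← Nat.testBit_shiftRight, Nat.testBit_eq_decide_div_mod_eq]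
    rcases Nat.mod_two_eq_zero_or_one (m >>> n / 2 ^ j) with e | e <;> simp [e]
  have step : ∀ k : ℕ, (List.range (k + 1)).countP (fun i => m.testBit i) =
      (List.range k).countP (fun i => m.testBit i) + (bif m.testBit k then 1 else 0) := fun k => by
    rw [List.range_succ, List.countP_append]
    cases h : m.testBit k <;> simp [h]
  have e := key 0
  rw [step, step, step, step, step, step, step, key 6, key 5, key 4, key 3, key 2, key 1]
  simp only [Nat.add_zero] at e
  rw [e, c7]
  simp only [pow_zero, Nat.div_one, pow_one]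
  norm_num
  ring

theorem pcnt_eq (m : ℕ) : (List.range 77).countP (fun i => m.testBit i) = pcnt m := by
  simp only [show (77 : ℕ) = 0 + 7 + 7 + 7 + 7 + 7 + 7 + 7 + 7 + 7 + 7 + 7 from rfl, countP_seven,
    List.range_zero, List.countP_nil]
  simp [pcnt]

/-- The common classes from the masks. -/
theorem common_eq {s s' : El} (hs : elOK s = true) (hs' : elOK s' = true) {c c' : ZEl}
    (h : elCert s c = true) (h' : elCert s' c' = true) {a b : ℕ} (ha : a < 2048) (hb : b < 2048) :
    common s a s' b = pcnt (c.msk.getD (coset a) 0 &&& c'.msk.getD (coset b) 0) := by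
  rw [← pcnt_eq, common]
  refine List.countP_congr fun i hi => ?_
  rw [List.mem_range] at hi
  rw [Nat.testBit_and, fixB_eq hs h ha hi, fixB_eq hs' h' hb hi]

theorem common_le (s : El) (a : ℕ) (s' : El) (b : ℕ) : common s a s' b < 78 := by
  have := List.countP_le_length (p := fun i => fixB s a i && fixB s' b i) (l := List.range 77)
  rw [List.length_range] at this
  unfold common
  omega

/-- The vectors of the class of `z`, from a certificate. -/
def zFast (s : El) (K : Kern) : List ℕ :=
  cond (Nat.beq s.1 idTab) (zList s)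
    (((List.range (2 ^ K.d)).filter fun m => Nat.blt m (2 ^ K.r) == fix8 s.1).map (enc K.bas))

/-- The other vectors, from a certificate. -/
def tFast (s : El) (K : Kern) : List ℕ :=
  cond (Nat.beq s.1 idTab) (tList s)
    (((List.range (2 ^ K.d)).filter fun m => Nat.blt m (2 ^ K.r) != fix8 s.1).map (enc K.bas))

theorem fast_perm {s : El} {K : Kern} (h : kernOK s K = true) (Q : Bool → Bool) :
    List.Perm (vecs.filter fun a => Nat.beq (ap s a) a && Q ((imMask s).testBit a))
      (((List.range (2 ^ K.d)).filter fun m => Q (Nat.blt m (2 ^ K.r))).map (enc K.bas)) := by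
  have h' := h
  simp only [kernOK, Bool.and_eq_true, List.all_eq_true, List.mem_range, Nat.blt_eq, Nat.ble_eq] at h'
  obtain ⟨⟨⟨⟨⟨⟨⟨⟨⟨-, -⟩, -⟩, hd⟩, hcl⟩, hbl⟩, -⟩, -⟩, -⟩, -⟩ := h'
  have hpow : 2 ^ K.d ≤ 2048 := Nat.pow_le_pow_right (by norm_num) hd
  have hsur : Function.Surjective (fun x : Fin 2048 => (⟨enc K.crd x.1, enc_lt_of hcl _⟩ : Fin 2048)) := by
    refine Finite.injective_iff_surjective.1 fun x y e => Fin.ext ?_
    rw [← (kern_spec h x.2).1, ← (kern_spec h y.2).1, show enc K.crd x.1 = enc K.crd y.1 from congrArg Fin.val e]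
  have hinv : ∀ m < 2048, enc K.crd (enc K.bas m) = m := by
    intro m hm
    obtain ⟨x, hx⟩ := hsur ⟨m, hm⟩
    have e : enc K.crd x.1 = m := congrArg Fin.val hx
    conv_lhs => rw [← e, (kern_spec h x.2).1, e]
  have hnd : (((List.range (2 ^ K.d)).filter fun m => Q (Nat.blt m (2 ^ K.r))).map (enc K.bas)).Nodup := by
    refine List.Nodup.map_on (fun x hx y hy e => ?_) (List.nodup_range.filter _)
    simp only [List.mem_filter, List.mem_range] at hx hy
    rw [← hinv x (hx.1.trans_le hpow), e, hinv y (hy.1.trans_le hpow)]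
  refine (List.perm_ext_iff_of_nodup (List.nodup_range.filter _) hnd).2 fun a => ?_
  simp only [List.mem_map, List.mem_filter, vecs, List.mem_range, Bool.and_eq_true, Nat.beq_eq]
  have hblt : ∀ {x : ℕ}, x < 2048 →
      Q ((imMask s).testBit x) = Q (Nat.blt (enc K.crd x) (2 ^ K.r)) := fun hx => by
    congr 1
    rw [Bool.eq_iff_iff, (kern_spec h hx).2.2, Nat.blt_eq]
  constructor
  · rintro ⟨ha, hap, hq⟩
    exact ⟨enc K.crd a, ⟨(kern_spec h ha).2.1.1 hap, by rwa [← hblt ha]⟩, (kern_spec h ha).1⟩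
  · rintro ⟨m, ⟨hm, hq⟩, rfl⟩
    have hm' := hm.trans_le hpow
    have hlt : enc K.bas m < 2048 := enc_lt_of hbl _
    exact ⟨hlt, (kern_spec h hlt).2.1.2 (by rwa [hinv m hm']), by rwa [hblt hlt, hinv m hm']⟩

theorem zFast_perm {s : El} {c : ZEl} (h : elCert s c = true) : List.Perm (zList s) (zFast s c.kern) := by
  simp only [elCert, Bool.and_eq_true, Bool.or_eq_true] at h
  cases hb : Nat.beq s.1 idTab
  · rw [zFast, hb, cond_false, zList]
    simp only [hb, Bool.false_eq_true, false_or] at h
    refine List.Perm.trans ?_ (fast_perm h.1.1 fun t => t == fix8 s.1)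
    exact List.Perm.of_eq (List.filter_congr fun a _ => by rw [zty, hb, cond_false])
  · rw [zFast, hb, cond_true]

theorem tFast_perm {s : El} {c : ZEl} (h : elCert s c = true) : List.Perm (tList s) (tFast s c.kern) := by
  simp only [elCert, Bool.and_eq_true, Bool.or_eq_true] at h
  cases hb : Nat.beq s.1 idTab
  · rw [tFast, hb, cond_false, tList]
    simp only [hb, Bool.false_eq_true, false_or] at h
    refine List.Perm.trans ?_ (fast_perm h.1.1 fun t => t != fix8 s.1)
    exact List.Perm.of_eq (List.filter_congr fun a _ => by rw [tty, hb, cond_false])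
  · rw [tFast, hb, cond_true]

/-- The histogram in one number. -/
def histVec (s s' : El) : ℕ := ∑ k ∈ Finset.range 78, histCount k s s' * 2 ^ (48 * k)

/-- A certificate of a pair. -/
structure PairC where
  n : ℕ
  NI : List ℕ
  NJ : List ℕ
  ZK : List ℕ
  TK : List ℕ

/-- Equality of lists of numbers. -/
def eqL : List ℕ → List ℕ → Bool
  | [], [] => true
  | x :: xs, y :: ys => Nat.beq x y && eqL xs ys
  | _, _ => false

theorem eqL_eq : ∀ {l l' : List ℕ}, eqL l l' = true → l = l'
  | [], [], _ => rfl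
  | [], _ :: _, h => by simp [eqL] at h
  | _ :: _, [], h => by simp [eqL] at h
  | x :: xs, y :: ys, h => by
    simp only [eqL, Bool.and_eq_true, Nat.beq_eq] at h
    rw [h.1, eqL_eq h.2]

/-- The matches of one key. -/
def inner (msk : List ℕ) (y m : ℕ) : List ℕ → ℕ
  | [] => 0
  | t :: ts => cond (Nat.beq (t % 2048) y) (2 ^ (48 * pcnt (m &&& msk.getD (t / 2048) 0))) 0 + inner msk y m ts

/-- The matches of all keys. -/
def outer (mz mt : List ℕ) (TK : List ℕ) : List ℕ → ℕ
  | [] => 0
  | z :: zs => inner mt (z % 2048) (mz.getD (z / 2048) 0) TK + outer mz mt TK zs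

theorem inner_eq (msk : List ℕ) (y m : ℕ) : ∀ L : List ℕ, inner msk y m L =
    (L.map fun t => cond (Nat.beq (t % 2048) y) (2 ^ (48 * pcnt (m &&& msk.getD (t / 2048) 0))) 0).sum
  | [] => rfl
  | t :: ts => by rw [inner, inner_eq msk y m ts, List.map_cons, List.sum_cons]

theorem outer_eq (mz mt TK : List ℕ) : ∀ L : List ℕ, outer mz mt TK L =
    (L.map fun z => inner mt (z % 2048) (mz.getD (z / 2048) 0) TK).sum
  | [] => rfl
  | z :: zs => by rw [outer, outer_eq mz mt TK zs, List.map_cons, List.sum_cons]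

/-- The check of the certificate of a pair. -/
def pairOK (s s' : El) (c c' : ZEl) (P : PairC) : Bool :=
  Nat.beq (nOf s s') P.n &&
    eqL P.NI ((List.range 11).map fun j => nrm s s' P.n (2 ^ j)) &&
    eqL P.NJ ((List.range 11).map fun j => enc P.NI (ap s (2 ^ j))) &&
    eqL P.ZK ((zFast s c.kern).map fun a => enc P.NI a + 2048 * coset a) &&
    eqL P.TK ((tFast s' c'.kern).map fun b => (enc P.NJ b ^^^ zv) + 2048 * coset b)

theorem sum_countP_pow (B : ℕ) (L : List ℕ) (P : ℕ → Bool) (c : ℕ → ℕ) (hc : ∀ b, c b < 78) :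
    ∑ k ∈ Finset.range 78, L.countP (fun b => P b && Nat.beq (c b) k) * B ^ k =
      (L.map fun b => cond (P b) (B ^ c b) 0).sum := by
  induction L with
  | nil => simp
  | cons b bs ih =>
    simp only [List.countP_cons, List.map_cons, List.sum_cons, add_mul, Finset.sum_add_distrib, ih]
    have key : ∀ (q : Bool) (j : ℕ), j < 78 →
        ∑ k ∈ Finset.range 78, (if (q && Nat.beq j k) = true then 1 else 0) * B ^ k = cond q (B ^ j) 0 := by
      intro q j hj
      cases q
      · simp
      · simp only [Bool.true_and, Nat.beq_eq, ite_mul, one_mul, zero_mul, cond_true]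
        rw [Finset.sum_ite_eq (Finset.range 78) j fun k => B ^ k, if_pos (Finset.mem_range.2 hj)]
    rw [key (P b) (c b) (hc b), add_comm]

theorem sum_swap (B : ℕ) (F : ℕ → ℕ → ℕ) : ∀ L : List ℕ,
    ∑ k ∈ Finset.range 78, (L.map (F k)).sum * B ^ k = (L.map fun a => ∑ k ∈ Finset.range 78, F k a * B ^ k).sum
  | [] => by simp
  | a :: as => by simp only [List.map_cons, List.sum_cons, add_mul, Finset.sum_add_distrib, sum_swap B F as]

theorem nrm_enc {s s' : El} {k : ℕ} {NI : List ℕ} (h : NI = (List.range 11).map fun j => nrm s s' k (2 ^ j))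
    {a : ℕ} (ha : a < 2048) : enc NI a = nrm s s' k a := by
  have key : ∀ a < 2 ^ 11, enc NI a = nrm s s' k a := by
    refine xor_induction _ ?_ (fun p q hp hq => by rw [enc_xor, nrm_xor, hp, hq]) fun i hi => ?_
    · rw [enc_zero]
      have := nrm_xor s s' k 0 0
      simpa using this.symm
    · rw [enc_two_pow, h, List.getD_eq_getElem _ _ (by simpa using hi), List.getElem_map, List.getElem_range]
  exact key a ha

theorem ap_enc {s : El} {NI NJ : List ℕ} (h : NJ = (List.range 11).map fun j => enc NI (ap s (2 ^ j)))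
    {a : ℕ} (ha : a < 2048) : enc NJ a = enc NI (ap s a) := by
  have key : ∀ a < 2 ^ 11, enc NJ a = enc NI (ap s a) := by
    refine xor_induction _ ?_ (fun p q hp hq => by rw [enc_xor, ap_xor, enc_xor, hp, hq]) fun i hi => ?_
    · rw [enc_zero, show ap s 0 = 0 from enc_zero _, enc_zero]
    · rw [enc_two_pow, h, List.getD_eq_getElem _ _ (by simpa using hi), List.getElem_map, List.getElem_range]
  exact key a ha

section

attribute [local irreducible] pcnt common zFast tFast nrm enc coset tgt nOf

/-- The histogram is the sum over the matching keys. -/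
theorem histVec_eq {s s' : El} (hs : elOK s = true) (hs' : elOK s' = true) {c c' : ZEl}
    (h : elCert s c = true) (h' : elCert s' c' = true) {P : PairC} (hP : pairOK s s' c c' P = true) :
    histVec s s' = outer c.msk c'.msk P.TK P.ZK := by
  simp only [pairOK, Bool.and_eq_true, Nat.beq_eq] at hP
  obtain ⟨⟨⟨⟨hn, hNI⟩, hNJ⟩, hZ⟩, hT⟩ := hP
  have eI := eqL_eq hNI
  rw [← hn] at eI
  have eJ := eqL_eq hNJ
  rw [outer_eq, eqL_eq hZ, eqL_eq hT, List.map_map, histVec]
  simp only [histCount, pow_mul]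
  rw [sum_swap (2 ^ 48) fun k a => (tList s').countP fun b =>
    Nat.beq (tgt s s' a b) zv && Nat.beq (common s a s' b) k]
  rw [← ((zFast_perm h).map _).sum_eq]
  refine congrArg List.sum (List.map_congr_left fun a ha => ?_)
  have ha' : a < 2048 := (mem_zList.1 ha).1
  rw [sum_countP_pow _ _ _ _ (common_le s a s'), Function.comp_apply, inner_eq, List.map_map,
    ← ((tFast_perm h').map _).sum_eq]
  refine congrArg List.sum (List.map_congr_left fun b hb => ?_)
  have hb' : b < 2048 := (mem_tList.1 hb).1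
  have hlt : ∀ c, enc P.NI c < 2048 := enc_lt_of fun x hx => by
    rw [eI] at hx
    obtain ⟨j, hj, rfl⟩ := List.mem_map.1 hx
    exact nrm_lt _ _ (Nat.pow_lt_pow_right (by norm_num) (List.mem_range.1 hj))
  have hx : enc P.NI (ap s b) ^^^ zv < 2048 := Nat.xor_lt_two_pow (n := 11) (hlt _) (by decide +kernel)
  have e1 : (enc P.NI a + 2048 * coset a) % 2048 = enc P.NI a ∧
      (enc P.NI a + 2048 * coset a) / 2048 = coset a := by
    have := hlt a; omega
  have e2 : ((enc P.NJ b ^^^ zv) + 2048 * coset b) % 2048 = enc P.NI (ap s b) ^^^ zv ∧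
      ((enc P.NJ b ^^^ zv) + 2048 * coset b) / 2048 = coset b := by
    rw [ap_enc eJ hb']
    generalize enc P.NI (ap s b) ^^^ zv = x at hx ⊢
    omega
  simp only [Function.comp_apply, e1.1, e1.2, e2.1, e2.2]
  have hnrm : tgt s s' a b = enc P.NI a ^^^ enc P.NI (ap s b) := by
    rw [tgt, nrm_xor, nrm_enc eI ha', nrm_enc eI (ap_lt s b)]
  have hkey : Nat.beq (tgt s s' a b) zv = Nat.beq (enc P.NI (ap s b) ^^^ zv) (enc P.NI a) := by
    rw [hnrm, Bool.eq_iff_iff, Nat.beq_eq, Nat.beq_eq]
    constructor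
    · intro e; rw [← e, ← Nat.xor_assoc, Nat.xor_comm (enc P.NI (ap s b)), Nat.xor_assoc, Nat.xor_self, Nat.xor_zero]
    · intro e; rw [← e, Nat.xor_comm (enc P.NI (ap s b) ^^^ zv), ← Nat.xor_assoc, Nat.xor_self, Nat.zero_xor]
  rw [hkey, common_eq hs hs' h h' ha' hb', pow_mul]

end

theorem histCount_lt (k : ℕ) (s s' : El) : histCount k s s' ≤ 2048 * 2048 := by
  rw [histCount]
  have hz : (zList s).length ≤ 2048 := (List.length_filter_le _ _).trans (by simp [vecs])
  have ht : (tList s').length ≤ 2048 := (List.length_filter_le _ _).trans (by simp [vecs])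
  refine le_trans (List.sum_le_card_nsmul _ 2048 fun x hx => ?_) ?_
  · obtain ⟨a, -, rfl⟩ := List.mem_map.1 hx
    exact List.countP_le_length.trans ht
  · rw [List.length_map, smul_eq_mul]
    exact Nat.mul_le_mul_right _ hz

end Cfsg.Agent.J4Order.ZCert
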