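import Cfsg.Agent.Lib.J4Order.SiChecks
import Cfsg.Agent.Lib.J4Order.ZData

/-!
# Janko four type: checks of the certificates of elements, part 0
-/

set_option autoImplicit false
set_option maxRecDepth 20000

namespace Cfsg.Agent.J4Order.ZData

open Cfsg.Agent.J4Order.ZCert

theorem zels0_ok :
    zels0.all (fun p => Nat.blt p.1 SiSpec.num && elCert (SiSpec.e p.1) p.2) = true := by decide +kernel

end Cfsg.Agent.J4Order.ZData
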