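import Cfsg.Agent.Lib.J4Order.SiChecks
import Cfsg.Agent.Lib.J4Order.ZData

/-!
# Janko four type: rows of histograms over the roots

A row is the root of an orbit of a centraliser with its length, the places of the two certificates, the
certificate of the pair and the histogram in one number.
-/

set_option autoImplicit false

namespace Cfsg.Agent.J4Order.ZData

open Cfsg.Agent.J4Order.ZCert

/-- A row. -/
structure Row where
  j : ℕ
  size : ℕ
  pz : ℕ
  pt : ℕ
  cert : PairC
  val : ℕ

/-- A certificate by place. -/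
def zelAt (p : ℕ) : ℕ × ZEl := zels.getD p (0, ⟨⟨0, 0, [], [], [], []⟩, [], []⟩)

/-- The check of a row. -/
def rowOK (r : ℕ) (q : Row) : Bool :=
  Nat.beq (zelAt q.pz).1 r && Nat.beq (zelAt q.pt).1 q.j && Nat.blt q.pz zels.length && Nat.blt q.pt zels.length &&
    pairOK (SiSpec.e r) (SiSpec.e q.j) (zelAt q.pz).2 (zelAt q.pt).2 q.cert &&
    Nat.beq (outer (zelAt q.pz).2.msk (zelAt q.pt).2.msk q.cert.TK q.cert.ZK) q.val

end Cfsg.Agent.J4Order.ZData
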