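import Cfsg.Agent.Lib.J4Order.SiChecks
import Cfsg.Agent.Lib.J4Order.ZRow

/-!
# Janko four type: histograms of pairs over root 5, part 1
Produced by a search outside Lean; every entry is checked here.
-/

set_option autoImplicit false
set_option linter.style.longLine false
set_option maxRecDepth 100000

namespace Cfsg.Agent.J4Order.ZData

open Cfsg.Agent.J4Order.ZCert

/-- The rows. -/
def row5_1 : List Row := [
  ⟨1503, 1, 35, 133, ⟨2, [0, 7, 7, 757, 1631, 754, 1194, 1, 1, 1, 1], [0, 7, 7, 757, 1631, 754, 1194, 1, 1, 1, 1],
    [0, 0, 0, 0, 0, 0, 0, 0, 0, 0, 0, 0, 0, 0, 0, 0],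
    [7, 0, 0, 0, 0, 7, 2802, 2802, 2805, 2805, 5720, 5720, 5727, 5727, 7341, 2805, 2805, 2802, 2802, 0, 0, 7338, 9389, 9389, 9386, 9386, 11864, 13042, 14343, 11871, 14343, 13042, 16390, 16390, 16385, 16385, 19187, 22105, 23724, 19188, 23723, 22110, 25772, 28254, 29428, 28254, 25772, 29427, 16390, 16390, 16385, 16385, 19187, 22105, 23724, 19188, 23723, 22110, 25772, 28249, 29427, 30721, 30721, 30726, 30726, 28249, 25772, 29428, 7, 7, 7341, 0, 0, 7338, 5727, 5727, 5720, 5720, 11871, 13045, 14343, 11864, 14343, 13045, 30726, 30726, 30721, 30721, 29427, 28249, 25771, 29428, 25771, 28249, 23724, 22105, 19188, 22110, 23723, 19187, 14343, 13042, 11871, 13042, 14343, 11864, 7338, 2802, 2805, 2805, 2802, 0, 0, 7341, 7, 7, 2805, 2802, 2802, 2805, 14343, 13045, 11864, 13045, 14343, 9389, 9389, 9386, 9386, 11871, 7338, 7, 7, 7341, 0, 0, 29428, 28254, 25771, 29427, 25771, 28254, 23724, 22105, 19188, 22110, 23723, 19187, 16390, 16390, 16385, 16385, 19187, 22105, 23723, 19188, 23724, 22110, 25772, 28249, 29428, 28249, 25772, 30721, 30726, 30726, 30721, 29427, 7, 7, 7338, 7, 7, 7341, 11871, 13042, 14343, 11864, 9386, 9389,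 9389, 9386, 14343, 13042, 7, 7, 7338, 7, 7, 7341, 11864, 13045, 14343, 11871, 14343, 13045, 16385, 16385, 16390, 16390, 19187, 22105, 23723, 19188, 23724, 22110, 25772, 28254, 29427, 28254, 25772, 29428, 14343, 13042, 11864, 13042, 14343, 11871, 7341, 5727, 5727, 5720, 5720, 7, 7, 7338, 7, 7, 29427, 28254, 25771, 29428, 25771, 28254, 23723, 22105, 19188, 22110, 23724, 19187, 29428, 28249, 25771, 29427, 30721, 30726, 30726, 30721, 25771, 28249, 23723, 22105, 19188, 22110, 23724, 19187, 14343, 13045, 11871, 9389, 9386, 9386, 9389, 13045, 14343, 11864, 7341, 0, 0, 5727, 5727, 5720, 5720, 7338, 0, 0]⟩, 0x100000000000000000000000000000000000000000000000000000000000000000000000000000000000000000000000000000000000000000000000000000000000000000000000000000000000000000000000000000000000000000000000000000000000000000000000000000000000000000000000000000000000000000000000000000000000000000000000000000000000000000000000000000000000000000000000000000000000000000000000000000000000000000000000000000000000000000000000000000000000000000000000000000000000000000000000000000000000000000000000000000000000000000000000000000000000000000000000000000000000000000000000000000000000000000000000000000000000000000000000000000000000000000000000000000000000000000000000000000000000000000000000000000000000000000000000000000000000000000000000000000000000000000000000000000000000000000000000000000000000000000000000000000000000000000000000000000000000000000000000000000000000000000000000000000000000000000000000000000000000000000000000000000000000000⟩]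

theorem row5_1_ok : row5_1.all (rowOK 58) = true := by decide +kernel

end Cfsg.Agent.J4Order.ZData
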