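import Cfsg.Agent.Lib.J4Order.SiList
import Cfsg.Agent.Lib.J4Order.ZRow0_0
import Cfsg.Agent.Lib.J4Order.ZRow0_1
import Cfsg.Agent.Lib.J4Order.ZRow0_2
import Cfsg.Agent.Lib.J4Order.ZRow0_3
import Cfsg.Agent.Lib.J4Order.ZRow1_0
import Cfsg.Agent.Lib.J4Order.ZRow1_1
import Cfsg.Agent.Lib.J4Order.ZRow2_0
import Cfsg.Agent.Lib.J4Order.ZRow2_1
import Cfsg.Agent.Lib.J4Order.ZRow3_0
import Cfsg.Agent.Lib.J4Order.ZRow3_1
import Cfsg.Agent.Lib.J4Order.ZRow4_0
import Cfsg.Agent.Lib.J4Order.ZRow5_0
import Cfsg.Agent.Lib.J4Order.ZRow5_1
import Cfsg.Agent.Lib.J4Order.ZRow6_0
import Cfsg.Agent.Lib.J4Order.ZRow6_1
import Cfsg.Agent.Lib.J4Order.ZRow6_2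
import Cfsg.Agent.Lib.J4Order.ZRow6_3
import Cfsg.Agent.Lib.J4Order.ZRow6_4
import Cfsg.Agent.Lib.J4Order.ZRow6_5
import Cfsg.Agent.Lib.J4Order.ZRow6_6
import Cfsg.Agent.Lib.J4Order.ZEl0
import Cfsg.Agent.Lib.J4Order.ZEl1
import Cfsg.Agent.Lib.J4Order.ZEl2
import Cfsg.Agent.Lib.J4Order.ZEl3

/-!
# Janko four type: the histogram over the pairs of the list, in one number
-/

set_option autoImplicit false
set_option linter.style.longLine false
set_option maxRecDepth 20000

namespace Cfsg.Agent.J4Order.ZData

open Cfsg.Agent.J4Order.Model Cfsg.Agent.J4Order.ZCert
open Cfsg.Agent.J4Order.SiSpec (num Si)

theorem all_four {α : Type} {f : α → Bool} {a b c d : List α} (ha : a.all f = true) (hb : b.all f = true)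
    (hc : c.all f = true) (hd : d.all f = true) : (a ++ b ++ c ++ d).all f = true := by
  simp [ha, hb, hc, hd]

theorem getD_all {α : Type} {f : α → Bool} {l : List α} (h : l.all f = true) {p : ℕ} (hp : p < l.length) (x : α) :
    f (l.getD p x) = true := by
  rw [List.getD_eq_getElem _ _ hp]
  exact List.all_eq_true.1 h _ (List.getElem_mem hp)

theorem zels_all : zels.all (fun p => Nat.blt p.1 SiSpec.num && elCert (SiSpec.e p.1) p.2) = true :=
  all_four zels0_ok zels1_ok zels2_ok zels3_ok

theorem spec_of_and {a b : ℕ} {c : Bool} (h : (Nat.blt a b && c) = true) : a < b ∧ c = true := by
  simpa using h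

theorem zels_spec {p : ℕ} (hp : p < zels.length) :
    (zelAt p).1 < num ∧ elCert (SiSpec.e (zelAt p).1) (zelAt p).2 = true :=
  spec_of_and (getD_all zels_all hp _)

theorem blocksVal_rows (F : ℕ → ℕ) {bs : List (ℕ × List ℕ)} {rows : List Row}
    (hsh : bs.map (fun b => (b.1, b.2.length + 1)) = rows.map fun q => (q.j, q.size))
    (hF : ∀ q ∈ rows, F q.j = q.val) : blocksVal F bs = (rows.map fun q => q.size * q.val).sum := by
  rw [blocksVal_eq, hsh, List.map_map]
  exact congrArg List.sum (List.map_congr_left fun q hq => by rw [Function.comp_apply, hF q hq])

theorem row_val {r : ℕ} (hr : r < num) {q : Row} (h : rowOK r q = true) :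
    histVec (SiSpec.e r) (SiSpec.e q.j) = q.val := by
  simp only [rowOK, Bool.and_eq_true, Nat.beq_eq, Nat.blt_eq] at h
  obtain ⟨⟨⟨⟨⟨h1, h2⟩, h3⟩, h4⟩, h5⟩, h6⟩ := h
  obtain ⟨-, c1⟩ := zels_spec h3
  obtain ⟨j1, c2⟩ := zels_spec h4
  rw [h1] at c1
  rw [h2] at c2 j1
  exact (histVec_eq (SiSpec.e_ok hr) (SiSpec.e_ok j1) c1 c2 h5).trans h6

/-- The value over a root. -/
theorem root_val {r : ℕ} (hr : r < num) {bs : List (ℕ × List ℕ)} {rows : List Row}
    (hsh : bs.map (fun b => (b.1, b.2.length + 1)) = rows.map fun q => (q.j, q.size))
    (hok : rows.all (rowOK r) = true) :
    blocksVal (fun j => histVec (SiSpec.e r) (SiSpec.e j)) bs = (rows.map fun q => q.size * q.val).sum :=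
  blocksVal_rows (fun j => histVec (SiSpec.e r) (SiSpec.e j)) hsh fun q hq =>
    row_val hr (List.all_eq_true.1 hok q hq)

/-- The rows over a root. -/
def rows0 : List Row := row0_0 ++ row0_1 ++ row0_2 ++ row0_3

theorem shape0 : SiData.inner0.map (fun b => (b.1, b.2.length + 1)) = rows0.map fun q => (q.j, q.size) := by
  decide +kernel

theorem rows0_ok : rows0.all (rowOK 0) = true := by
  simp only [rows0, List.all_append, row0_0_ok, row0_1_ok, row0_2_ok, row0_3_ok, Bool.and_self]

theorem val0 : blocksVal (fun j => histVec (SiSpec.e 0) (SiSpec.e j)) SiData.inner0 = 0x1c0000000000000000000000000000000000000000000000100000000000000000000000000000000000000000000000b00000000000000000000003c000000000040000000000070000000000000000 :=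
  (root_val (by decide) shape0 rows0_ok).trans (by decide +kernel)

/-- The rows over a root. -/
def rows1 : List Row := row1_0 ++ row1_1

theorem shape1 : SiData.inner1.map (fun b => (b.1, b.2.length + 1)) = rows1.map fun q => (q.j, q.size) := by
  decide +kernel

theorem rows1_ok : rows1.all (rowOK 3) = true := by
  simp only [rows1, List.all_append, row1_0_ok, row1_1_ok, Bool.and_self]

theorem val1 : blocksVal (fun j => histVec (SiSpec.e 3) (SiSpec.e j)) SiData.inner1 = 0x810000000000000000000000000000000000000000000000000000000000000000000000000000000000000000000000000000000000000000000000000000000000000000000000000000000000000000000000000000000000000000000003000000000000000000000000000000000000000000000000000000000000000 :=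
  (root_val (by decide) shape1 rows1_ok).trans (by decide +kernel)

/-- The rows over a root. -/
def rows2 : List Row := row2_0 ++ row2_1

theorem shape2 : SiData.inner2.map (fun b => (b.1, b.2.length + 1)) = rows2.map fun q => (q.j, q.size) := by
  decide +kernel

theorem rows2_ok : rows2.all (rowOK 4) = true := by
  simp only [rows2, List.all_append, row2_0_ok, row2_1_ok, Bool.and_self]

theorem val2 : blocksVal (fun j => histVec (SiSpec.e 4) (SiSpec.e j)) SiData.inner2 = 0x102000000000000000000000000000000000000000000000000000000000000000000000000000000000000000000000000000000000000000000000000000000000000000000000000000000000000000000000000000000000000000000000c000000000000000000000000000000000000000000000000000000000000000 :=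
  (root_val (by decide) shape2 rows2_ok).trans (by decide +kernel)

/-- The rows over a root. -/
def rows3 : List Row := row3_0 ++ row3_1

theorem shape3 : SiData.inner3.map (fun b => (b.1, b.2.length + 1)) = rows3.map fun q => (q.j, q.size) := by
  decide +kernel

theorem rows3_ok : rows3.all (rowOK 9) = true := by
  simp only [rows3, List.all_append, row3_0_ok, row3_1_ok, Bool.and_self]

theorem val3 : blocksVal (fun j => histVec (SiSpec.e 9) (SiSpec.e j)) SiData.inner3 = 0x10000000000000000000000000000000000000000000000000000000000000000000000000000000000000000000000000000000000000000000003000000000004000000000000000000000000000 :=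
  (root_val (by decide) shape3 rows3_ok).trans (by decide +kernel)

/-- The rows over a root. -/
def rows4 : List Row := row4_0

theorem shape4 : SiData.inner4.map (fun b => (b.1, b.2.length + 1)) = rows4.map fun q => (q.j, q.size) := by
  decide +kernel

theorem rows4_ok : rows4.all (rowOK 53) = true := by
  simp only [rows4, List.all_append, row4_0_ok, Bool.and_self]

theorem val4 : blocksVal (fun j => histVec (SiSpec.e 53) (SiSpec.e j)) SiData.inner4 = 0xb00000000000000000000000000000000000000000000000000000000000000000000000000000000000000000000000000000000000000000000000000000000000000000000000000000000000000000000000000000000000000000000000000000000000000000000000000000000000000000000000000000000000000000000000000000000000000000000000000000000000000000000000000000000000000000000000000000000000000000000000000000000000000000000000000000000000000000000000000000000000000000000000000000000000000000000000000000000000000000000000000000000000000000000000000000000000000000000000000000000000000000000000000000000000000000000000000000000000000000000000000000000000000000000000000000000000000000000000000000000000000000000000000000000000000000000000000000000000000000000000000000000000000000000000000000000000000000000000f000000000000000000000000000000000000000000000000000000000000000000000000000000000000000000000078000000000000000000000000000000000000000000000000000000000000000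 :=
  (root_val (by decide) shape4 rows4_ok).trans (by decide +kernel)

/-- The rows over a root. -/
def rows5 : List Row := row5_0 ++ row5_1

theorem shape5 : SiData.inner5.map (fun b => (b.1, b.2.length + 1)) = rows5.map fun q => (q.j, q.size) := by
  decide +kernel

theorem rows5_ok : rows5.all (rowOK 58) = true := by
  simp only [rows5, List.all_append, row5_0_ok, row5_1_ok, Bool.and_self]

theorem val5 : blocksVal (fun j => histVec (SiSpec.e 58) (SiSpec.e j)) SiData.inner5 = 0x5800000000000000000000000000000000000000000000000000000000000000000000000000000000000000000000000000000000000000000000000000000000000000000000000000000000000000000000000000000000000000000000000000000000000000000000000000000000000000000000000000000000000000000000000000000000000000000000000000000000000000000000000000000000000000000000000000000000000000000000000000000000000000000000000000000000000000000000000000000000000000000000000000000000000000000000000000000000000000000000000000000000000000000000000000000000000000000000000000000000000000000000000000000000000000000000000000000000000000000000000000000000000000000000000000000000000000000000000000000000000000000000000000000000000000000000000000000000000000000000000000000000000000000000000000000000000000000000005800000000000000000000000000000000000000000000000000000000000000000000000000000000000000000000048000000000000000000000000000000000000000000000000000000000000000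 :=
  (root_val (by decide) shape5 rows5_ok).trans (by decide +kernel)

/-- The rows over a root. -/
def rows6 : List Row := row6_0 ++ row6_1 ++ row6_2 ++ row6_3 ++ row6_4 ++ row6_5 ++ row6_6

theorem shape6 : SiData.inner6.map (fun b => (b.1, b.2.length + 1)) = rows6.map fun q => (q.j, q.size) := by
  decide +kernel

theorem rows6_ok : rows6.all (rowOK 1503) = true := by
  simp only [rows6, List.all_append, row6_0_ok, row6_1_ok, row6_2_ok, row6_3_ok, row6_4_ok, row6_5_ok, row6_6_ok, Bool.and_self]

theorem val6 : blocksVal (fun j => histVec (SiSpec.e 1503) (SiSpec.e j)) SiData.inner6 = 0x1ef000000000000000000000000000000000000000000000000000000000000000000000000000000000000000000000000000000000000000000000000000000000000000000000000000000000000000000000000000000000000000000000000000000000000000000000000000000000000000000000000000000000000000000000000000000000000000000000000000000000000000000000000000000000000000000000000000000000000000000000000000000000000000000000000000000000000000000000000000000000000000000000000000000000000000000000000000000000000000000000000000000000000000000000000000000000000000000000000000000000000000000000000000000000000000000000000000000000000000000000000000000000000000000000000000000000000000000000000000000000000000000000000000000000000000000000000000000000000000000000000000000000000000000000000000000000000000000000924f0000000000000000000000000000000000000000000043800000000000000000000000000000000000000000000087000000000000000000000000000000000000000000000000000000000000000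 :=
  (root_val (by decide) shape6 rows6_ok).trans (by decide +kernel)

theorem pairVal_zip (Φ : El → El → ℕ) {os : List (ℕ × ℕ)}
    (h : SiData.outer.map (fun b => (b.1, b.2.length + 1)) = os) :
    SiSpec.pairVal Φ = ((os.zip SiSpec.inners).map fun q =>
      q.1.2 * blocksVal (fun j => Φ (SiSpec.e q.1.1) (SiSpec.e j)) q.2.2).sum := by
  rw [← h, SiSpec.pairVal, List.zip_map_left, List.map_map]
  rfl

theorem outer_roots : SiData.outer.map (fun b => (b.1, b.2.length + 1)) = [(0, 540), (3, 360), (4, 360), (9, 180), (53, 18), (58, 45), (1503, 1)] := by decide +kernel

/-- The number of pairs with so many common classes. -/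
def nkv : ℕ → ℕ
  | 1 => 247726080
  | 2 => 144506880
  | 3 => 134922240
  | 5 => 69120000
  | 9 => 2488320
  | 13 => 6592560
  | 21 => 2229120
  | 77 => 1951488
  | _ => 0

theorem pairVal_seven (Φ : El → El → ℕ) : SiSpec.pairVal Φ = 540 * blocksVal (fun j => Φ (SiSpec.e 0) (SiSpec.e j)) SiData.inner0 + (360 * blocksVal (fun j => Φ (SiSpec.e 3) (SiSpec.e j)) SiData.inner1 + (360 * blocksVal (fun j => Φ (SiSpec.e 4) (SiSpec.e j)) SiData.inner2 + (180 * blocksVal (fun j => Φ (SiSpec.e 9) (SiSpec.e j)) SiData.inner3 + (18 * blocksVal (fun j => Φ (SiSpec.e 53) (SiSpec.e j)) SiData.inner4 + (45 * blocksVal (fun j => Φ (SiSpec.e 58) (SiSpec.e j)) SiData.inner5 + (1 * blocksVal (fun j => Φ (SiSpec.e 1503) (SiSpec.e j)) SiData.inner6 + 0)))))) := by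
  rw [pairVal_zip Φ outer_roots, SiSpec.inners]
  simp only [List.zip_cons_cons, List.zip_nil_right, List.map_cons, List.map_nil, List.sum_cons, List.sum_nil]

theorem target_eq : 540 * 0x1c0000000000000000000000000000000000000000000000100000000000000000000000000000000000000000000000b00000000000000000000003c000000000040000000000070000000000000000 + (360 * 0x810000000000000000000000000000000000000000000000000000000000000000000000000000000000000000000000000000000000000000000000000000000000000000000000000000000000000000000000000000000000000000000003000000000000000000000000000000000000000000000000000000000000000 + (360 * 0x102000000000000000000000000000000000000000000000000000000000000000000000000000000000000000000000000000000000000000000000000000000000000000000000000000000000000000000000000000000000000000000000c000000000000000000000000000000000000000000000000000000000000000 + (180 * 0x10000000000000000000000000000000000000000000000000000000000000000000000000000000000000000000000000000000000000000000003000000000004000000000000000000000000000 + (18 * 0xb000000000000000000000000000000000000000000000000000000000000000000000000000000000000000000000000000000000000000000000000000000000000000000000000000000000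00000000000000000000000000000000000000000000000000000000000000000000000000000000000000000000000000000000000000000000000000000000000000000000000000000000000000000000000000000000000000000000000000000000000000000000000000000000000000000000000000000000000000000000000000000000000000000000000000000000000000000000000000000000000000000000000000000000000000000000000000000000000000000000000000000000000000000000000000000000000000000000000000000000000000000000000000000000000000000000000000000000000000000000000000000000000000000000000000000000000000000000000000000000000000000000000000000000000000000000000000000000000000f000000000000000000000000000000000000000000000000000000000000000000000000000000000000000000000078000000000000000000000000000000000000000000000000000000000000000 + (45 * 0x5800000000000000000000000000000000000000000000000000000000000000000000000000000000000000000000000000000000000000000000000000000000000000000000000000000000000000000000000000000000000000000000000000000000000000000000000000000000000000000000000000000000000000000000000000000000000000000000000000000000000000000000000000000000000000000000000000000000000000000000000000000000000000000000000000000000000000000000000000000000000000000000000000000000000000000000000000000000000000000000000000000000000000000000000000000000000000000000000000000000000000000000000000000000000000000000000000000000000000000000000000000000000000000000000000000000000000000000000000000000000000000000000000000000000000000000000000000000000000000000000000000000000000000000000000000000000000000000005800000000000000000000000000000000000000000000000000000000000000000000000000000000000000000000048000000000000000000000000000000000000000000000000000000000000000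 + (1 * 0x1ef000000000000000000000000000000000000000000000000000000000000000000000000000000000000000000000000000000000000000000000000000000000000000000000000000000000000000000000000000000000000000000000000000000000000000000000000000000000000000000000000000000000000000000000000000000000000000000000000000000000000000000000000000000000000000000000000000000000000000000000000000000000000000000000000000000000000000000000000000000000000000000000000000000000000000000000000000000000000000000000000000000000000000000000000000000000000000000000000000000000000000000000000000000000000000000000000000000000000000000000000000000000000000000000000000000000000000000000000000000000000000000000000000000000000000000000000000000000000000000000000000000000000000000000000000000000000000000000924f0000000000000000000000000000000000000000000043800000000000000000000000000000000000000000000087000000000000000000000000000000000000000000000000000000000000000 + 0)))))) = ∑ k ∈ Finset.range 78, nkv k * 2 ^ (48 * k) := by decide +kernel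

theorem pairVal_hist : SiSpec.pairVal histVec = ∑ k ∈ Finset.range 78, nkv k * 2 ^ (48 * k) := by
  rw [pairVal_seven histVec, val0, val1, val2, val3, val4, val5, val6, target_eq]

theorem histVec_inv (hinv : ∀ k, SiSpec.Inv (Part.histCount k)) : SiSpec.Inv histVec :=
  fun g hg s hs s2 hs2 u hu u2 hu2 h1 h2 =>
    Finset.sum_congr rfl fun k _ => by rw [hinv k g hg s hs s2 hs2 u hu u2 hu2 h1 h2]

theorem digits {B : ℕ} (hB : 0 < B) : ∀ {n : ℕ} {f g : ℕ → ℕ}, (∀ k < n, f k < B) → (∀ k < n, g k < B) →
    ∑ k ∈ Finset.range n, f k * B ^ k = ∑ k ∈ Finset.range n, g k * B ^ k → ∀ k < n, f k = g k
  | 0, _, _, _, _, _, k, hk => absurd hk (Nat.not_lt_zero k)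
  | n + 1, f, g, hf, hg, h, k, hk => by
    have key : ∀ F : ℕ → ℕ, ∑ k ∈ Finset.range (n + 1), F k * B ^ k =
        F 0 + B * ∑ k ∈ Finset.range n, F (k + 1) * B ^ k := fun F => by
      rw [Finset.sum_range_succ', Finset.mul_sum, pow_zero, mul_one, add_comm]
      congr 1
      exact Finset.sum_congr rfl fun k _ => by ring
    rw [key, key] at h
    have e0 : f 0 = g 0 := by
      have := congrArg (· % B) h
      simpa [Nat.add_mul_mod_self_left, Nat.mod_eq_of_lt (hf 0 (Nat.succ_pos n)),
        Nat.mod_eq_of_lt (hg 0 (Nat.succ_pos n))] using this
    rcases k with _ | k
    · exact e0
    · rw [e0, Nat.add_left_cancel_iff, Nat.mul_left_cancel_iff hB] at h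
      exact digits hB (fun k hk => hf (k + 1) (by omega)) (fun k hk => hg (k + 1) (by omega)) h k (by omega)

section

attribute [local irreducible] Part.histCount histVec SiSpec.e SiSpec.pairVal

/-- The histogram over the list. -/
theorem histTotal_eq (hinv : ∀ k, SiSpec.Inv (Part.histCount k)) {k : ℕ} (hk : k < 78) :
    Part.histTotal k Si = nkv k := by
  have hT : ∀ k, Part.histTotal k Si =
      ∑ i ∈ Finset.range num, ∑ j ∈ Finset.range num, Part.histCount k (SiSpec.e i) (SiSpec.e j) := fun k => by
    simp only [Part.histTotal, Si, List.map_map, Function.comp_def, sum_range_list]
  refine digits (B := 2 ^ 48) (n := 78) (f := fun k => Part.histTotal k Si) (g := nkv) (by norm_num)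
    (fun m _ => ?_) (fun m hm => ?_) ?_ k hk
  · rw [hT]
    calc _ ≤ ∑ i ∈ Finset.range num, ∑ j ∈ Finset.range num, 2048 * 2048 :=
          Finset.sum_le_sum fun i _ => Finset.sum_le_sum fun j _ => histCount_lt m _ _
      _ < 2 ^ 48 := by
          simp only [Finset.sum_const, Finset.card_range, smul_eq_mul, num]
          norm_num
  · revert m
    decide +kernel
  · have e : ∑ m ∈ Finset.range 78, Part.histTotal m Si * (2 ^ 48) ^ m =
        ∑ i ∈ Finset.range num, ∑ j ∈ Finset.range num, histVec (SiSpec.e i) (SiSpec.e j) := by
      unfold histVec
      simp only [hT, Finset.sum_mul, ← pow_mul]
      rw [Finset.sum_comm]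
      exact Finset.sum_congr rfl fun i _ => Finset.sum_comm
    rw [e, SiSpec.pair_sum (histVec_inv hinv), pairVal_hist]
    simp only [← pow_mul]

end

end Cfsg.Agent.J4Order.ZData
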